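import Groth.Agent.CohqB.RelVan
import Groth.Agent.CohqB.LocalQC
import Groth.Agent.Ega3B.TensRestrict
import Groth.Agent.Ega4B.RpushCompare

/-!
# From uniform vanishing over affine opens of the base to the vanishing of `R^i f_*`
-/

set_option autoImplicit false
universe u
open CategoryTheory CategoryTheory.Limits AlgebraicGeometry Opposite TopologicalSpace
open Groth.Agent

namespace K946.AffToR

theorem exists_uniform {X S : Scheme.{u}} (f : X ⟶ S) [IsProper f] [IsNoetherian S]
    [HasInjectiveResolutions X.Modules] {κ : Type*} (T : κ → X.Modules) (hT : ∀ k, Coh.IsQCoh (T k))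
    (I : ℕ → Prop) (rel : ℕ → κ → Prop) (hrel : ∀ n n' k, n ≤ n' → rel n' k → rel n k)
    (h : ∀ W : S.Opens, IsAffineOpen W → ∃ n : ℕ, ∀ k, rel n k → ∀ i, I i →
      Subsingleton (Coh.HH (f ⁻¹ᵁ W) ((T k).restrict (f ⁻¹ᵁ W).ι) i)) :
    ∃ n : ℕ, ∀ k, rel n k → ∀ i, I i → IsZero ((Coh.Rpush f i).obj (T k)) := by
  choose N hN using fun W : S.affineOpens => h W.1 W.2
  obtain ⟨t, ht⟩ := CompactSpace.elim_nhds_subcover (X := S)
    (fun x => ((exists_isAffineOpen_mem_and_subset (x := x) (U := ⊤) trivial).choose : Set S))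
    (fun x => (exists_isAffineOpen_mem_and_subset (x := x) (U := ⊤) trivial).choose.isOpen.mem_nhds
      (exists_isAffineOpen_mem_and_subset (x := x) (U := ⊤) trivial).choose_spec.2.1)
  let W : S → S.affineOpens := fun x =>
    ⟨(exists_isAffineOpen_mem_and_subset (x := x) (U := ⊤) trivial).choose,
      (exists_isAffineOpen_mem_and_subset (x := x) (U := ⊤) trivial).choose_spec.1⟩
  refine ⟨t.sup fun x => N (W x), fun k hk i hi => ?_⟩
  refine (Ega4B.RpushCompare.isZero_rpush_iff f (T k) i).2 ?_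
  refine CohqB.RelVan.isZero_RpushAb_of_cover f _ (hT k) i fun x => ?_
  have hx : x ∈ ⋃ y ∈ t, ((W y).1 : Set S) := by
    rw [show (⋃ y ∈ t, ((W y).1 : Set S)) = ⊤ from ht]
    trivial
  simp only [Set.mem_iUnion] at hx
  obtain ⟨y, hy, hxy⟩ := hx
  exact ⟨(W y).1, hxy, (W y).2,
    hN (W y) k (hrel _ _ k (Finset.le_sup (f := fun x => N (W x)) hy) hk) i hi⟩

end K946.AffToR
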