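import Mathlib.Algebra.Module.Torsion.Basic
import Mathlib.RingTheory.Length
import Mathlib.RingTheory.Localization.AtPrime.Basic

/-!
# The length of the graded pieces of a local ring
-/

set_option autoImplicit false
universe u

namespace K946.AlgLen

open IsLocalRing

section

variable {B R A : Type u} [CommRing B] [CommRing R] [IsLocalRing R] [Algebra B R] (J : Ideal B) [J.IsMaximal]
  [IsLocalization.AtPrime R J]

theorem mem_pow_iff (n : ℕ) (b : B) : algebraMap B R b ∈ maximalIdeal R ^ n ↔ b ∈ J ^ n := by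
  rw [← Ideal.Quotient.eq_zero_iff_mem, ← IsLocalization.AtPrime.equivQuotMaximalIdealPow_apply_mk J R n b,
    EmbeddingLike.map_eq_zero_iff, Ideal.Quotient.eq_zero_iff_mem]

include J in
theorem exists_sub_mem (n : ℕ) (y : R) : ∃ b : B, algebraMap B R b - y ∈ maximalIdeal R ^ n := by
  obtain ⟨b, hb⟩ := (IsLocalization.AtPrime.equivQuotMaximalIdealPow J R n).surjective (Ideal.Quotient.mk _ y)
  obtain ⟨b, rfl⟩ := Ideal.Quotient.mk_surjective b
  rw [IsLocalization.AtPrime.equivQuotMaximalIdealPow_apply_mk] at hb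
  exact ⟨b, (Ideal.Quotient.eq).1 hb⟩

omit [IsLocalRing R] in
theorem mem_smul_top_iff (n : ℕ) (I : Ideal R) (x : ↥(I ^ n)) :
    x ∈ I • (⊤ : Submodule R ↥(I ^ n)) ↔ x.1 ∈ I ^ (n + 1) := by
  have h1 : (I • (⊤ : Submodule R ↥(I ^ n))).map (I ^ n).subtype = I ^ (n + 1) := by
    rw [Submodule.map_smul'', Submodule.map_top, Submodule.range_subtype, pow_succ, mul_comm]
    rfl
  rw [← h1]
  constructor
  · intro h
    exact ⟨x, h, rfl⟩
  · rintro ⟨y, hy, hyx⟩
    have : y = x := Subtype.ext hyx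
    exact this ▸ hy

/-- The graded piece. -/
abbrev Qn (R : Type u) [CommRing R] [IsLocalRing R] (n : ℕ) : Type u :=
  ↥(maximalIdeal R ^ n) ⧸ (maximalIdeal R • (⊤ : Submodule R ↥(maximalIdeal R ^ n)))

theorem length_eq [CommRing A] {H : Type u} [AddCommGroup H] [Module A H]
    (θ : B →+* A) (hθ : Function.Surjective θ) (n : ℕ) (κ : ↥(J ^ n) →+ H)
    (hsm : ∀ (b : B) (x : ↥(J ^ n)), κ (b • x) = θ b • κ x) (hκ : Function.Surjective κ)
    (hker : ∀ x : ↥(J ^ n), κ x = 0 ↔ x.1 ∈ J ^ (n + 1)) :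
    Module.length R (↥(maximalIdeal R ^ n) ⧸ (maximalIdeal R • (⊤ : Submodule R ↥(maximalIdeal R ^ n)))) =
      Module.length A H := by
  let _ : Module B H := Module.compHom H θ
  let _ : Algebra B A := θ.toAlgebra
  have _ : IsScalarTower B A H := ⟨fun b a h => mul_smul (θ b) a h⟩
  have h1 : Module.length B H = Module.length A H := Module.length_eq_of_surjective hθ
  have h2 : Module.length R (Qn R n) = Module.length (R ⧸ maximalIdeal R) (Qn R n) :=
    Module.length_eq_of_surjective Ideal.Quotient.mk_surjective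
  have _ : IsScalarTower B (R ⧸ maximalIdeal R) (Qn R n) := by
    refine ⟨fun b a x => ?_⟩
    obtain ⟨a, rfl⟩ := Ideal.Quotient.mk_surjective a
    have h3 : b • (Ideal.Quotient.mk (maximalIdeal R) a) = Ideal.Quotient.mk (maximalIdeal R) (b • a) := rfl
    have h4 : ∀ c : R, (Ideal.Quotient.mk (maximalIdeal R) c) • x = c • x := fun c => rfl
    rw [h3, h4, h4, smul_assoc]
  have h3 : Module.length B (Qn R n) = Module.length (R ⧸ maximalIdeal R) (Qn R n) := by
    refine Module.length_eq_of_surjective fun y => ?_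
    obtain ⟨y, rfl⟩ := Ideal.Quotient.mk_surjective y
    obtain ⟨b, hb⟩ := exists_sub_mem (R := R) J 1 y
    rw [pow_one] at hb
    exact ⟨b, Ideal.Quotient.eq.2 hb⟩
  rw [← h1]
  change Module.length R (Qn R n) = _
  rw [h2, ← h3]
  -- the linear maps
  let κ' : ↥(J ^ n) →ₗ[B] H := { κ with map_smul' := hsm }
  let ι : ↥(J ^ n) →ₗ[B] ↥(maximalIdeal R ^ n) :=
    { toFun := fun x => ⟨algebraMap B R x.1, (mem_pow_iff J n x.1).2 x.2⟩
      map_add' := fun x y => Subtype.ext (map_add (algebraMap B R) x.1 y.1)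
      map_smul' := fun b x => Subtype.ext (by
        change algebraMap B R (b * x.1) = b • algebraMap B R x.1
        rw [map_mul, Algebra.smul_def]) }
  let α : ↥(J ^ n) →ₗ[B] (Qn R n) :=
    ((maximalIdeal R • (⊤ : Submodule R ↥(maximalIdeal R ^ n))).mkQ.restrictScalars B) ∘ₗ ι
  have hα : ∀ x : ↥(J ^ n), α x = 0 ↔ x.1 ∈ J ^ (n + 1) := by
    intro x
    have h4 : α x = 0 ↔ ι x ∈ (maximalIdeal R • (⊤ : Submodule R ↥(maximalIdeal R ^ n))) :=
      Submodule.Quotient.mk_eq_zero _
    rw [h4, mem_smul_top_iff, ← mem_pow_iff (R := R) J (n + 1)]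
    exact Iff.rfl
  have hαs : Function.Surjective α := by
    intro y
    obtain ⟨y, rfl⟩ := Submodule.mkQ_surjective _ y
    obtain ⟨b, hb⟩ := exists_sub_mem (R := R) J (n + 1) y.1
    have h5 : algebraMap B R b ∈ maximalIdeal R ^ n := by
      have h6 := add_mem (Ideal.pow_le_pow_right (Nat.le_succ n) hb) y.2
      rwa [sub_add_cancel] at h6
    refine ⟨⟨b, (mem_pow_iff J n b).1 h5⟩, ?_⟩
    refine (Submodule.Quotient.eq _).2 ?_
    rw [mem_smul_top_iff]
    exact hb
  have hk : LinearMap.ker α = LinearMap.ker κ' := by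
    ext x
    rw [LinearMap.mem_ker, LinearMap.mem_ker, hα]
    exact (hker x).symm
  exact LinearEquiv.length_eq ((α.quotKerEquivOfSurjective hαs).symm ≪≫ₗ Submodule.quotEquivOfEq _ _ hk ≪≫ₗ
    (κ'.quotKerEquivOfSurjective hκ))

end

theorem length_eq_finrank {A : Type u} [CommRing A] (hA : IsField A) (H : Type u) [AddCommGroup H] [Module A H]
    [Module.Finite A H] : Module.length A H = (Module.finrank A H : ℕ∞) := by
  let _ := hA.toField
  rw [Module.length_of_free_of_finite, Module.length_eq_one, mul_one]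

end K946.AlgLen
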