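import Groth.Agent.BSB.K946.Comap
import Groth.Agent.EGA2.K42.VALoc
import Groth.Agent.EGA2.K42.VACompA
import Groth.Agent.ZeroCyc.K755.SymClosed
import Groth.Agent.Mor.K385.GenLocusAffine
import Groth.Agent.Ega1.IdealGen
import Groth.Agent.Ega2.AmpleTransfer
import Groth.Agent.BlowUp.K484.StrictClosed
import Groth.Agent.Flat2C.BlowExist
import Groth.Agent.Flat2C.BlowProper

/-!
# The contraction is a blowing up
-/

set_option autoImplicit false
universe u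
open CategoryTheory CategoryTheory.Limits AlgebraicGeometry Opposite TopologicalSpace
open Groth.Agent.Fdesc.LocGen Groth.Agent

namespace K946.Bl

open K946.NormGen K946.IdPow K946.Comap PerfA.IdealModule VarietyB.RestrSeq CohqB.FiniteType2
open Ega2.Nv Divis.BlowChart2

variable {X Y : Scheme.{u}} {I : X.IdealSheafData}

theorem chart_eq_nv (hIE : BlowUp.IsEffCartierIdeal I) (π : X ⟶ Y) (J : Y.IdealSheafData) (hJ : J.comap π = I)
    (W : Y.affineOpens) (a : Γ(Y, W.1)) (τ : Γ(ClSub.idealMod I, π ⁻¹ᵁ W.1)) (hτ : val I τ = π.app W.1 a) :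
    chart π J W a = nv (ClSub.idealMod I) τ := by
  have hv : ∀ (V : X.Opens) (e : V ≤ π ⁻¹ᵁ W.1), val I (res _ e τ) = (π.appLE W.1 V e).hom a := by
    intro V e
    exact (val_res I e τ).trans (congrArg (ores e) hτ)
  apply le_antisymm
  · intro x hx
    obtain ⟨V, e, hxV, hV⟩ := (mem_chart_iff π J W a x).1 hx
    rw [hJ, ← hv] at hV
    have h1 : IsGen (res _ e τ) := Ega1.IdealGen.isGen_of_span I hV
      (mem_nonZeroDivisors_of_ideal_eq_span hIE V _ hV)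
    exact (le_nv_iff _ τ e).2 h1 hxV
  · intro x hx
    obtain ⟨V, hV, hxV, hle⟩ := exists_isAffineOpen_mem_and_subset (x := x) (U := nv (ClSub.idealMod I) τ) hx
    replace hle : V ≤ nv (ClSub.idealMod I) τ := hle
    have e : V ≤ π ⁻¹ᵁ W.1 := hle.trans (nv_le _ _)
    refine (mem_chart_iff π J W a x).2 ⟨⟨V, hV⟩, e, hxV, ?_⟩
    have h1 : IsGen (res _ e τ) := (le_nv_iff _ τ e).1 hle
    rw [hJ, ← hv]
    exact Ega1.IdealGen.span_of_isGen I (A := ⟨V, hV⟩) h1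

theorem isAffineOpen_nv (π : X ⟶ Y) [UniversallyClosed π] {W : Y.Opens} (hW : IsAffineOpen W)
    {M : X.Modules} (ha : CohB1.IsAmple (M.restrict (π ⁻¹ᵁ W).ι))
    (τ : Γ(M, π ⁻¹ᵁ W)) : IsAffineOpen (nv M τ) := by
  have h0 : (π ⁻¹ᵁ W).ι ''ᵁ ⊤ ≤ π ⁻¹ᵁ W := by rw [Scheme.Opens.ι_image_top]
  have h0' : π ⁻¹ᵁ W ≤ (π ⁻¹ᵁ W).ι ''ᵁ ⊤ := by rw [Scheme.Opens.ι_image_top]
  let g : (π ⁻¹ᵁ W).toScheme ⟶ Spec (CommRingCat.of Γ(Y, W)) := (π ∣_ W) ≫ hW.isoSpec.hom
  have hg : UniversallyClosed g := inferInstanceAs (UniversallyClosed ((π ∣_ W) ≫ hW.isoSpec.hom))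
  have h1 := K385.GenLocusAffine.isAffineOpen_genLocus g ha (homOf (toRestrict (π ⁻¹ᵁ W).ι (res M h0 τ)))
  rw [← Ega2.Ample.nv_eq_genLocus] at h1
  have h2 := h1.image_of_isOpenImmersion (π ⁻¹ᵁ W).ι
  rw [K42.VALoc.image_nv, nv_res] at h2
  rwa [inf_eq_right.2 ((nv_le _ _).trans h0')] at h2

theorem comap_pow {A B : Type*} [CommRing A] [CommRing B] {φ : A →+* B} (hφ : Function.Bijective φ)
    (K : Ideal B) (n : ℕ) : (K.comap φ) ^ n = (K ^ n).comap φ := by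
  have h1 : Ideal.map φ ((K.comap φ) ^ n) = K ^ n := by
    rw [Ideal.map_pow, Ideal.map_comap_of_surjective φ hφ.2]
  rw [← h1, Ideal.comap_map_of_bijective φ hφ]

section chartMap

variable (hIE : BlowUp.IsEffCartierIdeal I) (hI : PicF.IsInvertible (ClSub.idealMod I)) {π : X ⟶ Y}
  [UniversallyClosed π] [QuasiCompact π] [QuasiSeparated π] {J : Y.IdealSheafData} (hJ : J.comap π = I)
  {Y' : Scheme.{u}} {b : Y' ⟶ Y} (hb : BlowUp.IsBlowUp b J) {h : X ⟶ Y'} (hhb : h ≫ b = π) (W : Y.affineOpens)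
  (ha : CohB1.IsAmple ((ClSub.idealMod I).restrict (π ⁻¹ᵁ W.1).ι))
  (hbij : Function.Bijective (π.app W.1))
  (hJW : J.ideal W = (AP I 1 (π ⁻¹ᵁ W.1)).comap (π.app W.1).hom)
  (hpow : ∀ n, AP I n (π ⁻¹ᵁ W.1) = AP I 1 (π ⁻¹ᵁ W.1) ^ n)

include hIE hI hJ hb hhb ha hbij hJW hpow in
theorem bijective_chart {a : Γ(Y, W.1)} (haJ : a ∈ J.ideal W) :
    IsAffineOpen (h ⁻¹ᵁ (chart b J W a)) ∧ Function.Bijective (h.app (chart b J W a)).hom := by
  obtain ⟨τ, hτ⟩ : ∃ τ : Γ(ClSub.idealMod I, π ⁻¹ᵁ W.1), val I τ = π.app W.1 a :=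
    (mem_AP_one_iff I _).1 (by
      have h1 : a ∈ (AP I 1 (π ⁻¹ᵁ W.1)).comap (π.app W.1).hom := hJW ▸ haJ
      exact h1)
  have hD : h ⁻¹ᵁ (chart b J W a) = nv (ClSub.idealMod I) τ := by
    have h1 := K484.StrictClosed.preimage_chart b J hb.1 π (𝟙 Y) h (by rw [hhb, Category.comp_id])
      (by rw [Scheme.IdealSheafData.comap_id, hJ]; exact hIE) W W (by rfl) haJ
    rw [h1]
    have h2 : chart π (J.comap (𝟙 Y)) W (((𝟙 Y : Y ⟶ Y).appLE W.1 W.1 le_rfl).hom a) = chart π J W a := by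
      rw [Scheme.IdealSheafData.comap_id]
      congr 1
      have h3 : (𝟙 Y : Y ⟶ Y).appLE W.1 W.1 le_rfl = 𝟙 _ :=
        (Scheme.Hom.appLE_eq_app (𝟙 Y)).trans (Scheme.Hom.id_app W.1)
      exact congr(($h3).hom a)
    exact h2.trans (chart_eq_nv hIE π J hJ W a τ hτ)
  have hDa : IsAffineOpen (nv (ClSub.idealMod I) τ) := isAffineOpen_nv π W.2 ha τ
  refine ⟨hD ▸ hDa, ?_⟩
  -- notation
  let C := chart b J W a
  have hCW : C ≤ b ⁻¹ᵁ W.1 := chart_le b J W a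
  have hnle : nv (ClSub.idealMod I) τ ≤ π ⁻¹ᵁ W.1 := nv_le _ _
  have hDle : nv (ClSub.idealMod I) τ ≤ h ⁻¹ᵁ C := hD.ge
  have hDle' : h ⁻¹ᵁ C ≤ nv (ClSub.idealMod I) τ := hD.le
  have hcomp : ∀ x : Γ(Y, W.1), ores hDle (h.app C ((b.appLE W.1 C hCW).hom x)) = ores hnle (π.app W.1 x) := by
    intro x
    have h1 : b.appLE W.1 C hCW ≫ h.app C ≫ X.presheaf.map (homOfLE hDle).op =
        π.app W.1 ≫ X.presheaf.map (homOfLE hnle).op := by
      subst hhb
      rw [Scheme.Hom.app_eq_appLE h, Scheme.Hom.appLE_map, Scheme.Hom.appLE_comp_appLE,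
        Scheme.Hom.app_eq_appLE (h ≫ b), Scheme.Hom.appLE_map]
    exact congr(($h1).hom x)
  have hreg : ores hnle (π.app W.1 a) ∈ nonZeroDivisors Γ(X, nv (ClSub.idealMod I) τ) := by
    have h1 : IsGen (res _ hnle τ) := isGen_nv _ τ
    have h2 := Ega1.IdealGen.span_of_isGen I (A := ⟨_, hDa⟩) h1
    have h3 := mem_nonZeroDivisors_of_ideal_eq_span hIE ⟨_, hDa⟩ _ h2
    have h4 : val I (res _ hnle τ) = ores hnle (π.app W.1 a) :=
      (val_res I hnle τ).trans (congrArg (ores hnle) hτ)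
    rwa [h4] at h3
  have hregC := appLE_chart_mem_nonZeroDivisors b J W hb haJ
  have hinj : Function.Injective (ores hDle : Γ(X, h ⁻¹ᵁ C) →+* Γ(X, nv (ClSub.idealMod I) τ)) := by
    intro x y hxy
    have h1 := congrArg (ores hDle') hxy
    rwa [ores_ores, ores_ores, ores_refl, ores_refl] at h1
  constructor
  · rw [injective_iff_map_eq_zero]
    intro c hc
    obtain ⟨n, x, hx, hxc⟩ := exists_pow_mul_eq_appLE b J W hb haJ c
    have h1 : ores hnle (π.app W.1 x) = 0 := by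
      rw [← hcomp]
      have h2 : h.app C ((b.appLE W.1 C hCW).hom x) = 0 := by
        change (h.app C).hom ((b.appLE W.1 C hCW).hom x) = 0
        rw [← hxc, map_mul, hc, mul_zero]
      rw [h2, map_zero]
    obtain ⟨N, hN⟩ := K42.ExtSec.exists_tmul_pow_eq_zero (F := Coh.structureModule X)
      (Ega2.QCohLocal.isQCoh_structureModule X) hI
      (QuasiCompact.isCompact_preimage (f := π) _ W.1.2 W.2.isCompact) τ (ofFun (π.app W.1 x)) (by
        have h2 : res (Coh.structureModule X) hnle (ofFun (π.app W.1 x)) = ofFun (ores hnle (π.app W.1 x)) := rfl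
        rw [h2, h1]
        exact map_zero _)
    have h2 := congrArg ((Ega2.Tens.lunit (P I N)).hom.app _) (hN N le_rfl)
    have h3 : (Ega2.Tens.lunit (P I N)).hom.app _ (tmul (ofFun (π.app W.1 x)) (Fdesc.LocGen.pow τ N)) =
      (π.app W.1 x) • Fdesc.LocGen.pow τ N := Ega2.Tens.lunit_hom_tmul _ _
    rw [h3, map_zero] at h2
    have h4 := congrArg (pv I N) h2
    rw [pv_smul, pv_pow, hτ, pv_zero', ← map_pow, ← map_mul] at h4
    have h5 : x * a ^ N = 0 := hbij.1 (h4.trans (map_zero _).symm)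
    have h6 := congrArg (b.appLE W.1 C hCW).hom h5
    rw [map_mul, map_pow, map_zero] at h6
    have h7 := (mul_right_mem_nonZeroDivisors_eq_zero_iff (pow_mem hregC N)).1 h6
    rw [← hxc] at h7
    exact (mul_left_mem_nonZeroDivisors_eq_zero_iff (pow_mem hregC n)).1 h7
  · intro c
    obtain ⟨N, hN⟩ := K42.VAComp.exists_extend_fun hI
      (QuasiCompact.isCompact_preimage (f := π) _ W.1.2 W.2.isCompact)
      (π.isQuasiSeparated_preimage W.2.isQuasiSeparated) τ (ores hDle c)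
    obtain ⟨t, ht⟩ := hN N le_rfl
    have h1 := congrArg (pv I N) ht
    rw [pv_res, pv_smul, pv_pow] at h1
    have h2 : val I (res _ hnle τ) = ores hnle (π.app W.1 a) :=
      (val_res I hnle τ).trans (congrArg (ores hnle) hτ)
    rw [h2] at h1
    have h3 := pv_mem I N t
    rw [hpow] at h3
    obtain ⟨x, hx⟩ := hbij.2 (pv I N t)
    have h4 : x ∈ J.ideal W ^ N := by
      rw [hJW, comap_pow hbij, Ideal.mem_comap]
      exact hx ▸ h3
    obtain ⟨g, hg⟩ := exists_eq_pow_mul_appLE b J W hb haJ N h4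
    refine ⟨g, hinj ?_⟩
    have h5 := congrArg (fun z => ores hDle ((h.app C).hom z)) hg
    simp only [map_mul, map_pow] at h5
    have h6 : ores hDle ((h.app C).hom ((b.appLE W.1 C hCW).hom x)) = ores hnle (π.app W.1 x) := hcomp x
    have h7 : ores hDle ((h.app C).hom ((b.appLE W.1 C hCW).hom a)) = ores hnle (π.app W.1 a) := hcomp a
    rw [h6, h7, hx, h1, mul_comm] at h5
    have h8 : ores hnle (π.app W.1 a) ^ N * (ores hDle c - ores hDle ((h.app C).hom g)) = 0 := by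
      rw [mul_sub, h5, sub_self]
    exact (sub_eq_zero.1 ((mul_left_mem_nonZeroDivisors_eq_zero_iff (pow_mem hreg N)).1 h8)).symm

end chartMap

theorem isBlowUp (hIE : BlowUp.IsEffCartierIdeal I) (hI : PicF.IsInvertible (ClSub.idealMod I)) {π : X ⟶ Y}
    [UniversallyClosed π] [QuasiCompact π] [QuasiSeparated π] {J : Y.IdealSheafData} (hJ : J.comap π = I)
    (H : ∀ W : Y.affineOpens, CohB1.IsAmple ((ClSub.idealMod I).restrict (π ⁻¹ᵁ W.1).ι) ∧
      Function.Bijective (π.app W.1) ∧ J.ideal W = (AP I 1 (π ⁻¹ᵁ W.1)).comap (π.app W.1).hom ∧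
      ∀ n, AP I n (π ⁻¹ᵁ W.1) = AP I 1 (π ⁻¹ᵁ W.1) ^ n) : BlowUp.IsBlowUp π J := by
  obtain ⟨Y', b, hb⟩ := Flat2C.BlowExist.exists_isBlowUp J
  obtain ⟨h, hhb, -⟩ := hb.2 X π (by rw [hJ]; exact hIE)
  have hh : IsIso h := by
    refine K755.SymClosed.isIso_of_cover h fun y' => ?_
    obtain ⟨W, hW, hyW, -⟩ := exists_isAffineOpen_mem_and_subset (x := b y') (U := ⊤) trivial
    obtain ⟨ha, hbij, hJW, hpow⟩ := H ⟨W, hW⟩
    obtain ⟨a, haJ, hay⟩ := exists_mem_chart_of_span b J ⟨W, hW⟩ hb.1 (s := (J.ideal ⟨W, hW⟩ : Set Γ(Y, W)))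
      (Ideal.span_eq _).symm y' hyW
    obtain ⟨h1, h2⟩ := bijective_chart hIE hI hJ hb hhb ⟨W, hW⟩ ha hbij hJW hpow haJ
    exact ⟨chart b J ⟨W, hW⟩ a, hay, isAffineOpen_chart b J ⟨W, hW⟩ hb haJ, h1, h2⟩
  exact Flat2C.BlowProper.isBlowUp_of_iso hb (asIso h) hhb

end K946.Bl
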