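import Groth.Agent.BSB.K946.LerayTrunc
import Groth.Agent.CohqA.HOpen
import Groth.Agent.CohqA.UnifVan
import Groth.Agent.Ega2.TensGen
import Groth.Agent.Ega3B.RpushAff
import Groth.Agent.S0927
import Groth.Agent.S2385
import Groth.Agent.CohqB.FinAmple
import Groth.Agent.Dcoh.DerSch

/-!
# Vanishing of `R^q ψ_* F`, expressed through the cohomology over preimages of affine opens
-/

set_option autoImplicit false
universe u
open CategoryTheory CategoryTheory.Limits AlgebraicGeometry Opposite TopologicalSpace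
open Groth.Agent.Fdesc.LocGen Groth.Agent

namespace K946

variable {X Y : Scheme.{u}}

/-- `H^q(ψ⁻¹ V, F) = 0` for every affine open `V`. -/
def RZ (ψ : X ⟶ Y) (F : X.Modules) (q : ℕ) : Prop :=
  ∀ V : Y.Opens, IsAffineOpen V → Subsingleton (Coh.HHon X F (ψ ⁻¹ᵁ V) q)

namespace RZ

theorem HU {ψ : X ⟶ Y} {F : X.Modules} {q : ℕ} (h : RZ ψ F q) {V : Y.Opens} (hV : IsAffineOpen V) :
    Subsingleton (CohTop.HU (X := X.toTopCat) (Coh.toAb F) q (ψ ⁻¹ᵁ V)) :=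
  (CohqA.HOpen.HHonEquiv F (ψ ⁻¹ᵁ V) q).toEquiv.subsingleton_congr.2 (h V hV)

theorem of_HU {ψ : X ⟶ Y} {F : X.Modules} {q : ℕ}
    (h : ∀ V : Y.Opens, IsAffineOpen V → Subsingleton (CohTop.HU (X := X.toTopCat) (Coh.toAb F) q (ψ ⁻¹ᵁ V))) :
    RZ ψ F q := fun V hV =>
  (CohqA.HOpen.HHonEquiv F (ψ ⁻¹ᵁ V) q).toEquiv.subsingleton_congr.1 (h V hV)

theorem of_isZero (ψ : X ⟶ Y) [QuasiCompact ψ] [QuasiSeparated ψ] [HasInjectiveResolutions X.Modules]
    {F : X.Modules} (hF : Coh.IsQCoh F) {q : ℕ}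
    (h : IsZero ((Coh.Rpush ψ q).obj F)) : RZ ψ F q := fun _ hV =>
  Ega3B.RpushAff.subsingleton_HHon_of_isZero ψ F hF hV q h

theorem isZero {ψ : X ⟶ Y} [QuasiCompact ψ] [QuasiSeparated ψ] [HasInjectiveResolutions X.Modules]
    {F : X.Modules} (hF : Coh.IsQCoh F) {q : ℕ} (h : RZ ψ F q) :
    IsZero ((Coh.Rpush ψ q).obj F) :=
  (Ega3B.RpushAff.isZero_iff_cover ψ F hF (fun V : Y.affineOpens => V.1) (fun V => V.2)
    (iSup_affineOpens_eq_top Y) q).2 fun V => h V.1 V.2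

theorem of_iso {ψ : X ⟶ Y} {F G : X.Modules} (e : F ≅ G) {q : ℕ} (h : RZ ψ F q) : RZ ψ G q := fun V hV =>
  CohqA.UnifVan.subsingleton_of_iso ((Scheme.Modules.restrictFunctor (ψ ⁻¹ᵁ V).ι).mapIso e) q (h V hV)

theorem isZero_tens {P G : Y.Modules} (hG : IsZero G) : IsZero (CohB1.tensorMod P G) := by
  rw [IsZero.iff_id_eq_zero]
  refine Ega2.Tens.hom_ext _ _ fun U p g => ?_
  have : g = 0 := (Ega3B.RpushAff.subsingleton_sections_of_isZero hG U).elim _ _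
  rw [this, Ega2.Tens.tmul_zero]
  exact (map_zero _).trans (map_zero _).symm

theorem twist {ψ : X ⟶ Y} [QuasiCompact ψ] [QuasiSeparated ψ] {F : X.Modules} (hF : Coh.IsQCoh F)
    {P : Y.Modules} (hP : PicF.IsInvertible P) {q : ℕ} (h : RZ ψ F q) :
    RZ ψ (CohB1.tensorMod F ((Scheme.Modules.pullback ψ).obj P)) q := by
  have := Dcoh.DerSch.hasInjectiveResolutions X
  obtain ⟨e⟩ := S0927.result ψ F P
    (Ega2.QCohLocal.isFinLocFree_of_rank (Ega2.QCohLocal.isFinLocFreeOfRank_one_iff.mpr hP)) q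
  have h2 : IsZero ((Coh.Rpush ψ q).obj (CohB1.tensorMod ((Scheme.Modules.pullback ψ).obj P) F)) :=
    (isZero_tens (h.isZero hF)).of_iso e.symm
  have h3 : IsZero ((Coh.Rpush ψ q).obj (CohB1.tensorMod F ((Scheme.Modules.pullback ψ).obj P))) :=
    h2.of_iso ((Coh.Rpush ψ q).mapIso (Ega2.Tens.swap _ _))
  exact of_isZero ψ (Ega2.TensGen.isQCoh_tensor hF (isInvertible_pullback ψ hP)) h3

theorem of_fiber {ψ : X ⟶ Y} [IsProper ψ] [IsLocallyNoetherian Y] {F : X.Modules} (hF : Coh.IsCoh F)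
    (hfl : FlatMod.IsFlatOver ψ F) {q : ℕ} (h : ∀ y : Y, Subsingleton (CohIII.fiberH ψ F y q)) :
    RZ ψ F q := by
  have := Dcoh.DerSch.hasInjectiveResolutions X
  refine of_isZero ψ hF.1 ?_
  choose U hU hz using fun y => S2385.result ψ F hF hfl y q (h y)
  choose V hV hyV hVU using fun y => exists_isAffineOpen_mem_and_subset (x := y) (U := U y) (hU y)
  refine Ega3B.RpushAff.isZero_of_cover _ (CohqA.RelCoh.isQCoh_Rpush ψ F hF.1 q) V hV
    (top_le_iff.1 fun y _ => Opens.mem_iSup.2 ⟨y, hyV y⟩) fun y => ?_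
  have h1 := Ega3B.RpushAff.subsingleton_sections_of_isZero (hz y) ((U y).ι ⁻¹ᵁ V y)
  change Subsingleton Γ((Coh.Rpush ψ q).obj F, (U y).ι ''ᵁ ((U y).ι ⁻¹ᵁ V y)) at h1
  rwa [Scheme.Hom.image_preimage_eq_opensRange_inf, Scheme.Opens.opensRange_ι,
    inf_eq_right.2 (show V y ≤ U y from hVU y)] at h1

/-- Restriction to an open of the base. -/
theorem restrict {ψ : X ⟶ Y} {F : X.Modules} {q : ℕ} (h : RZ ψ F q) (W : Y.Opens) :
    RZ (ψ ∣_ W) (F.restrict (ψ ⁻¹ᵁ W).ι) q := by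
  refine of_HU fun V hV => ?_
  refine (CohqA.HOpen.HUEquiv (ψ ⁻¹ᵁ W).ι F ((ψ ∣_ W) ⁻¹ᵁ V) q).toEquiv.subsingleton_congr.1 ?_
  rw [image_morphismRestrict_preimage]
  exact h.HU (hV.image_of_isOpenImmersion W.ι)

/-- Cohomology of the direct image. -/
theorem exists_equiv_push {ψ : X ⟶ Y} {F : X.Modules} (n : ℕ) (h : ∀ q, 1 ≤ q → q ≤ n → RZ ψ F q) :
    Nonempty (Coh.HH X F n ≃+ Coh.HH Y ((Coh.push ψ).obj F) n) :=
  LerayTrunc.nonempty_equiv ψ.base {V | IsAffineOpen V} Y.isBasis_affineOpens (Coh.toAb F) n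
    fun _ hV q hq hqn => (h q hq hqn).HU hV

end RZ

end K946
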