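import Groth.Agent.BSB.K946.Factor
import Groth.Agent.BSB.K946.RZ
import Groth.Agent.S1340
import Groth.Agent.VarietyB.RestrSeq
import Groth.Agent.Ega3B.SecHom
import Groth.Agent.Ega2.H275.RelDesc
import Groth.Agent.S4387

/-!
# Two contractions of the same class agree; the closed immersion
-/

set_option autoImplicit false
universe u
open CategoryTheory CategoryTheory.Limits AlgebraicGeometry Opposite TopologicalSpace
open Groth.Agent.Fdesc.LocGen Groth.Agent Groth.Agent.Grpsch.PicGrp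

namespace K946.ClosedJ

variable {X Y : Scheme.{u}}

/-- Surjectivity on sections when `H^1` of the ideal vanishes. -/
theorem surjective_app_of_h1 (I : X.IdealSheafData) (U : X.Opens)
    (h : Subsingleton (Coh.HHon X (ClSub.idealMod I) U 1)) : Function.Surjective (I.subschemeι.app U) :=
  Ega3B.SecHom.surjective_app (VarietyB.RestrSeq.idealSeq_shortExact I) U h

theorem isIso_toImage_app {E : Scheme.{u}} (h : E ⟶ Y) [QuasiCompact h]
    (hs : ∀ W : Y.Opens, IsAffineOpen W → Function.Surjective (h.app W)) (V : h.image.Opens) :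
    IsIso (h.toImage.app V) := by
  refine Groth.Agent.S1340.isIso_app_of_basis h.toImage (fun x U hx => ?_) V
  obtain ⟨U', hU'⟩ : ∃ U' : Y.Opens, h.imageι ⁻¹ᵁ U' = U := by
    obtain ⟨T, hT, hTU⟩ := (h.imageι.isEmbedding.isInducing.isOpen_iff).1 U.2
    exact ⟨⟨T, hT⟩, Opens.ext hTU⟩
  subst hU'
  obtain ⟨W, hW, hxW, hWU⟩ := exists_isAffineOpen_mem_and_subset (x := h.imageι x) (U := U') hx
  refine ⟨h.imageι ⁻¹ᵁ W, hxW, h.imageι.preimage_mono hWU, ?_⟩
  rw [ConcreteCategory.isIso_iff_bijective]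
  refine ⟨h.toImage_app_injective ⟨W, hW⟩, fun t => ?_⟩
  have h1 := Scheme.Hom.congr_app h.toImage_imageι W
  rw [Scheme.Hom.comp_app] at h1
  have hle : h.toImage ⁻¹ᵁ (h.imageι ⁻¹ᵁ W) ≤ h ⁻¹ᵁ W := by rw [← Scheme.Hom.comp_preimage, h.toImage_imageι]
  have hle' : h ⁻¹ᵁ W ≤ h.toImage ⁻¹ᵁ (h.imageι ⁻¹ᵁ W) := by rw [← Scheme.Hom.comp_preimage, h.toImage_imageι]
  let t' : Γ(E, h ⁻¹ᵁ W) := ores hle' t
  obtain ⟨b, hb⟩ := hs W hW t'
  refine ⟨h.imageι.app W b, ?_⟩
  have h2 := congr(($h1).hom b)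
  change h.toImage.app (h.imageι ⁻¹ᵁ W) (h.imageι.app W b) = _ at h2
  rw [h2]
  change ores hle (h.app W b) = t
  rw [hb]
  exact (ores_ores hle' hle t).trans (ores_refl t)

/-- Two contractions of the same class agree. -/
theorem exists_closed {E F Y S : Scheme.{u}} (g : F ⟶ S) [IsSeparated g] (q : Y ⟶ S) [IsProper q] (ψ : E ⟶ F)
    (hψ : ∀ U : F.Opens, IsIso (ψ.app U)) (h : E ⟶ Y) [IsProper h] (hgq : ψ ≫ g = h ≫ q)
    {M : Y.Modules} (hMi : PicF.IsInvertible M) (hM : RelAmple.IsRelAmple q M)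
    {N : F.Modules} (hN : PicF.IsInvertible N) (hNa : RelAmple.IsRelAmple g N)
    (e : pull ψ (mk N hN) = pull h (mk M hMi))
    (hs : ∀ W : Y.Opens, IsAffineOpen W → Function.Surjective (h.app W)) :
    ∃ j : F ⟶ Y, IsClosedImmersion j ∧ j ≫ q = g ∧ ψ ≫ j = h := by
  have hpψ : IsProper ψ := by
    have : IsProper (ψ ≫ g) := by
      rw [hgq]
      infer_instance
    exact IsProper.of_comp ψ g
  have hpt : IsProper h.toImage := by
    have : IsProper (h.toImage ≫ h.imageι) := by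
      rw [h.toImage_imageι]
      infer_instance
    exact IsProper.of_comp h.toImage h.imageι
  have hτ := isIso_toImage_app h hs
  have hMi' : PicF.IsInvertible ((Scheme.Modules.pullback h.imageι).obj M) := isInvertible_pullback _ hMi
  have hM' : RelAmple.IsRelAmple (h.imageι ≫ q) ((Scheme.Modules.pullback h.imageι).obj M) :=
    Ega2.H275.RelDesc.isRelAmple_pullback q h.imageι hM
  have hcl : pull h.toImage (mk ((Scheme.Modules.pullback h.imageι).obj M) hMi') = pull h (mk M hMi) := by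
    have h1 : mk ((Scheme.Modules.pullback h.imageι).obj M) hMi' = pull h.imageι (mk M hMi) := rfl
    rw [h1, ← pull_comp, h.toImage_imageι]
  have hq' : h.toImage ≫ h.imageι ≫ q = ψ ≫ g := by rw [← Category.assoc, h.toImage_imageι, hgq]
  obtain ⟨a, ha, haq⟩ := Factor.exists_factor_rel g (h.imageι ≫ q) ψ hψ h.toImage hq'.symm hMi' hM' hN
    (e.trans hcl.symm)
  obtain ⟨b, hb, hbq⟩ := Factor.exists_factor_rel (h.imageι ≫ q) g h.toImage hτ ψ hq' hN hNa hMi'
    (hcl.trans e.symm)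
  have := Factor.epi ψ hψ
  have := Factor.epi h.toImage hτ
  have hab : a ≫ b = 𝟙 F := by
    rw [← cancel_epi ψ, ← Category.assoc, ha, hb, Category.comp_id]
  have hba : b ≫ a = 𝟙 _ := by
    rw [← cancel_epi h.toImage, ← Category.assoc, hb, ha, Category.comp_id]
  have hia : IsIso a := ⟨b, hab, hba⟩
  refine ⟨a ≫ h.imageι, inferInstance, ?_, ?_⟩
  · rw [Category.assoc, haq]
  · rw [← Category.assoc, ha, h.toImage_imageι]

end K946.ClosedJ
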