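import Groth.Agent.Ega3B.PullTensor
import Groth.Agent.CohqB.FinAmple

/-!
# The unit `N ⟶ ψ_* ψ^* N` when `O ≅ ψ_* O`
-/

set_option autoImplicit false
universe u
open CategoryTheory CategoryTheory.Limits AlgebraicGeometry Opposite TopologicalSpace
open Groth.Agent.Fdesc.LocGen Groth.Agent

namespace K946.PushUnit

variable {X Y : Scheme.{u}}

theorem bijective_app (ψ : X ⟶ Y) (hψ : ∀ U : Y.Opens, IsIso (ψ.app U)) (U : Y.Opens) :
    Function.Bijective (ψ.app U) := by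
  have := hψ U
  exact ConcreteCategory.bijective_of_isIso (ψ.app U)

theorem isGen_push (ψ : X ⟶ Y) (hψ : ∀ U : Y.Opens, IsIso (ψ.app U)) {L : X.Modules} {W : Y.Opens}
    (m : Γ(L, ψ ⁻¹ᵁ W)) (hm : IsGen m) :
    IsGen (M := (Scheme.Modules.pushforward ψ).obj L) (U := W) m := by
  intro W' hW'
  exact (hm (ψ ⁻¹ᵁ W') (ψ.preimage_mono hW')).comp (bijective_app ψ hψ W')

theorem isIso_unit (ψ : X ⟶ Y) (hψ : ∀ U : Y.Opens, IsIso (ψ.app U)) {N : Y.Modules}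
    (hN : PicF.IsInvertible N) :
    IsIso ((Scheme.Modules.pullbackPushforwardAdjunction ψ).unit.app N) := by
  refine Ega3B.PullTensor.isIso_of_isGen _ fun y => ?_
  obtain ⟨U, e, hy, he⟩ := (isInvertible_iff N).1 hN y
  exact ⟨U, e, hy, he, isGen_push ψ hψ _ (he.pullSec ψ)⟩

/-- `N^j ≅ ψ_* (L^(mj))` when `ψ^* N ≅ L^m`. -/
theorem nonempty_pow_iso (ψ : X ⟶ Y) (hψ : ∀ U : Y.Opens, IsIso (ψ.app U)) {N : Y.Modules}
    (hN : PicF.IsInvertible N) {L : X.Modules} {m : ℕ}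
    (e : (Scheme.Modules.pullback ψ).obj N ≅ CohB1.tensorPow L m) (j : ℕ) :
    Nonempty (CohB1.tensorPow N j ≅ (Scheme.Modules.pushforward ψ).obj (CohB1.tensorPow L (m * j))) := by
  obtain ⟨e₁⟩ := CohqB.FinAmple.nonempty_pullback_tensorPow ψ hN j
  have := isIso_unit ψ hψ (isInvertible_tensorPow hN j)
  exact ⟨asIso ((Scheme.Modules.pullbackPushforwardAdjunction ψ).unit.app (CohB1.tensorPow N j)) ≪≫
    (Scheme.Modules.pushforward ψ).mapIso (e₁ ≪≫ Ega2.TensPow.powIso e j ≪≫ Ega2.TensPow.powMul L m j)⟩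

end K946.PushUnit
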