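import Groth.Agent.BSB.K946.Pow
import Groth.Agent.BSB.K946.PushUnit
import Groth.Agent.Divis.IdealComap
import Groth.Agent.Divis.CartierBasic
import Groth.Agent.Ega1.GlobGenPt

/-!
# The ideal of the centre generates the ideal of the divisor
-/

set_option autoImplicit false
universe u
open CategoryTheory CategoryTheory.Limits AlgebraicGeometry Opposite TopologicalSpace
open Groth.Agent.Fdesc.LocGen Groth.Agent

namespace K946.Comap

open K946.NormGen K946.IdPow PerfA.IdealModule VarietyB.RestrSeq CohqB.FiniteType2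

variable {X Y : Scheme.{u}} {I : X.IdealSheafData}

theorem mem_AP_one_iff_app (U : X.Opens) (a : Γ(X, U)) : a ∈ AP I 1 U ↔ I.subschemeι.app U a = 0 := by
  rw [mem_AP_one_iff]
  exact (PerfA.IdealModule.exact_app I U a).symm

theorem ker_ideal {F : Scheme.{u}} (ψ : I.subscheme ⟶ F) (hψ : ∀ V : F.Opens, IsIso (ψ.app V)) (π : X ⟶ Y)
    (j : F ⟶ Y) [IsClosedImmersion j] (hj : I.subschemeι ≫ π = ψ ≫ j) (W : Y.affineOpens) :
    j.ker.ideal W = (AP I 1 (π ⁻¹ᵁ W.1)).comap (π.app W.1).hom := by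
  rw [Scheme.Hom.ker_apply]
  ext b
  rw [RingHom.mem_ker, Ideal.mem_comap, mem_AP_one_iff_app]
  have h1 := Scheme.Hom.congr_app hj W.1
  rw [Scheme.Hom.comp_app, Scheme.Hom.comp_app] at h1
  have h2 := congr(($h1).hom b)
  change I.subschemeι.app _ (π.app W.1 b) = ores _ (ψ.app _ (j.app W.1 b)) at h2
  rw [h2]
  have h3 := (PushUnit.bijective_app ψ hψ (j ⁻¹ᵁ W.1)).1
  have hle : I.subschemeι ⁻¹ᵁ (π ⁻¹ᵁ W.1) ≤ ψ ⁻¹ᵁ (j ⁻¹ᵁ W.1) := by
    rw [← Scheme.Hom.comp_preimage, hj, Scheme.Hom.comp_preimage]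
  have hle' : ψ ⁻¹ᵁ (j ⁻¹ᵁ W.1) ≤ I.subschemeι ⁻¹ᵁ (π ⁻¹ᵁ W.1) := by
    rw [← Scheme.Hom.comp_preimage, ← hj, Scheme.Hom.comp_preimage]
  constructor
  · intro h
    have h4 : j.app W.1 b = 0 := h
    rw [h4, map_zero, map_zero]
  · intro h
    have h4 : ores hle (ψ.app _ (j.app W.1 b)) = 0 := h
    have h5 := congrArg (ores hle') h4
    rw [ores_ores, ores_refl, map_zero] at h5
    exact h3 (h5.trans (map_zero _).symm)

theorem pv_pow (d : ℕ) {V : X.Opens} (τ : Γ(ClSub.idealMod I, V)) :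
    pv I d (Fdesc.LocGen.pow τ d) = val I τ ^ d := by
  induction d with
  | zero =>
    rw [_root_.pow_zero]
    exact AddEquiv.symm_apply_apply ofFun (1 : Γ(X, V))
  | succ d ih =>
    refine (pv_tmul I d (Fdesc.LocGen.pow τ d) τ).trans ?_
    rw [ih, _root_.pow_succ]

theorem exists_pow_eq (d : ℕ) {U V : X.Opens} (hVU : V ≤ U) (σ : Γ(P I d, U)) (hσ : IsGen (res _ hVU σ))
    (τ : Γ(ClSub.idealMod I, V)) : ∃ u : Γ(X, V), val I τ ^ d = u * ores hVU (pv I d σ) := by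
  obtain ⟨u, hu⟩ := hσ.exists_eq (Fdesc.LocGen.pow τ d)
  refine ⟨u, ?_⟩
  rw [← pv_pow, hu, pv_smul, pv_res]

theorem span_eq_of_pow_mem {B : Type*} [CommRing B] (t : B) (ht : t ∈ nonZeroDivisors B) (𝔞 : Ideal B)
    (hle : 𝔞 ≤ Ideal.span {t}) {d : ℕ} (hd : d ≠ 0) (h : t ^ d ∈ 𝔞 ^ d) : 𝔞 = Ideal.span {t} := by
  let 𝔟 : Ideal B := Submodule.comap (LinearMap.mulLeft B t) 𝔞
  have h1 : 𝔞 = Ideal.span {t} * 𝔟 := by
    ext a
    rw [Ideal.mem_span_singleton_mul]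
    constructor
    · intro ha
      obtain ⟨b, rfl⟩ := Ideal.mem_span_singleton'.1 (hle ha)
      exact ⟨b, by rwa [mul_comm] at ha, mul_comm _ _⟩
    · rintro ⟨b, hb, rfl⟩
      exact hb
  rw [h1, mul_pow, Ideal.span_singleton_pow, Ideal.mem_span_singleton_mul] at h
  obtain ⟨z, hz, hzt⟩ := h
  have h2 : z = 1 := by
    have h3 : t ^ d * (z - 1) = 0 := by rw [mul_sub, hzt, mul_one, sub_self]
    exact sub_eq_zero.1 ((mul_left_mem_nonZeroDivisors_eq_zero_iff (pow_mem ht d)).1 h3)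
  refine le_antisymm hle ?_
  rw [Ideal.span_singleton_le_iff_mem]
  have h4 : (1 : B) ∈ 𝔟 := Ideal.pow_le_self hd (h2 ▸ hz)
  have h5 : t * 1 ∈ 𝔞 := h4
  rwa [mul_one] at h5

theorem exists_isGen_of_gg_restrict {M : X.Modules} (hM : PicF.IsInvertible M) (U : X.Opens)
    (hgg : Curv2.IsGloballyGenerated (M.restrict U.ι)) {x : X} (hx : x ∈ U) :
    ∃ (σ : Γ(M, U)) (V : X.Opens) (hV : V ≤ U), x ∈ V ∧ IsGen (res M hV σ) := by
  obtain ⟨s, hs⟩ := Ega1.GlobGenPt.exists_mem_genLocus (Ega3B.NearFibre.isInvertible_restrict hM U) hgg ⟨x, hx⟩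
  have h1 := isGen_sec_genLocus s
  obtain ⟨m, hm⟩ := (toRestrict (M := M) U.ι (U := ⊤)).surjective (sec s ⊤)
  have h0 : U ≤ U.ι ''ᵁ ⊤ := by rw [Scheme.Opens.ι_image_top]
  let V := U.ι ''ᵁ (CohB1.genLocus _ s)
  have hV : V ≤ U := by
    rintro _ ⟨z, -, rfl⟩
    exact z.2
  refine ⟨res M h0 m, V, hV, ⟨⟨x, hx⟩, hs, rfl⟩, ?_⟩
  rw [← res_sec s (le_top : CohB1.genLocus _ s ≤ ⊤), ← hm, res_toRestrict, isGen_toRestrict_iff] at h1
  rwa [res_res]

/-- The values of sections over a larger open lie in the ideal. -/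
theorem ores_mem_ideal {U : X.Opens} (V : X.affineOpens) (hVU : V.1 ≤ U) {a : Γ(X, U)} (ha : a ∈ AP I 1 U) :
    ores hVU a ∈ I.ideal V := by
  obtain ⟨b, rfl⟩ := (mem_AP_one_iff I a).1 ha
  have h1 : ores hVU (val I b) = val I (res _ hVU b) := (val_res I hVU b).symm
  rw [h1]
  exact val_mem I V _

theorem comap_eq (hIE : BlowUp.IsEffCartierIdeal I) (hI : PicF.IsInvertible (ClSub.idealMod I)) (π : X ⟶ Y)
    (J : Y.IdealSheafData)
    (h : ∀ y : Y, ∃ W : Y.affineOpens, y ∈ W.1 ∧ J.ideal W = (AP I 1 (π ⁻¹ᵁ W.1)).comap (π.app W.1).hom ∧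
      Function.Surjective (π.app W.1) ∧
      ∃ d : ℕ, 1 ≤ d ∧ Curv2.IsGloballyGenerated ((P I d).restrict (π ⁻¹ᵁ W.1).ι) ∧
        AP I d (π ⁻¹ᵁ W.1) = AP I 1 (π ⁻¹ᵁ W.1) ^ d) : J.comap π = I := by
  have key : ∀ x : X, ∃ V : X.affineOpens, x ∈ V.1 ∧ (J.comap π).ideal V = I.ideal V := by
    intro x
    obtain ⟨W, hxW, hJ, hsurj, d, hd, hgg, hpow⟩ := h (π x)
    obtain ⟨σ, V₀, hV₀, hxV₀, hσ⟩ := exists_isGen_of_gg_restrict (isInvertible_tensorPow hI d) (π ⁻¹ᵁ W.1) hgg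
      (show x ∈ π ⁻¹ᵁ W.1 from hxW)
    obtain ⟨V, hxV, hVV₀, t, ht, hIt⟩ := Divis.CartierBasic.exists_generator_le hIE V₀ hxV₀
    have hVU := hVV₀.trans hV₀
    refine ⟨V, hxV, ?_⟩
    have h1 : (J.comap π).ideal V = (J.ideal W).map (π.appLE W.1 V.1 hVU).hom :=
      Divis.IdealComap.ideal_comap J π W V hVU
    have happ : ∀ b : Γ(Y, W.1), (π.appLE W.1 V.1 hVU).hom b = ores hVU (π.app W.1 b) := fun b => rfl
    have h2 : (J.comap π).ideal V = (AP I 1 (π ⁻¹ᵁ W.1)).map (ores hVU) := by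
      rw [h1, hJ]
      refine le_antisymm ?_ ?_
      · rw [Ideal.map_le_iff_le_comap]
        intro b hb
        exact Ideal.mem_map_of_mem (ores hVU) hb
      · rw [Ideal.map_le_iff_le_comap]
        intro a ha
        obtain ⟨b, rfl⟩ := hsurj a
        exact Ideal.mem_map_of_mem (π.appLE W.1 V.1 hVU).hom (show b ∈ (AP I 1 (π ⁻¹ᵁ W.1)).comap (π.app W.1).hom from ha)
    rw [h2, hIt]
    refine span_eq_of_pow_mem t ht _ ?_ (Nat.one_le_iff_ne_zero.1 hd) ?_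
    · rw [← hIt, Ideal.map_le_iff_le_comap]
      intro a ha
      exact ores_mem_ideal V hVU ha
    · obtain ⟨τ, hτ⟩ := exists_val_eq I V (a := t) (hIt ▸ Ideal.mem_span_singleton_self t)
      have hσ' : IsGen (res _ hVU σ) := by
        have := hσ.res hVV₀
        rwa [res_res] at this
      obtain ⟨u, hu⟩ := exists_pow_eq d hVU σ hσ' τ
      rw [hτ] at hu
      rw [hu, ← Ideal.map_pow, ← hpow]
      exact Ideal.mul_mem_left _ _ (Ideal.mem_map_of_mem _ (pv_mem I d σ))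
  choose V hxV hV using key
  refine Scheme.IdealSheafData.ext_of_iSup_eq_top (U := V) ?_ hV
  rw [eq_top_iff]
  intro x _
  rw [Opens.mem_iSup]
  exact ⟨x, hxV x⟩

end K946.Comap
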