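import Groth.Agent.BSB.K946.RZ
import Groth.Agent.CohqB.SerTw
import Groth.Agent.S0051
import Groth.Agent.S0036

/-!
# Vanishing after twisting by the pullback of an ample module
-/

set_option autoImplicit false
universe u
open CategoryTheory CategoryTheory.Limits AlgebraicGeometry Opposite TopologicalSpace
open Groth.Agent.Fdesc.LocGen Groth.Agent

namespace K946.ContrVan

theorem isCoh_push {X Y : Scheme.{u}} (f : X ⟶ Y) [IsProper f] [IsLocallyNoetherian Y] {M : X.Modules}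
    (hM : Coh.IsCoh M) : Coh.IsCoh ((Coh.push f).obj M) := by
  have := Dcoh.DerSch.hasInjectiveResolutions X
  refine CohqB.LocalQC.isCoh_of_iso ?_ (S0036.result f M hM 0)
  exact ((Scheme.Modules.pushforward f).rightDerivedZeroIsoSelf).app M

variable {A : Type u} [CommRing A] [IsNoetherianRing A] {X Y : Scheme.{u}}

theorem contr_van (g : Y ⟶ Spec (CommRingCat.of A)) [IsProper g] (ψ : X ⟶ Y) [IsProper ψ] {N : Y.Modules}
    (hN : CohB1.IsAmple N) {F : X.Modules} (hF : Coh.IsCoh F) (c : ℕ)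
    (hR : ∀ q, 1 ≤ q → q ≤ c → RZ ψ F q) :
    ∃ k₀ : ℕ, ∀ k : ℕ, k₀ ≤ k → ∀ q, 1 ≤ q → q ≤ c →
      Subsingleton (Coh.HH X (CohB1.tensorMod F
        (CohB1.tensorPow ((Scheme.Modules.pullback ψ).obj N) k)) q) := by
  have hY : IsLocallyNoetherian Y := LocallyOfFiniteType.isLocallyNoetherian g
  obtain ⟨k₀, hk₀⟩ := (S0051.result A Y g N hN.1).1 hN ((Coh.push ψ).obj F) (isCoh_push ψ hF)
  refine ⟨k₀, fun k hk q hq hqc => ?_⟩
  obtain ⟨e₁⟩ := CohqB.FinAmple.nonempty_pullback_tensorPow ψ hN.1 k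
  obtain ⟨e₂⟩ := CohqB.FinAmple.nonempty_push_tw ψ hN.1 F k
  obtain ⟨e₃⟩ := RZ.exists_equiv_push (ψ := ψ) (F := CohB1.tensorMod F
        (CohB1.tensorPow ((Scheme.Modules.pullback ψ).obj N) k)) q fun q' hq' hq'q =>
    ((hR q' hq' (hq'q.trans hqc)).twist hF.1 (isInvertible_tensorPow hN.1 k)).of_iso
      (Ega2.Tens.mapTIso (Iso.refl _) e₁)
  rw [e₃.toEquiv.subsingleton_congr]
  exact CohqA.UnifVan.subsingleton_of_iso e₂ q (hk₀ k hk q hq)

end K946.ContrVan
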