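import Groth.Agent.VarietyB.RestrSeq
import Groth.Agent.Dcoh.PushRestrict
import Groth.Agent.S0012
import Groth.Agent.CohqA.UnifVan
import Groth.Agent.Grpsch.PicGrp
import Groth.Agent.CohqB.FinAmple

/-!
# Vanishing along the filtration by powers of the ideal of a divisor
-/

set_option autoImplicit false
universe u
open CategoryTheory CategoryTheory.Limits AlgebraicGeometry Opposite TopologicalSpace
open Groth.Agent.Fdesc.LocGen Groth.Agent

namespace K946.DivVan

open Grpsch.PicGrp

variable {X : Scheme.{u}}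

theorem HHon_of_iso {F G : X.Modules} (e : F ≅ G) (V : X.Opens) (q : ℕ)
    (h : Subsingleton (Coh.HHon X F V q)) : Subsingleton (Coh.HHon X G V q) :=
  CohqA.UnifVan.subsingleton_of_iso ((Scheme.Modules.restrictFunctor V.ι).mapIso e) q h

theorem isAffineHom_restrict {E : Scheme.{u}} (i : E ⟶ X) [IsAffineHom i] (V : X.Opens) : IsAffineHom (i ∣_ V) :=
  MorphismProperty.of_isPullback (P := @IsAffineHom) (isPullback_morphismRestrict i V).flip inferInstance

theorem HHon_push {E : Scheme.{u}} (i : E ⟶ X) [IsAffineHom i] {G : E.Modules} (hG : Coh.IsQCoh G)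
    (V : X.Opens) (q : ℕ) :
    Subsingleton (Coh.HHon X ((Coh.push i).obj G) V q) ↔ Subsingleton (Coh.HHon E G (i ⁻¹ᵁ V) q) := by
  have h1 : Coh.IsQCoh (G.restrict (i ⁻¹ᵁ V).ι) := CohqB.LocalQC.isQCoh_restrict _ hG
  have h2 := isAffineHom_restrict i V
  obtain ⟨e⟩ := S0012.result (i ∣_ V) (G.restrict (i ⁻¹ᵁ V).ι) q
  refine Iff.trans ?_ e.symm.toEquiv.subsingleton_congr
  let e₁ := (Dcoh.PushRestrict.pushMorphismRestrictIso i V).app G
  exact ⟨fun h => CohqA.UnifVan.subsingleton_of_iso e₁ q h, fun h => CohqA.UnifVan.subsingleton_of_iso e₁.symm q h⟩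

theorem van_mid {S : ShortComplex X.Modules} (hS : S.ShortExact) (V : X.Opens) (q : ℕ)
    (h1 : Subsingleton (Coh.HHon X S.X₁ V q)) (h3 : Subsingleton (Coh.HHon X S.X₃ V q)) :
    Subsingleton (Coh.HHon X S.X₂ V q) :=
  CohqA.UnifVan.subsingleton_mid (hS.map_of_exact (Scheme.Modules.restrictFunctor V.ι)) q h1 h3

theorem van_step (I : X.IdealSheafData) {P : X.Modules} (hP : PicF.IsInvertible P) (V : X.Opens) (q : ℕ)
    (h1 : Subsingleton (Coh.HHon X (CohB1.tensorMod P (ClSub.idealMod I)) V q))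
    (h2 : Subsingleton (Coh.HHon I.subscheme ((Scheme.Modules.pullback I.subschemeι).obj P)
      (I.subschemeι ⁻¹ᵁ V) q)) : Subsingleton (Coh.HHon X P V q) :=
  van_mid (VarietyB.RestrSeq.restrSeq_shortExact (CohqB.FinAmple.hasBases_of_isInvertible hP) I) V q h1
    ((HHon_push I.subschemeι (Ega2.QCohLocal.isQCoh_of_isInvertible (isInvertible_pullback _ hP)) V q).2 h2)

/-- `i^*(P ⊗ Q^n) ≅ i^*P ⊗ (i^*Q)^n`. -/
theorem nonempty_pull_tens_pow {E : Scheme.{u}} (i : E ⟶ X) {P Q : X.Modules} (hP : PicF.IsInvertible P)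
    (hQ : PicF.IsInvertible Q) (n : ℕ) :
    Nonempty ((Scheme.Modules.pullback i).obj (CohB1.tensorMod P (CohB1.tensorPow Q n)) ≅
      CohB1.tensorMod ((Scheme.Modules.pullback i).obj P)
        (CohB1.tensorPow ((Scheme.Modules.pullback i).obj Q) n)) := by
  rw [← mk_eq_iff (isInvertible_pullback i (isInvertible_tensorMod hP (isInvertible_tensorPow hQ n)))
    (isInvertible_tensorMod (isInvertible_pullback i hP) (isInvertible_tensorPow (isInvertible_pullback i hQ) n)),
    ← pull_mk i (isInvertible_tensorMod hP (isInvertible_tensorPow hQ n)),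
    ← mk_mul_mk hP (isInvertible_tensorPow hQ n), mk_tensorPow hQ, map_mul, map_pow,
    ← mk_mul_mk (isInvertible_pullback i hP) (isInvertible_tensorPow (isInvertible_pullback i hQ) n),
    mk_tensorPow (isInvertible_pullback i hQ)]
  rfl

theorem van_chain (I : X.IdealSheafData) (hI : PicF.IsInvertible (ClSub.idealMod I)) {P : X.Modules}
    (hP : PicF.IsInvertible P) (V : X.Opens) (q N n₀ : ℕ)
    (h0 : Subsingleton (Coh.HHon X (CohB1.tensorMod P (CohB1.tensorPow (ClSub.idealMod I) N)) V q))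
    (h : ∀ n, n₀ ≤ n → n < N → Subsingleton (Coh.HHon I.subscheme
      (CohB1.tensorMod ((Scheme.Modules.pullback I.subschemeι).obj P)
        (CohB1.tensorPow ((Scheme.Modules.pullback I.subschemeι).obj (ClSub.idealMod I)) n))
      (I.subschemeι ⁻¹ᵁ V) q)) :
    ∀ n, n₀ ≤ n → n ≤ N →
      Subsingleton (Coh.HHon X (CohB1.tensorMod P (CohB1.tensorPow (ClSub.idealMod I) n)) V q) := by
  have key : ∀ k n, n + k = N → n₀ ≤ n →
      Subsingleton (Coh.HHon X (CohB1.tensorMod P (CohB1.tensorPow (ClSub.idealMod I) n)) V q) := by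
    intro k
    induction k with
    | zero =>
      intro n hn _
      obtain rfl : n = N := hn
      exact h0
    | succ k ih =>
      intro n hn hn0
      have h1 := ih (n + 1) (by omega) (by omega)
      obtain ⟨e⟩ := nonempty_pull_tens_pow I.subschemeι hP hI n
      exact van_step I (isInvertible_tensorMod hP (isInvertible_tensorPow hI n)) V q
        (HHon_of_iso (Ega2.Tens.assoc _ _ _).symm V q h1) (HHon_of_iso e.symm _ q (h n hn0 (by omega)))
  exact fun n h1 h2 => key (N - n) n (by omega) h1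

end K946.DivVan
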