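import Groth.Agent.BSB.K946.EVan
import Groth.Agent.BSB.K946.DivVan
import Groth.Agent.CohqB.AmpGeneric
import Groth.Agent.Ega3B.NearFibre

/-!
# The vanishing for the contraction of a divisor, over an affine open of the base
-/

set_option autoImplicit false
universe u
open CategoryTheory CategoryTheory.Limits AlgebraicGeometry Opposite TopologicalSpace
open Groth.Agent.Fdesc.LocGen Groth.Agent

namespace K946.CoreVan

open Grpsch.PicGrp

section E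

variable {A : Type u} [CommRing A] [IsNoetherianRing A] {E F : Scheme.{u}}

theorem mk_restrict (U : E.Opens) {M : E.Modules} (hM : PicF.IsInvertible M) :
    mk (M.restrict U.ι) (Ega3B.NearFibre.isInvertible_restrict hM U) = pull U.ι (mk M hM) :=
  mk_congr ((Scheme.Modules.restrictFunctorIsoPullback U.ι).app M)

theorem evan_restrict (ψ : E ⟶ F) (V : F.Opens) (f : (ψ ⁻¹ᵁ V).toScheme ⟶ Spec (CommRingCat.of A)) [IsProper f]
    (g : V.toScheme ⟶ Spec (CommRingCat.of A)) [IsProper g] [IsProper (ψ ∣_ V)]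
    {L C M : E.Modules} (hL : PicF.IsInvertible L) (hC : PicF.IsInvertible C) (hMi : PicF.IsInvertible M)
    (hM : CohB1.IsAmple (M.restrict (ψ ⁻¹ᵁ V).ι)) {m : ℕ} (hm : 0 < m)
    (eM : mk M hMi = mk L hL * mk C hC ^ m) {G : V.toScheme.Modules}
    (hG : CohB1.IsAmple G) {r : ℕ} (hr : 0 < r)
    (e : Nonempty ((Scheme.Modules.pullback (ψ ∣_ V)).obj G ≅ (CohB1.tensorPow L r).restrict (ψ ⁻¹ᵁ V).ι))
    (Q : ℕ → Prop) (hQ : ∀ q q', q' ≤ q → Q q → Q q')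
    (n₀ : ℕ) (hR : ∀ n, n₀ ≤ n → ∀ q, 1 ≤ q → Q q → RZ ψ (CohB1.tensorPow C n) q) :
    ∃ k₀ : ℕ, ∀ k, k₀ ≤ k → ∀ n, n₀ ≤ n → n ≤ m * (r * k) → ∀ q, 1 ≤ q → Q q →
      Subsingleton (Coh.HHon E (CohB1.tensorMod (CohB1.tensorPow L (r * k)) (CohB1.tensorPow C n)) (ψ ⁻¹ᵁ V) q) := by
  obtain ⟨e⟩ := e
  obtain ⟨eL⟩ := Ega3B.TensRestrict.restrictPowIso (ψ ⁻¹ᵁ V).ι L r
  obtain ⟨k₀, hk₀⟩ := EVan.evan f g (ψ ∣_ V) (L := L.restrict (ψ ⁻¹ᵁ V).ι) (C := C.restrict (ψ ⁻¹ᵁ V).ι)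
    (Ega3B.NearFibre.isInvertible_restrict hL _) (Ega3B.NearFibre.isInvertible_restrict hC _) hM hm
    (by
      have h1 := mk_restrict (ψ ⁻¹ᵁ V) hMi
      rw [eM, map_mul, map_pow, ← mk_restrict, ← mk_restrict] at h1
      exact h1) hG hr (e ≪≫ eL) Q hQ n₀ fun n hn q hq hqc => by
      obtain ⟨eC⟩ := Ega3B.TensRestrict.restrictPowIso (ψ ⁻¹ᵁ V).ι C n
      exact ((hR n hn q hq hqc).restrict V).of_iso eC
  refine ⟨k₀, fun k hk n hn hnm q hq hqc => ?_⟩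
  obtain ⟨e₁⟩ := FlatContr.restrict_pair (ψ ⁻¹ᵁ V) L C (r * k) n
  exact CohqA.UnifVan.subsingleton_of_iso e₁.symm q (hk₀ k hk n hn hnm q hq hqc)

end E

variable {X S F : Scheme.{u}}

theorem serre_open (f : X ⟶ S) [IsProper f] [IsLocallyNoetherian S] (U : S.Opens) (hU : IsAffineOpen U)
    {L0 : X.Modules} (hL0a : CohB1.IsAmple (L0.restrict (f ⁻¹ᵁ U).ι)) :
    ∃ n₁ : ℕ, ∀ n, n₁ ≤ n → ∀ q, 1 ≤ q → Subsingleton (Coh.HHon X (CohB1.tensorPow L0 n) (f ⁻¹ᵁ U) q) := by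
  have hR : IsNoetherianRing Γ(S, U) := IsLocallyNoetherian.component_noetherian ⟨U, hU⟩
  obtain ⟨n₁, hn₁⟩ := (S0051.result Γ(S, U) (f ⁻¹ᵁ U) ((f ∣_ U) ≫ hU.isoSpec.hom)
    (L0.restrict (f ⁻¹ᵁ U).ι) hL0a.1).1 hL0a _ (Fdesc.StructMod.isCoh_structureModule _)
  refine ⟨n₁, fun n hn q hq => ?_⟩
  obtain ⟨e⟩ := Ega3B.TensRestrict.restrictPowIso (f ⁻¹ᵁ U).ι L0 n
  exact CohqA.UnifVan.subsingleton_of_iso (Ega2.Tens.lunit _ ≪≫ e.symm) q (hn₁ n hn q hq)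

theorem inv_mul {L M : X.Modules} (hL : PicF.IsInvertible L) (hM : PicF.IsInvertible M)
    (h : ClSub.IsInverseOf L M) : mk L hL * mk M hM = 1 := by
  rw [mk_mul_mk, mk_eq_one_iff]
  exact h

/-- Serre's vanishing plus the filtration by the powers of the ideal of the divisor. -/
theorem core_van (f : X ⟶ S) [IsProper f] [IsLocallyNoetherian S] (U : S.Opens) (hU : IsAffineOpen U)
    {L0 : X.Modules} (hL0 : PicF.IsInvertible L0) (hL0a : CohB1.IsAmple (L0.restrict (f ⁻¹ᵁ U).ι))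
    (I : X.IdealSheafData) (hI : PicF.IsInvertible (ClSub.idealMod I)) {OE : X.Modules}
    (hOEi : PicF.IsInvertible OE) (hOE : ClSub.IsInverseOf OE (ClSub.idealMod I)) {m : ℕ} (hm : 0 < m)
    (g : F ⟶ S) [IsProper g] (ψ : I.subscheme ⟶ F) [IsProper ψ] (hψg : ψ ≫ g = I.subschemeι ≫ f)
    {G' : (g ⁻¹ᵁ U).toScheme.Modules} (hG' : CohB1.IsAmple G') {r : ℕ} (hr : 0 < r)
    (eG : Nonempty ((Scheme.Modules.pullback (ψ ∣_ (g ⁻¹ᵁ U))).obj G' ≅
      (CohB1.tensorPow (CohB1.tensorMod ((Scheme.Modules.pullback I.subschemeι).obj L0)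
        (CohB1.tensorPow ((Scheme.Modules.pullback I.subschemeι).obj OE) m)) r).restrict (ψ ⁻¹ᵁ (g ⁻¹ᵁ U)).ι))
    (Q : ℕ → Prop) (hQ : ∀ q q', q' ≤ q → Q q → Q q')
    (n₀ : ℕ) (hR : ∀ n, n₀ ≤ n → ∀ q, 1 ≤ q → Q q →
      RZ ψ (CohB1.tensorPow ((Scheme.Modules.pullback I.subschemeι).obj (ClSub.idealMod I)) n) q) :
    ∃ k₀ : ℕ, ∀ k, k₀ ≤ k → ∀ n, n₀ ≤ n → n ≤ m * (r * k) → ∀ q, 1 ≤ q → Q q →
      Subsingleton (Coh.HHon X (CohB1.tensorMod (CohB1.tensorPow (CohB1.tensorMod L0 (CohB1.tensorPow OE m)) (r * k))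
        (CohB1.tensorPow (ClSub.idealMod I) n)) (f ⁻¹ᵁ U) q) := by
  have hR' : IsNoetherianRing Γ(S, U) := IsLocallyNoetherian.component_noetherian ⟨U, hU⟩
  let i := I.subschemeι
  let fE : (ψ ⁻¹ᵁ (g ⁻¹ᵁ U)).toScheme ⟶ Spec (CommRingCat.of Γ(S, U)) := ((ψ ≫ g) ∣_ U) ≫ hU.isoSpec.hom
  have hfE : IsProper fE := inferInstanceAs (IsProper (((ψ ≫ g) ∣_ U) ≫ hU.isoSpec.hom))
  have hψU : IsProper (ψ ∣_ (g ⁻¹ᵁ U)) := inferInstance
  have hopen : ψ ⁻¹ᵁ (g ⁻¹ᵁ U) = i ⁻¹ᵁ (f ⁻¹ᵁ U) := congrArg (fun h => h ⁻¹ᵁ U) hψg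
  have hLEi : PicF.IsInvertible (CohB1.tensorMod ((Scheme.Modules.pullback i).obj L0)
        (CohB1.tensorPow ((Scheme.Modules.pullback i).obj OE) m)) :=
    isInvertible_tensorMod (isInvertible_pullback i hL0) (isInvertible_tensorPow (isInvertible_pullback i hOEi) m)
  have hLi : PicF.IsInvertible (CohB1.tensorMod L0 (CohB1.tensorPow OE m)) :=
    isInvertible_tensorMod hL0 (isInvertible_tensorPow hOEi m)
  have hCi : PicF.IsInvertible ((Scheme.Modules.pullback i).obj (ClSub.idealMod I)) := isInvertible_pullback i hI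
  -- classes
  have cOE : mk OE hOEi * mk (ClSub.idealMod I) hI = 1 := inv_mul hOEi hI hOE
  have cL : mk _ hLi = mk L0 hL0 * mk OE hOEi ^ m := by
    rw [← mk_mul_mk hL0 (isInvertible_tensorPow hOEi m), mk_tensorPow hOEi]
  have cLE : mk _ hLEi = pull i (mk _ hLi) := by
    rw [cL, map_mul, map_pow, pull_mk i hL0, pull_mk i hOEi,
      ← mk_mul_mk (isInvertible_pullback i hL0) (isInvertible_tensorPow (isInvertible_pullback i hOEi) m),
      mk_tensorPow (isInvertible_pullback i hOEi)]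
  have hampE : CohB1.IsAmple (((Scheme.Modules.pullback i).obj L0).restrict (ψ ⁻¹ᵁ (g ⁻¹ᵁ U)).ι) := by
    rw [hopen]
    have := DivVan.isAffineHom_restrict i (f ⁻¹ᵁ U)
    exact CohqB.AmpCocycle.isAmple_of_iso ((FormalB.PullCoh.restrictPullbackIso i (f ⁻¹ᵁ U)).app L0)
      (CohqB.AmpCocycle.isAmple_pullback (i ∣_ (f ⁻¹ᵁ U)) hL0a)
  obtain ⟨k₁, hk₁⟩ := evan_restrict (A := Γ(S, U)) ψ (g ⁻¹ᵁ U) fE ((g ∣_ U) ≫ hU.isoSpec.hom) hLEi hCi
    (isInvertible_pullback i hL0) hampE hm (by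
      rw [cLE, cL, map_mul, map_pow, ← pull_mk i hL0, ← pull_mk i hI, mul_assoc, ← mul_pow, ← map_mul, cOE,
        map_one, one_pow, mul_one]) hG' hr eG Q hQ n₀ hR
  obtain ⟨n₁, hn₁⟩ := serre_open f U hU hL0a
  refine ⟨max k₁ n₁, fun k hk n hn hnm q hq hqc => ?_⟩
  refine DivVan.van_chain I hI (isInvertible_tensorPow hLi (r * k)) (f ⁻¹ᵁ U) q (m * (r * k)) n₀ ?_ ?_ n hn hnm
  · have hk' : n₁ ≤ r * k := (le_max_right _ _).trans (hk.trans (Nat.le_mul_of_pos_left k hr))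
    obtain ⟨e⟩ := (mk_eq_iff (isInvertible_tensorPow hL0 (r * k)) (isInvertible_tensorMod
      (isInvertible_tensorPow hLi (r * k)) (isInvertible_tensorPow hI (m * (r * k))))).1 (by
        rw [← mk_mul_mk (isInvertible_tensorPow hLi (r * k)) (isInvertible_tensorPow hI (m * (r * k))),
          mk_tensorPow hLi, mk_tensorPow hI, mk_tensorPow hL0, cL, mul_pow, ← pow_mul, mul_assoc, ← mul_pow, cOE,
          one_pow, mul_one])
    exact DivVan.HHon_of_iso e (f ⁻¹ᵁ U) q (hn₁ _ hk' q hq)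
  · intro n' hn' hn'N
    have h1 := hk₁ k ((le_max_left _ _).trans hk) n' hn' hn'N.le q hq hqc
    rw [hopen] at h1
    obtain ⟨e⟩ := (mk_eq_iff (isInvertible_tensorMod (isInvertible_tensorPow hLEi (r * k))
      (isInvertible_tensorPow hCi n')) (isInvertible_tensorMod
      (isInvertible_pullback i (isInvertible_tensorPow hLi (r * k))) (isInvertible_tensorPow hCi n'))).1 (by
        rw [← mk_mul_mk (isInvertible_tensorPow hLEi (r * k)) (isInvertible_tensorPow hCi n'),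
          ← mk_mul_mk (isInvertible_pullback i (isInvertible_tensorPow hLi (r * k))) (isInvertible_tensorPow hCi n'),
          mk_tensorPow hLEi, cLE, ← pull_mk i (isInvertible_tensorPow hLi (r * k)), mk_tensorPow hLi, map_pow])
    exact DivVan.HHon_of_iso e (i ⁻¹ᵁ (f ⁻¹ᵁ U)) q h1

end K946.CoreVan
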