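import Groth.Agent.BSB.K946.FlatContr2
import Groth.Agent.Grpsch.PicGrp

/-!
# Vanishing on the divisor
-/

set_option autoImplicit false
universe u
open CategoryTheory CategoryTheory.Limits AlgebraicGeometry Opposite TopologicalSpace
open Groth.Agent.Fdesc.LocGen Groth.Agent

namespace K946.EVan

open Grpsch.PicGrp

variable {A : Type u} [CommRing A] [IsNoetherianRing A] {E F : Scheme.{u}}

theorem contr_van (g : F ⟶ Spec (CommRingCat.of A)) [IsProper g] (ψ : E ⟶ F) [IsProper ψ] {N : F.Modules}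
    (hN : CohB1.IsAmple N) {G : E.Modules} (hG : Coh.IsCoh G) (Q : ℕ → Prop) (hQ : ∀ q q', q' ≤ q → Q q → Q q')
    (hR : ∀ q, 1 ≤ q → Q q → RZ ψ G q) :
    ∃ k₀ : ℕ, ∀ k : ℕ, k₀ ≤ k → ∀ q, 1 ≤ q → Q q →
      Subsingleton (Coh.HH E (CohB1.tensorMod G
        (CohB1.tensorPow ((Scheme.Modules.pullback ψ).obj N) k)) q) := by
  have hY : IsLocallyNoetherian F := LocallyOfFiniteType.isLocallyNoetherian g
  obtain ⟨k₀, hk₀⟩ := (S0051.result A F g N hN.1).1 hN ((Coh.push ψ).obj G) (ContrVan.isCoh_push ψ hG)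
  refine ⟨k₀, fun k hk q hq hqc => ?_⟩
  obtain ⟨e₁⟩ := CohqB.FinAmple.nonempty_pullback_tensorPow ψ hN.1 k
  obtain ⟨e₂⟩ := CohqB.FinAmple.nonempty_push_tw ψ hN.1 G k
  obtain ⟨e₃⟩ := RZ.exists_equiv_push (ψ := ψ) (F := CohB1.tensorMod G
        (CohB1.tensorPow ((Scheme.Modules.pullback ψ).obj N) k)) q fun q' hq' hq'q =>
    ((hR q' hq' (hQ q q' hq'q hqc)).twist hG.1 (isInvertible_tensorPow hN.1 k)).of_iso
      (Ega2.Tens.mapTIso (Iso.refl _) e₁)
  rw [e₃.toEquiv.subsingleton_congr]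
  exact CohqA.UnifVan.subsingleton_of_iso e₂ q (hk₀ k hk q hq)

theorem evan (f : E ⟶ Spec (CommRingCat.of A)) [IsProper f] (g : F ⟶ Spec (CommRingCat.of A)) [IsProper g]
    (ψ : E ⟶ F) [IsProper ψ] {L C M : E.Modules} (hL : PicF.IsInvertible L) (hC : PicF.IsInvertible C)
    (hM : CohB1.IsAmple M) {m : ℕ} (hm : 0 < m)
    (eM : mk M hM.1 = mk L hL * mk C hC ^ m) {G : F.Modules}
    (hG : CohB1.IsAmple G) {r : ℕ} (hr : 0 < r) (e : (Scheme.Modules.pullback ψ).obj G ≅ CohB1.tensorPow L r)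
    (Q : ℕ → Prop) (hQ : ∀ q q', q' ≤ q → Q q → Q q')
    (n₀ : ℕ) (hR : ∀ n, n₀ ≤ n → ∀ q, 1 ≤ q → Q q → RZ ψ (CohB1.tensorPow C n) q) :
    ∃ k₀ : ℕ, ∀ k, k₀ ≤ k → ∀ n, n₀ ≤ n → n ≤ m * (r * k) → ∀ q, 1 ≤ q → Q q →
      Subsingleton (Coh.HH E (CohB1.tensorMod (CohB1.tensorPow L (r * k)) (CohB1.tensorPow C n)) q) := by
  letI : E.Over (Spec (CommRingCat.of A)) := ⟨f⟩
  have : IsProper (E ↘ Spec (CommRingCat.of A)) := inferInstanceAs (IsProper f)
  have hE : IsLocallyNoetherian E := LocallyOfFiniteType.isLocallyNoetherian f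
  have hF : IsLocallyNoetherian F := LocallyOfFiniteType.isLocallyNoetherian g
  have hcoh : ∀ n, Coh.IsCoh (CohB1.tensorPow C n) := fun n =>
    Models.TrivGeom.isCoh_of_isInvertible (isInvertible_tensorPow hC n)
  obtain ⟨l, hl, hgl⟩ := FlatContr.exists_gg_pow ψ hG hr e
  choose D hD using fun r' : Fin m => UnifTwo.unif_semiample (A := A) hL hl hgl hM (hcoh r')
  have key : ∀ n : Fin (m * Finset.univ.sup D), ∃ k₀ : ℕ, ∀ k, k₀ ≤ k → n₀ ≤ n.1 → ∀ q, 1 ≤ q → Q q →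
      Subsingleton (Coh.HH E (CohB1.tensorMod (CohB1.tensorPow C n)
        (CohB1.tensorPow ((Scheme.Modules.pullback ψ).obj G) k)) q) := by
    intro n
    by_cases hn : n₀ ≤ n.1
    · obtain ⟨k₀, hk₀⟩ := contr_van g ψ hG (hcoh n) Q hQ fun q hq hqc => hR n hn q hq hqc
      exact ⟨k₀, fun k hk _ => hk₀ k hk⟩
    · exact ⟨0, fun k _ h => absurd h hn⟩
  choose K hK using key
  refine ⟨Finset.univ.sup K, fun k hk n hn hnm q hq hqc => ?_⟩
  by_cases hb : Finset.univ.sup D ≤ n / m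
  · have h1 := hD ⟨n % m, Nat.mod_lt _ hm⟩ (r * k - n / m) (n / m) ((Finset.le_sup (Finset.mem_univ _)).trans hb) q hq
    obtain ⟨e₁⟩ := (mk_eq_iff (isInvertible_tensorMod (isInvertible_tensorMod (isInvertible_tensorPow hC (n % m))
      (isInvertible_tensorPow hL (r * k - n / m))) (isInvertible_tensorPow hM.1 (n / m)))
      (isInvertible_tensorMod (isInvertible_tensorPow hL (r * k)) (isInvertible_tensorPow hC n))).1 (by
        rw [← mk_mul_mk (isInvertible_tensorMod (isInvertible_tensorPow hC (n % m))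
          (isInvertible_tensorPow hL (r * k - n / m))) (isInvertible_tensorPow hM.1 (n / m)),
          ← mk_mul_mk (isInvertible_tensorPow hC (n % m)) (isInvertible_tensorPow hL (r * k - n / m)),
          ← mk_mul_mk (isInvertible_tensorPow hL (r * k)) (isInvertible_tensorPow hC n),
          mk_tensorPow hC (n % m), mk_tensorPow hL (r * k - n / m), mk_tensorPow hM.1 (n / m),
          mk_tensorPow hL (r * k), mk_tensorPow hC n, eM, mul_pow, ← pow_mul]
        have h2 : n / m ≤ r * k := Nat.div_le_of_le_mul hnm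
        have h3 : mk L hL ^ (r * k - n / m) * mk L hL ^ (n / m) = mk L hL ^ (r * k) := by
          rw [← pow_add, Nat.sub_add_cancel h2]
        have h4 : mk C hC ^ (n % m) * mk C hC ^ (m * (n / m)) = mk C hC ^ n := by
          rw [← pow_add, Nat.mod_add_div]
        rw [← h3, ← h4]
        ac_rfl)
    exact CohqA.UnifVan.subsingleton_of_iso e₁ q h1
  · have hn' : n < m * Finset.univ.sup D := by
      rw [mul_comm]
      exact (Nat.div_lt_iff_lt_mul hm).1 (not_le.1 hb)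
    have h1 := hK ⟨n, hn'⟩ k ((Finset.le_sup (Finset.mem_univ _)).trans hk) hn q hq hqc
    refine CohqA.UnifVan.subsingleton_of_iso ?_ q h1
    exact Ega2.Tens.swap _ _ ≪≫ Ega2.Tens.mapTIso
      (Ega2.TensPow.powIso e k ≪≫ Ega2.TensPow.powMul L r k) (Iso.refl _)

end K946.EVan
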