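import Groth.Agent.Etbc.H218.DiscreteSplit
import Groth.Agent.Desc.LQF
import Groth.Prelude.Def_ega3

/-!
# The number of geometric points of a quasi-compact étale morphism
-/

set_option autoImplicit false
universe u
open AlgebraicGeometry CategoryTheory CategoryTheory.Limits

namespace K946.EtFin1

variable {T S : Scheme.{u}} (f : T ⟶ S)

theorem finrank_fiberTo [Etale f] [QuasiCompact f] (s : S) (z : Spec (S.residueField s)) :
    (f.fiberToSpecResidueField s).finrank z = Module.finrank (S.residueField s) Γ(f.fiber s, ⊤) := by
  have hlqf : LocallyQuasiFinite f := Groth.Agent.Desc.LQF.of_etale f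
  have hfin : IsFinite (f.fiberToSpecResidueField s) := inferInstance
  have het : Etale (f.fiberToSpecResidueField s) := inferInstance
  have hW : IsAffine (f.fiber s) := isAffine_of_isAffineHom (f.fiberToSpecResidueField s)
  let C := Γ(f.fiber s, ⊤)
  have key : Spec.map (CommRingCat.ofHom (algebraMap (S.residueField s) C)) =
      (f.fiber s).isoSpec.inv ≫ f.fiberToSpecResidueField s := by
    rw [Iso.eq_inv_comp]
    have h1 : CommRingCat.ofHom (algebraMap (S.residueField s) C) =
      (Scheme.ΓSpecIso (S.residueField s)).inv ≫ (f.fiberToSpecResidueField s).appTop := rfl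
    rw [h1, Spec.map_comp, ← Category.assoc, Scheme.isoSpec_hom, ← Scheme.toSpecΓ_naturality, Category.assoc,
      toSpecΓ_SpecMap_ΓSpecIso_inv, Category.comp_id]
  have h2 : (Spec.map (CommRingCat.ofHom (algebraMap (S.residueField s) C))).finrank z =
      (f.fiberToSpecResidueField s).finrank z := by
    rw [key, Scheme.Hom.finrank_comp_left_of_isIso]
  have hfin' : Module.Finite (S.residueField s) C := by
    have : IsFinite (Spec.map (CommRingCat.ofHom (algebraMap (S.residueField s) C))) := by
      rw [key]; infer_instance
    rw [IsFinite.SpecMap_iff] at this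
    exact this
  rw [← h2]
  refine Eq.trans (Scheme.Hom.finrank_SpecMap_algebraMap (S.residueField s) C z) ?_
  rw [Module.rankAtStalk_eq_finrank_of_free]
  rfl

/-- The number of geometric points over a geometric point. -/
theorem natCard_pullback [Etale f] [QuasiCompact f] {Ω : Type u} [Field Ω] [IsSepClosed Ω]
    (η : Spec (CommRingCat.of Ω) ⟶ S) (s : S) (hs : η default = s) :
    Nat.card ↥(pullback f η) = Module.finrank (S.residueField s) Γ(f.fiber s, ⊤) := by
  subst hs
  have hlqf : LocallyQuasiFinite f := Groth.Agent.Desc.LQF.of_etale f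
  have hd : (default : Spec (CommRingCat.of Ω)) = IsLocalRing.closedPoint Ω := Subsingleton.elim _ _
  rw [hd]
  let s := η (IsLocalRing.closedPoint Ω)
  let σ : Spec (CommRingCat.of Ω) ⟶ Spec (S.residueField s) :=
    Spec.map (Scheme.descResidueField (Scheme.stalkClosedPointTo η))
  have hσ : σ ≫ S.fromSpecResidueField s = η :=
    Scheme.descResidueField_stalkClosedPointTo_fromSpecResidueField Ω S η
  have h1 : IsPullback (pullback.fst (f.fiberToSpecResidueField s) σ ≫ f.fiberι s)
      (pullback.snd (f.fiberToSpecResidueField s) σ) f η := by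
    have := (IsPullback.of_hasPullback (f.fiberToSpecResidueField s) σ).paste_horiz
      (IsPullback.of_hasPullback f (S.fromSpecResidueField s))
    rw [hσ] at this
    exact this
  rw [Nat.card_congr h1.isoPullback.inv.homeomorph.toEquiv,
    Groth.Agent.Etbc.H218.DiscreteSplit.card_eq_finrank (pullback.snd (f.fiberToSpecResidueField s) σ) default,
    Scheme.Hom.finrank_pullback_snd, finrank_fiberTo]

end K946.EtFin1
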