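import Groth.Agent.BSB.K946.EtFin1
import Groth.Agent.EtpbcB.StratScheme
import Mathlib.AlgebraicGeometry.Morphisms.FlatRank
import Mathlib.AlgebraicGeometry.Morphisms.UniversallyClosed

/-!
# Counting points: a universally closed étale morphism with constantly many geometric points,
whose fibre over a point is spread out to opens finite over the base, is finite near that point
-/

set_option autoImplicit false
universe u
open AlgebraicGeometry CategoryTheory CategoryTheory.Limits TopologicalSpace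

namespace K946.EtFin2

theorem exists_open {X U : Scheme.{u}} (p : X ⟶ U) [Etale p] [QuasiCompact p] [UniversallyClosed p] (d : ℕ)
    (hd : ∀ (Ω : Type u) [Field Ω] [IsSepClosed Ω] (η : Spec (CommRingCat.of Ω) ⟶ U),
      Nat.card ↥(pullback p η) = d)
    (u : U) {A : Type} [Finite A] (V : A → X.Opens) (v : A → X) (hv : ∀ a, v a ∈ V a) (hpv : ∀ a, p (v a) = u)
    (hinj : Function.Injective v) (hfin : ∀ a, IsFinite ((V a).ι ≫ p))
    (huniq : ∀ a (w : X), w ∈ V a → p w = u → w = v a) (hcov : ∀ w : X, p w = u → ∃ a, w = v a) :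
    ∃ W : U.Opens, u ∈ W ∧ IsAffineOpen W ∧ IsFinite (p ∣_ W) := by
  classical
  have hfd : Finite A := inferInstance
  let _ := Fintype.ofFinite A
  let q : ∀ a, (V a : Scheme.{u}) ⟶ U := fun a => (V a).ι ≫ p
  have het : ∀ a, Etale (q a) := fun a => inferInstance
  -- the open sets
  let Z : Set X := {x | ∀ a, x ∉ V a}
  have hZ : IsClosed Z := by
    have : Z = ⋂ a, ((V a : Set X))ᶜ := by
      ext x
      simp [Z]
    rw [this]
    exact isClosed_iInter fun a => (V a).isOpen.isClosed_compl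
  let W0 : U.Opens := ⟨(p '' Z)ᶜ, (p.isClosedMap _ hZ).isOpen_compl⟩
  let n : A → ℕ := fun a => (q a).finrank u
  let W1 : U.Opens := ⟨⋂ a, {u' | (q a).finrank u' = n a}, by
    apply isOpen_iInter_of_finite
    intro a
    exact ((q a).isLocallyConstant_finrank).isOpen_fiber _⟩
  have hu0 : u ∈ W0 := by
    rintro ⟨x, hx, hxu⟩
    obtain ⟨a, rfl⟩ := hcov x hxu
    exact hx a (hv a)
  have hu1 : u ∈ W1 := Set.mem_iInter.2 fun a => rfl
  -- the geometric fibres
  have count : ∀ (Ω : Type u) [Field Ω] [IsSepClosed Ω] (η : Spec (CommRingCat.of Ω) ⟶ U) (a : A),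
      Nat.card {z : ↥(pullback p η) // pullback.fst p η z ∈ V a} = (q a).finrank (η default) := by
    intro Ω _ _ η a
    have h1 := (isPullback_morphismRestrict (pullback.fst p η) (V a)).paste_vert
      (IsPullback.of_hasPullback p η)
    have h2 := Groth.Agent.Etbc.H218.DiscreteSplit.card_eq_finrank (pullback.snd (q a) η) default
    rw [Scheme.Hom.finrank_pullback_snd] at h2
    rw [← h2]
    exact Nat.card_congr h1.isoPullback.hom.homeomorph.toEquiv
  have hfinP : ∀ (Ω : Type u) [Field Ω] [IsSepClosed Ω] (η : Spec (CommRingCat.of Ω) ⟶ U),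
      Finite ↥(pullback p η) := by
    intro Ω _ _ η
    have hlqf : LocallyQuasiFinite (pullback.snd p η) := Groth.Agent.Desc.LQF.of_etale _
    have : IsFinite (pullback.snd p η) := IsFinite.of_locallyQuasiFinite _
    have h3 := (pullback.snd p η).finite_preimage_singleton default
    have h4 : (pullback.snd p η) ⁻¹' {default} = Set.univ := by
      ext z
      simp [Subsingleton.elim ((pullback.snd p η) z) default]
    rw [h4] at h3
    exact Set.finite_univ_iff.1 h3
  -- the tautological surjection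
  let Q : ∀ (Ω : Type u) [Field Ω] (η : Spec (CommRingCat.of Ω) ⟶ U), A → Type u :=
    fun Ω _ η a => {z : ↥(pullback p η) // pullback.fst p η z ∈ V a}
  let τ : ∀ (Ω : Type u) [Field Ω] (η : Spec (CommRingCat.of Ω) ⟶ U), (Σ a, Q Ω η a) → ↥(pullback p η) :=
    fun Ω _ η z => z.2.1
  have hpη : ∀ (Ω : Type u) [Field Ω] (η : Spec (CommRingCat.of Ω) ⟶ U) (z : ↥(pullback p η)),
      p (pullback.fst p η z) = η default := by
    intro Ω _ η z
    rw [← Scheme.Hom.comp_apply, pullback.condition, Scheme.Hom.comp_apply]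
    congr 1
    exact Subsingleton.elim _ _
  have hsurj : ∀ (Ω : Type u) [Field Ω] (η : Spec (CommRingCat.of Ω) ⟶ U), η default ∈ W0 →
      Function.Surjective (τ Ω η) := by
    intro Ω _ η hη z
    by_contra hz
    apply hη
    refine ⟨pullback.fst p η z, ?_, hpη Ω η z⟩
    intro a ha
    exact hz ⟨⟨a, ⟨z, ha⟩⟩, rfl⟩
  have hcardS : ∀ (Ω : Type u) [Field Ω] [IsSepClosed Ω] (η : Spec (CommRingCat.of Ω) ⟶ U),
      Nat.card (Σ a, Q Ω η a) = ∑ a, (q a).finrank (η default) := by
    intro Ω _ _ η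
    have := hfinP Ω η
    rw [Nat.card_sigma]
    exact Finset.sum_congr rfl fun a _ => count Ω η a
  have hgeom : ∀ u' : U, ∃ (Ω : Type u) (_ : Field Ω) (_ : IsSepClosed Ω)
      (η : Spec (CommRingCat.of Ω) ⟶ U), η default = u' := by
    intro u'
    refine ⟨AlgebraicClosure (U.residueField u'), inferInstance, inferInstance,
      Spec.map (CommRingCat.ofHom (algebraMap (U.residueField u') (AlgebraicClosure (U.residueField u')))) ≫
        U.fromSpecResidueField u', ?_⟩
    rw [Scheme.Hom.comp_apply]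
    exact Scheme.fromSpecResidueField_apply _ _
  have hsum : ∑ a, n a = d := by
    obtain ⟨Ω, _, _, η, hη⟩ := hgeom u
    have h1 : Function.Injective (τ Ω η) := by
      rintro ⟨a, z, ha⟩ ⟨b, z', hb⟩ (h : z = z')
      subst h
      have hz : p (pullback.fst p η z) = u := by rw [hpη, hη]
      have h2 := huniq a _ ha hz
      have h3 := huniq b _ hb hz
      have h4 : a = b := hinj (h2.symm.trans h3)
      subst h4
      rfl
    have h2 := Nat.card_congr (Equiv.ofBijective _ ⟨h1, hsurj Ω η (by rw [hη]; exact hu0)⟩)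
    rw [hcardS, hd] at h2
    rw [← h2]
    exact Finset.sum_congr rfl fun a _ => by rw [hη]
  have hdisj : ∀ (w : X), p w ∈ W0 → p w ∈ W1 → ∀ a b, w ∈ V a → w ∈ V b → a = b := by
    intro w hw0 hw1 a b ha hb
    obtain ⟨Ω, _, _, η, hη⟩ := hgeom (p w)
    have := hfinP Ω η
    have hfs : Finite (Σ a, Q Ω η a) := by
      have : ∀ a, Finite (Q Ω η a) := fun a => Subtype.finite
      infer_instance
    have h1 : Function.Bijective (τ Ω η) := by
      refine (hsurj Ω η (by rw [hη]; exact hw0)).bijective_of_nat_card_le ?_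
      rw [hcardS, hd, ← hsum]
      refine Finset.sum_le_sum fun a _ => ?_
      rw [hη]
      exact (Set.mem_iInter.1 hw1 a).le
    obtain ⟨z, hz, -⟩ := Scheme.Pullback.exists_preimage_pullback w (default : Spec (CommRingCat.of Ω)) hη.symm
    have h2 : (⟨a, ⟨z, by rw [hz]; exact ha⟩⟩ : Σ a, Q Ω η a) = ⟨b, ⟨z, by rw [hz]; exact hb⟩⟩ :=
      h1.1 rfl
    exact congrArg Sigma.fst h2
  obtain ⟨W, hW, huW, hWle⟩ := exists_isAffineOpen_mem_and_subset (U := W0 ⊓ W1) (x := u) ⟨hu0, hu1⟩
  refine ⟨W, huW, hW, ?_⟩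
  let O : ULift.{u} A → (p ⁻¹ᵁ W : Scheme.{u}).Opens := fun a => (p ⁻¹ᵁ W).ι ⁻¹ᵁ V a.down
  have hO : ∀ a, IsFinite ((O a).ι ≫ (p ∣_ W)) := by
    intro a
    have h1 := (isPullback_morphismRestrict (p ⁻¹ᵁ W).ι (V a.down)).paste_vert (isPullback_morphismRestrict p W).flip
    exact MorphismProperty.of_isPullback (P := @IsFinite) h1 (hfin a.down)
  have hW01 : ∀ w : (p ⁻¹ᵁ W : Scheme.{u}), p ((p ⁻¹ᵁ W).ι w) ∈ W0 ∧ p ((p ⁻¹ᵁ W).ι w) ∈ W1 := by
    intro w
    exact hWle w.2
  have hcovO : ⨆ a, (O a).ι.opensRange = ⊤ := by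
    rw [eq_top_iff]
    intro w _
    have h1 : ∃ a, (p ⁻¹ᵁ W).ι w ∈ V a := by
      by_contra h
      push Not at h
      exact (hW01 w).1 ⟨_, h, rfl⟩
    obtain ⟨a, ha⟩ := h1
    refine Opens.mem_iSup.2 ⟨⟨a⟩, ?_⟩
    rw [Scheme.Opens.opensRange_ι]
    exact ha
  have hdisjO : Pairwise (Function.onFun Disjoint (fun a => (O a).ι.opensRange)) := by
    intro a b hab
    change Disjoint (O a).ι.opensRange (O b).ι.opensRange
    rw [Scheme.Opens.opensRange_ι, Scheme.Opens.opensRange_ι]
    rw [disjoint_iff, eq_bot_iff]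
    intro w hw
    exact hab (congrArg ULift.up (hdisj _ (hW01 w).1 (hW01 w).2 a.down b.down hw.1 hw.2))
  have hcolim : Nonempty (IsColimit (Cofan.mk (p ⁻¹ᵁ W : Scheme.{u}) fun a => (O a).ι)) :=
    nonempty_isColimit_cofanMk_of (fun a => (O a).ι) hcovO hdisjO
  have hres : IsFinite ((p ∣_ W) ≫ hW.isoSpec.hom) := by
    refine Groth.Agent.EtpbcB.StratScheme.isFinite_of_isColimit_cofan _ (fun a => (O a : Scheme.{u}))
      (fun a => (O a).ι) hcolim fun a => ?_
    have := hO a
    rw [← Category.assoc]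
    infer_instance
  have heq : (p ∣_ W) = ((p ∣_ W) ≫ hW.isoSpec.hom) ≫ hW.isoSpec.inv := by simp
  rw [heq]
  infer_instance

end K946.EtFin2
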