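import Groth.Agent.BSB.K946.EtFin2
import Groth.Agent.Flat2D.QFPurInsep3
import Groth.Agent.Etbase.FpqcDescent
import Groth.Agent.GrpQ.H776.DescFamily

/-!
# A universally closed étale morphism with constantly many geometric points is finite
-/

set_option autoImplicit false
universe u
open AlgebraicGeometry CategoryTheory CategoryTheory.Limits TopologicalSpace

namespace K946.EtFin3

set_option backward.isDefEq.respectTransparency false in
theorem isZariskiLocalAtTarget_isFinite :
    IsZariskiLocalAtTarget (@IsFinite : MorphismProperty Scheme.{u}) := inferInstance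

attribute [local instance] isZariskiLocalAtTarget_isFinite

theorem descendsAlong_gen (P : MorphismProperty Scheme.{u})
    [MorphismProperty.DescendsAlong P (@Surjective ⊓ @Flat ⊓ @QuasiCompact)] [IsZariskiLocalAtTarget P] :
    MorphismProperty.DescendsAlong P (@Surjective ⊓ @Flat ⊓ @LocallyOfFinitePresentation) := inferInstance

theorem isFinite_of_const {T S : Scheme.{u}} (f : T ⟶ S) [Etale f] [QuasiCompact f] [UniversallyClosed f] (d : ℕ)
    (hd : ∀ (Ω : Type u) [Field Ω] [IsSepClosed Ω] (η : Spec (CommRingCat.of Ω) ⟶ S),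
      Nat.card ↥(pullback f η) = d) : IsFinite f := by
  classical
  have hlqf : LocallyQuasiFinite f := Groth.Agent.Desc.LQF.of_etale f
  have key : ∀ s : S, ∃ (U : Scheme.{u}) (g : U ⟶ S) (W : U.Opens), Etale g ∧ s ∈ g '' (W : Set U) ∧
      IsFinite (pullback.snd f g ∣_ W) := by
    intro s
    have hfs : (f ⁻¹' {s}).Finite := f.finite_preimage_singleton s
    have hfs' : Finite ↑(f ⁻¹' {s}) := hfs
    obtain ⟨n, ⟨e⟩⟩ := Finite.exists_equiv_fin ↑(f ⁻¹' {s})
    let x : Fin n → T := fun i => (e.symm i).1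
    have hxinj : Function.Injective x := Subtype.val_injective.comp e.symm.injective
    have hxs : ∀ i, f (x i) = s := fun i => (e.symm i).2
    have hxcov : ∀ t : T, f t = s → ∃ i, t = x i := fun t ht => ⟨e ⟨t, ht⟩, by simp [x]⟩
    obtain ⟨U, g, u, hg, hgu, J, hJ, V, v, h1, h2, h3⟩ := Groth.Agent.Flat2D.QFPurInsep.main f s x hxinj hxs
      (fun i => f.quasiFiniteAt (x i))
    have hsnd : Etale (pullback.snd f g) := inferInstance
    have hcard : ∀ (Ω : Type u) [Field Ω] [IsSepClosed Ω] (η : Spec (CommRingCat.of Ω) ⟶ U),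
        Nat.card ↥(pullback (pullback.snd f g) η) = d := by
      intro Ω _ _ η
      rw [← hd Ω (η ≫ g)]
      exact Nat.card_congr ((IsPullback.of_hasPullback (pullback.snd f g) η).paste_horiz
        (IsPullback.of_hasPullback f g)).isoPullback.hom.homeomorph.toEquiv
    obtain ⟨W, huW, -, hW⟩ := EtFin2.exists_open (pullback.snd f g) d hcard u (A := Σ i, J i)
      (fun a => V a.1 a.2) (fun a => v a.1 a.2) (fun a => (h1 a.1 a.2).1) (fun a => (h1 a.1 a.2).2.2.1)
      (by
        rintro ⟨i, j⟩ ⟨i', j'⟩ h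
        obtain ⟨rfl, h4⟩ := h2 i j i' j' h
        rw [eq_of_heq h4])
      (fun a => (h1 a.1 a.2).2.1) (fun a w hw hwu => (h1 a.1 a.2).2.2.2.1 w hw hwu)
      (by
        intro w hw
        obtain ⟨i, hi⟩ := hxcov (pullback.fst f g w) (by
          rw [← Scheme.Hom.comp_apply, pullback.condition, Scheme.Hom.comp_apply, hw, hgu])
        obtain ⟨j, hj⟩ := h3 w i hw hi
        exact ⟨⟨i, j⟩, hj⟩)
    exact ⟨U, g, W, hg, ⟨u, huW, hgu⟩, hW⟩
  choose U g W hg hs hfin using key
  have hdesc : MorphismProperty.DescendsAlong (@IsFinite : MorphismProperty Scheme.{u})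
      (@Surjective ⊓ @Flat ⊓ @QuasiCompact) := Groth.Agent.Etbase.FpqcDescent.descendsAlong_isFinite
  have hdesc' := descendsAlong_gen (@IsFinite : MorphismProperty Scheme.{u})
  have hfl : ∀ s, Flat ((W s).ι ≫ g s) := fun s => by have := hg s; infer_instance
  have hfp : ∀ s, LocallyOfFinitePresentation ((W s).ι ≫ g s) := fun s => by have := hg s; infer_instance
  refine Groth.Agent.GrpQ.H776.DescFamily.of_family (@IsFinite : MorphismProperty Scheme.{u}) f
    (fun s => (W s : Scheme.{u})) (fun s => (pullback.snd f (g s) ⁻¹ᵁ W s : Scheme.{u})) (fun s => (W s).ι ≫ g s)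
    (fun s => (pullback.snd f (g s) ⁻¹ᵁ W s).ι ≫ pullback.fst f (g s)) (fun s => pullback.snd f (g s) ∣_ W s) ?_ ?_ hfin
  · intro s
    exact (isPullback_morphismRestrict (pullback.snd f (g s)) (W s)).flip.paste_horiz
      (IsPullback.of_hasPullback f (g s))
  · intro s
    obtain ⟨w, hw, hws⟩ := hs s
    exact ⟨s, ⟨w, hw⟩, hws⟩

end K946.EtFin3
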