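import Groth.Agent.Picfga.LineDescent
import Groth.Agent.Grpsch.PicGrp
import Groth.Agent.Ega1.GlobGenPt
import Groth.Agent.Ega2.AmpleGlobGen
import Groth.Agent.Ega2.AmpleWeight
import Groth.Agent.VarietyB.GGStalk
import Groth.Agent.Models.TrivGeom

/-!
# Invertible modules on `X` descending along `π : X ⟶ Y` with `π_* O_X = O_Y`
-/

set_option autoImplicit false
universe u
open AlgebraicGeometry CategoryTheory CategoryTheory.Limits TopologicalSpace

namespace K946.Expo

open Groth.Agent.Fdesc.LocGen Groth.Agent.Grpsch.PicGrp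

variable {X Y : Scheme.{u}} (π : X ⟶ Y)

/-- A universally closed morphism with `O_Y = π_* O_X` is surjective. -/
theorem surjective_of_app [UniversallyClosed π] (h : ∀ V : Y.Opens, IsIso (π.app V)) : Function.Surjective π := by
  have hcl : IsClosed (Set.range π) := π.isClosedMap.isClosed_range
  let V : Y.Opens := ⟨(Set.range π)ᶜ, hcl.isOpen_compl⟩
  have h1 : π ⁻¹ᵁ V = ⊥ := by
    ext x
    exact ⟨fun hx => hx ⟨x, rfl⟩, fun hx => hx.elim⟩
  have h2 : Subsingleton Γ(X, π ⁻¹ᵁ V) := by rw [h1]; infer_instance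
  have h3 : Function.Bijective (π.app V).hom := (ConcreteCategory.isIso_iff_bijective _).mp (h V)
  have h4 : (1 : Γ(Y, V)) = 0 := h3.1 (Subsingleton.elim _ _)
  have h5 := congrArg (fun a => Y.basicOpen a) h4
  rw [Y.basicOpen_zero, Y.basicOpen_one] at h5
  rw [← Set.range_eq_univ, ← Set.compl_empty_iff]
  exact congrArg (fun V : Y.Opens => (V : Set Y)) h5

/-- A module which has generators over the inverse images of a cover of `Y` is a pullback. -/
theorem exists_of_locTriv (hπ : ∀ U : Y.Opens, IsIso (π.app U)) (G : X.Modules)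
    (h : ∀ y : Y, ∃ (U : Y.Opens) (e : Γ(G, π ⁻¹ᵁ U)), y ∈ U ∧ IsGen e) :
    ∃ M : Y.Modules, PicF.IsInvertible M ∧ Nonempty ((Scheme.Modules.pullback π).obj M ≅ G) := by
  choose U e hy he using h
  have hbij : ∀ V : Y.Opens, Function.Bijective (π.app V) := fun V =>
    ConcreteCategory.bijective_of_isIso (π.app V)
  have hg : ∀ i j : Y, ∃ g : Γ(Y, U i ⊓ U j),
      res G (π.preimage_mono (inf_le_left : U i ⊓ U j ≤ U i)) (e i) =
        π.app (U i ⊓ U j) g • res G (π.preimage_mono inf_le_right) (e j) := by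
    intro i j
    obtain ⟨γ, hγ⟩ := ((he j).res (π.preimage_mono (inf_le_right : U i ⊓ U j ≤ U j))).exists_eq
      (res G (π.preimage_mono inf_le_left) (e i))
    obtain ⟨g, rfl⟩ := (hbij _).2 γ
    exact ⟨g, hγ⟩
  choose g hg using hg
  have hU : ⨆ i, U i = ⊤ := by
    rw [eq_top_iff]
    intro y _
    exact Opens.mem_iSup.2 ⟨y, hy y⟩
  obtain ⟨M, m, φ, hm, -, -⟩ := Groth.Agent.Picfga.LineDescent.exists_descent π U hU e he
    (fun V => (hbij V).1) g hg
  refine ⟨M, ?_, ⟨φ⟩⟩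
  rw [isInvertible_iff]
  intro y
  exact ⟨U y, m y, hy y, hm y⟩

/-- A globally generated invertible module a power of which comes from `Y` is locally trivial over `Y`. -/
theorem exists_gen_of_globGen [UniversallyClosed π] (hπ : ∀ U : Y.Opens, IsIso (π.app U)) {G : X.Modules}
    (hG : PicF.IsInvertible G) (hgg : Curv2.IsGloballyGenerated G) {M : Y.Modules} (hM : PicF.IsInvertible M)
    {m : ℕ} (hm : 0 < m) (φ : (Scheme.Modules.pullback π).obj M ≅ CohB1.tensorPow G m) (y : Y) :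
    ∃ (U : Y.Opens) (e : Γ(G, π ⁻¹ᵁ U)), y ∈ U ∧ IsGen e := by
  obtain ⟨x, rfl⟩ := surjective_of_app π hπ y
  obtain ⟨m, rfl⟩ := Nat.exists_eq_succ_of_ne_zero hm.ne'
  obtain ⟨s, hs⟩ := Groth.Agent.Ega1.GlobGenPt.exists_mem_genLocus hG hgg x
  obtain ⟨V, f, hxV, hf⟩ := (isInvertible_iff M).1 hM (π x)
  let e : Γ(CohB1.tensorPow G (m + 1), π ⁻¹ᵁ V) := φ.hom.app (π ⁻¹ᵁ V) (pullSec π f)
  have he : IsGen e := (hf.pullSec π).app φ.hom
  obtain ⟨a, ha⟩ := he.exists_eq (sec (powHom s (m + 1)) (π ⁻¹ᵁ V))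
  obtain ⟨b, rfl⟩ := (ConcreteCategory.bijective_of_isIso (π.app V)).2 a
  have h1 := genLocus_inf_eq (powHom s (m + 1)) he ha
  rw [genLocus_powHom hG s m] at h1
  have h2 : π ⁻¹ᵁ (Y.basicOpen b) = X.basicOpen (π.app V b) := Scheme.preimage_basicOpen π b
  have hle : π ⁻¹ᵁ (Y.basicOpen b) ≤ CohB1.genLocus G s := by
    rw [h2, ← h1]
    exact inf_le_left
  refine ⟨Y.basicOpen b, sec s _, ?_, ?_⟩
  · have h3 : x ∈ π ⁻¹ᵁ (Y.basicOpen b) := by
      rw [h2, ← h1]
      exact ⟨hs, hxV⟩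
    exact h3
  · have := (isGen_sec_genLocus s).res hle
    rwa [res_sec] at this

/-- A globally generated invertible module a power of which comes from `Y` comes from `Y`. -/
theorem exists_pullback_iso [UniversallyClosed π] (hπ : ∀ U : Y.Opens, IsIso (π.app U)) {G : X.Modules}
    (hG : PicF.IsInvertible G) (hgg : Curv2.IsGloballyGenerated G) {M : Y.Modules} (hM : PicF.IsInvertible M)
    {m : ℕ} (hm : 0 < m) (φ : Nonempty ((Scheme.Modules.pullback π).obj M ≅ CohB1.tensorPow G m)) :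
    ∃ N : Y.Modules, PicF.IsInvertible N ∧ Nonempty ((Scheme.Modules.pullback π).obj N ≅ G) :=
  exists_of_locTriv π hπ G (exists_gen_of_globGen π hπ hG hgg hM hm φ.some)

/-- The exponent statement. -/
theorem main [UniversallyClosed π] (hπ : ∀ U : Y.Opens, IsIso (π.app U)) [QuasiSeparatedSpace Y]
    (L : X.Modules) (hL : PicF.IsInvertible L) (M : Y.Modules) (hM : PicF.IsInvertible M) (hMa : CohB1.IsAmple M)
    (m : ℕ) (hm : 0 < m) (e0 : Nonempty ((Scheme.Modules.pullback π).obj M ≅ CohB1.tensorPow L m))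
    (d : ℕ) (hd : 0 < d)
    (hexp : ∃ m0 : ℕ, ∀ n : ℕ, m0 ≤ n → (Curv2.IsGloballyGenerated (CohB1.tensorPow L n) ↔ d ∣ n))
    (e : ℕ) :
    (∃ L' : Y.Modules, PicF.IsInvertible L' ∧ Nonempty ((Scheme.Modules.pullback π).obj L' ≅ CohB1.tensorPow L e)) ↔
      d ∣ e := by
  obtain ⟨m0, hm0⟩ := hexp
  let ℓ : Pic X := mk L hL
  let μ : Pic Y := mk M hM
  have hμ : pull π μ = ℓ ^ m := by
    rw [pull_mk, ← mk_tensorPow]
    exact (mk_eq_iff _ _).2 e0
  have key : ∀ e : ℕ, (∃ L' : Y.Modules, PicF.IsInvertible L' ∧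
      Nonempty ((Scheme.Modules.pullback π).obj L' ≅ CohB1.tensorPow L e)) ↔ ∃ c : Pic Y, pull π c = ℓ ^ e := by
    intro e
    constructor
    · rintro ⟨L', hL', h⟩
      refine ⟨mk L' hL', ?_⟩
      rw [pull_mk, ← mk_tensorPow]
      exact (mk_eq_iff _ _).2 h
    · rintro ⟨c, hc⟩
      obtain ⟨L', hL', rfl⟩ := exists_mk c
      refine ⟨L', hL', ?_⟩
      rw [pull_mk, ← mk_tensorPow] at hc
      exact (mk_eq_iff _ _).1 hc
  rw [key]
  constructor
  · rintro ⟨c, hc⟩
    obtain ⟨L', hL', rfl⟩ := exists_mk c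
    obtain ⟨n₀, hn₀⟩ := Groth.Agent.Ega2.AmpleGlobGen.exists_globGen hMa
      (F := L') (Groth.Agent.Models.TrivGeom.isCoh_of_isInvertible hL')
    have h1 : ∀ n, n₀ ≤ n → m0 ≤ n → d ∣ e + m * n := by
      intro n hn hn'
      rw [← hm0 _ (by nlinarith)]
      have h2 := Groth.Agent.VarietyB.GGStalk.isGloballyGenerated_pullback π _ (hn₀ n hn)
      have h3 : Nonempty ((Scheme.Modules.pullback π).obj (CohB1.tensorMod L' (CohB1.tensorPow M n)) ≅
          CohB1.tensorPow L (e + m * n)) := by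
        rw [← mk_eq_iff (isInvertible_pullback π (isInvertible_tensorMod hL' (isInvertible_tensorPow hM n)))
          (isInvertible_tensorPow hL _), ← pull_mk π (isInvertible_tensorMod hL' (isInvertible_tensorPow hM n)),
          mk_tensorPow hL, ← mk_mul_mk hL' (isInvertible_tensorPow hM n), map_mul, mk_tensorPow hM, map_pow]
        change pull π (mk L' hL') * pull π μ ^ n = ℓ ^ (e + m * n)
        rw [hc, hμ, pow_add, pow_mul]
      exact Groth.Agent.Ega2.GlobGenCrit.isGloballyGenerated_of_iso h3.some h2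
    have h2 := h1 (n₀ + m0) (by omega) (by omega)
    have h3 := h1 (n₀ + m0 + 1) (by omega) (by omega)
    have h4 : d ∣ m := by
      have : e + m * (n₀ + m0 + 1) = (e + m * (n₀ + m0)) + m := by ring
      rw [this] at h3
      exact (Nat.dvd_add_right h2).1 h3
    exact (Nat.dvd_add_left (h4.mul_right _)).1 h2
  · intro hde
    have h1 : ∀ n, m0 ≤ n → d ∣ n → ∃ c : Pic Y, pull π c = ℓ ^ n := by
      intro n hn hdn
      rw [← key]
      refine exists_pullback_iso π hπ (isInvertible_tensorPow hL n) ((hm0 n hn).2 hdn)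
        (isInvertible_tensorPow hM n) hm ?_
      rw [← mk_eq_iff (isInvertible_pullback π (isInvertible_tensorPow hM n))
        (isInvertible_tensorPow (isInvertible_tensorPow hL n) m), ← pull_mk π (isInvertible_tensorPow hM n),
        mk_tensorPow hM, mk_tensorPow (isInvertible_tensorPow hL n), mk_tensorPow hL, map_pow]
      change pull π μ ^ n = (ℓ ^ n) ^ m
      rw [hμ, ← pow_mul, ← pow_mul, mul_comm]
    obtain ⟨a, ha⟩ := h1 (d * (m0 + 1)) (by nlinarith) (dvd_mul_right _ _)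
    obtain ⟨b, hb⟩ := h1 (d * (m0 + 1) + e) (by nlinarith) ((Nat.dvd_add_right (dvd_mul_right _ _)).2 hde)
    refine ⟨b * a⁻¹, ?_⟩
    rw [map_mul, map_inv, ha, hb, pow_add, mul_comm (ℓ ^ (d * (m0 + 1))), mul_assoc, mul_inv_cancel, mul_one]

end K946.Expo
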