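import Groth.Agent.Ega2.Extend
import Groth.Agent.Ega2.TensPow
import Groth.Agent.Ega2.QCohLocal
import Mathlib.RingTheory.Flat.EquationalCriterion
import Mathlib.RingTheory.RingHom.Flat

/-!
# Flatness of the functions on `X_s` from the flatness of the sections of the powers of an invertible module
-/

set_option autoImplicit false
universe u
open CategoryTheory CategoryTheory.Limits AlgebraicGeometry Opposite TopologicalSpace
open Groth.Agent.Fdesc.LocGen Groth.Agent

namespace K946.FlatLoc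

variable {X : Scheme.{u}} {R : Type u} [CommRing R]

/-- Equational flatness of the global sections, as a module over `R` through `φ`. -/
def FlatEq (φ : R →+* Γ(X, ⊤)) (M : X.Modules) : Prop :=
  ∀ (l : ℕ) (f : Fin l → R) (x : Fin l → Γ(M, ⊤)), ∑ i, φ (f i) • x i = 0 →
    ∃ (k : ℕ) (a : Fin l → Fin k → R) (y : Fin k → Γ(M, ⊤)),
      (∀ i, x i = ∑ j, φ (a i j) • y j) ∧ ∀ j, ∑ i, f i * a i j = 0

theorem FlatEq.of_iso {φ : R →+* Γ(X, ⊤)} {M N : X.Modules} (e : M ≅ N) (h : FlatEq φ M) : FlatEq φ N := by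
  intro l f x hx
  obtain ⟨k, a, y, h1, h2⟩ := h l f (fun i => e.inv.app ⊤ (x i)) (by
    have h3 := congrArg (e.inv.app ⊤) hx
    rw [map_sum, map_zero] at h3
    simpa only [Scheme.Modules.Hom.app_smul] using h3)
  refine ⟨k, a, fun j => e.hom.app ⊤ (y j), fun i => ?_, h2⟩
  have h3 := congrArg (e.hom.app ⊤) (h1 i)
  rw [Ega2.TensPow.app_symm_app, map_sum] at h3
  simpa only [Scheme.Modules.Hom.app_smul] using h3

theorem sum_tmul' {M N : X.Modules} {U : X.Opens} {ι : Type*} (I : Finset ι) (m : ι → Γ(M, U)) (n : Γ(N, U)) :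
    tmul (∑ i ∈ I, m i) n = ∑ i ∈ I, tmul (m i) n := by
  unfold tmul
  rw [TensorProduct.sum_tmul, map_sum]

theorem flat_of_le [CompactSpace X] [QuasiSeparatedSpace X] (φ : R →+* Γ(X, ⊤)) {P : X.Modules}
    (hP : PicF.IsInvertible P) (s : Coh.structureModule X ⟶ P) (h : ∀ j, 1 ≤ j → FlatEq φ (CohB1.tensorPow P j)) :
    ((ores (le_top : (⊤ ⊓ CohB1.genLocus P s) ≤ ⊤)).comp φ).Flat := by
  let D := ⊤ ⊓ CohB1.genLocus P s
  have hD : D ≤ ⊤ := le_top
  let ψ : R →+* Γ(X, D) := (ores hD).comp φ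
  letI : Algebra R Γ(X, D) := ψ.toAlgebra
  have hs : ∀ (c : R) (b : Γ(X, D)), c • b = ores hD (φ c) * b := fun c b => rfl
  change Module.Flat R Γ(X, D)
  refine Module.Flat.of_forall_isTrivialRelation fun {l f x} hx => ?_
  -- extend the sections
  have hW : IsCompact ((⊤ : X.Opens) : Set X) := isCompact_univ
  have hW' : IsQuasiSeparated ((⊤ : X.Opens) : Set X) := by
    simpa using (isQuasiSeparated_univ (α := X))
  choose n hn using fun i => Ega2.Extend.exists_extend_fun hP s hW hW' (x i)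
  let m := Finset.univ.sup n + 1
  choose t ht using fun i => hn i m ((Finset.le_sup (Finset.mem_univ i)).trans (Nat.le_succ _))
  have hgen : IsGen (sec s D) := by
    have := (isGen_sec_genLocus s).res (inf_le_right : D ≤ _)
    rwa [res_sec] at this
  have h0 : res _ hD (∑ i, φ (f i) • t i) = 0 := by
    rw [map_sum]
    simp only [res_smul, ht]
    have h1 : ∀ i, ores hD (φ (f i)) • x i • pow (sec s D) m = (f i • x i) • pow (sec s D) m := fun i => by
      rw [smul_smul, hs]
    have h2 : ∑ i, ores hD (φ (f i)) • x i • pow (sec s D) m = 0 := by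
      simp only [h1]
      rw [← Finset.sum_smul, hx, zero_smul]
    exact h2
  obtain ⟨n', hn'⟩ := Ega2.Extend.exists_tmul_pow_eq_zero
    (Ega2.QCohLocal.isQCoh_of_isInvertible (isInvertible_tensorPow hP m)) hP s hW _ h0
  have h3 := hn' n' le_rfl
  let t' : Fin l → Γ(CohB1.tensorPow P (m + n'), ⊤) := fun i =>
    (Ega2.TensPow.powAdd P m n').hom.app ⊤ (tmul (t i) (pow (sec s ⊤) n'))
  have ht' : ∑ i, φ (f i) • t' i = 0 := by
    have h4 : ∑ i, φ (f i) • t' i =
        (Ega2.TensPow.powAdd P m n').hom.app ⊤ (tmul (∑ i, φ (f i) • t i) (pow (sec s ⊤) n')) := by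
      rw [sum_tmul', map_sum]
      simp only [smul_tmul, Scheme.Modules.Hom.app_smul]
      rfl
    rw [h4, h3, map_zero]
  obtain ⟨k, a, y, hy, ha⟩ := h (m + n') (by omega) l f t' ht'
  have hresT : ∀ i, res _ hD (t' i) = x i • pow (sec s D) (m + n') := fun i => by
    rw [← Fdesc.LocGen.app_res, res_tmul, ht, res_pow, res_sec, smul_tmul, Scheme.Modules.Hom.app_smul,
      Ega2.TensPow.powAdd_pow]
  choose β hβ using fun j => (hgen.pow (m + n')).exists_eq (res _ hD (y j))
  refine ⟨k, a, β, fun i => ?_, ha⟩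
  refine (hgen.pow (m + n')).ext ?_
  rw [← hresT, hy, map_sum, Finset.sum_smul]
  refine Finset.sum_congr rfl fun j _ => ?_
  rw [res_smul, hβ, smul_smul]
  rfl

theorem flat_genLocus [CompactSpace X] [QuasiSeparatedSpace X] (φ : R →+* Γ(X, ⊤)) {P : X.Modules}
    (hP : PicF.IsInvertible P) (s : Coh.structureModule X ⟶ P) (h : ∀ j, 1 ≤ j → FlatEq φ (CohB1.tensorPow P j))
    (D : X.Opens) (hD : D = CohB1.genLocus P s) :
    ((ores (le_top : D ≤ ⊤)).comp φ).Flat := by
  obtain rfl : D = ⊤ ⊓ CohB1.genLocus P s := by rw [hD, top_inf_eq]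
  exact flat_of_le φ hP s h

end K946.FlatLoc
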