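import Groth.Agent.BSB.K946.PushUnit
import Groth.Agent.BSB.K946.FlatLoc
import Groth.Agent.Fdesc.LocGenGlue
import Groth.Agent.Sga67.PushFlat
import Groth.Agent.Ega3B.NearFibre
import Mathlib.AlgebraicGeometry.Morphisms.Flat

/-!
# Flatness of the target of a contraction
-/

set_option autoImplicit false
universe u
open CategoryTheory CategoryTheory.Limits AlgebraicGeometry Opposite TopologicalSpace
open Groth.Agent.Fdesc.LocGen Groth.Agent

namespace K946.FlatBase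

open FlatLoc

theorem flatEq_push {Z T V : Scheme.{u}} [IsAffine V] (ψ : Z ⟶ T) (g : T ⟶ V) [QuasiCompact (ψ ≫ g)]
    [IsSeparated (ψ ≫ g)] {E : Z.Modules} (hE : Coh.IsQCoh E) (hfl : FlatMod.IsFlatOver (ψ ≫ g) E)
    (hvan : ∀ q : ℕ, 1 ≤ q → Subsingleton (Coh.HH Z E q)) :
    FlatEq (g.appTop.hom : Γ(V, ⊤) →+* Γ(T, ⊤)) ((Scheme.Modules.pushforward ψ).obj E) := by
  intro l f x hx
  have h1 := Sga67.PushFlat.flat_sections (ψ ≫ g) E hE hfl hvan
  let x' : Fin l → Γ((Scheme.Modules.pushforward (ψ ≫ g)).obj E, ⊤) := x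
  have hs : ∀ (a : Γ(V, ⊤)) (b : Γ((Scheme.Modules.pushforward (ψ ≫ g)).obj E, ⊤)),
      a • b = (g.appTop.hom a • (show Γ((Scheme.Modules.pushforward ψ).obj E, ⊤) from b) :) := fun a b => rfl
  have hx' : ∑ i, f i • x' i = 0 := by
    simp only [hs]
    exact hx
  obtain ⟨k, a, y, h2, h3⟩ := Module.Flat.isTrivialRelation_of_sum_smul_eq_zero hx'
  refine ⟨k, a, y, fun i => ?_, h3⟩
  have h4 := h2 i
  simp only [hs] at h4
  exact h4

theorem flat_affine {T V : Scheme.{u}} [IsAffine V] (g : T ⟶ V) [QuasiSeparatedSpace T] {N : T.Modules}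
    (hN : CohB1.IsAmple N) (n : ℕ) (hn : 0 < n)
    (h : ∀ j, 1 ≤ j → FlatEq (g.appTop.hom : Γ(V, ⊤) →+* Γ(T, ⊤)) (CohB1.tensorPow N (j * n))) : Flat g := by
  have := hN.2.1
  choose k s hs hsaff using hN.2.2
  obtain ⟨n, rfl⟩ : ∃ n', n = n' + 1 := ⟨n - 1, by omega⟩
  refine (HasRingHomProperty.iff_of_iSup_eq_top (P := @Flat) (fun x : T =>
    (⟨CohB1.genLocus _ (s x), hsaff x⟩ : T.affineOpens)) (top_le_iff.1 fun x _ => Opens.mem_iSup.2 ⟨x, hs x⟩)).2
    fun x => ?_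
  have h1 := flat_genLocus (g.appTop.hom : Γ(V, ⊤) →+* Γ(T, ⊤))
    (isInvertible_tensorPow (isInvertible_tensorPow hN.1 (k x + 1)) (n + 1)) (powHom (s x) (n + 1))
    (fun j hj => ?_) (CohB1.genLocus _ (s x)) (genLocus_powHom (isInvertible_tensorPow hN.1 (k x + 1)) _ _).symm
  · exact h1
  · refine (h ((k x + 1) * j) (Nat.mul_pos (Nat.succ_pos _) hj)).of_iso ?_
    refine Ega2.TensPow.powCongr N ?_ ≪≫ (Ega2.TensPow.powMul N (k x + 1) ((n + 1) * j)).symm ≪≫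
      (Ega2.TensPow.powMul (CohB1.tensorPow N (k x + 1)) (n + 1) j).symm
    ring

theorem flat_of_contr {Z T V : Scheme.{u}} [IsAffine V] (ψ : Z ⟶ T) (g : T ⟶ V) [QuasiSeparatedSpace T]
    [QuasiCompact (ψ ≫ g)] [IsSeparated (ψ ≫ g)] [Flat (ψ ≫ g)] (hψ : ∀ U : T.Opens, IsIso (ψ.app U))
    {N : T.Modules} (hN : CohB1.IsAmple N) {L : Z.Modules} (hL : PicF.IsInvertible L) {m : ℕ} (hm : 0 < m)
    (e : (Scheme.Modules.pullback ψ).obj N ≅ CohB1.tensorPow L m) (n : ℕ) (hn : 0 < n)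
    (hvan : ∀ q j : ℕ, 1 ≤ q → 1 ≤ j → Subsingleton (Coh.HH Z (CohB1.tensorPow L (j * n)) q)) : Flat g := by
  refine flat_affine g hN n hn fun j hj => ?_
  obtain ⟨e₁⟩ := PushUnit.nonempty_pow_iso ψ hψ hN.1 e (j * n)
  refine (flatEq_push ψ g (Ega2.QCohLocal.isQCoh_of_isInvertible (isInvertible_tensorPow hL _))
    (Ega3B.NearFibre.isFlatOver_of_isInvertible (ψ ≫ g) (isInvertible_tensorPow hL _)) fun q hq => ?_).of_iso e₁.symm
  have h1 : m * (j * n) = (m * j) * n := by ring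
  rw [h1]
  exact hvan q (m * j) hq (Nat.mul_pos hm hj)

theorem isIso_restrict_app {X Y : Scheme.{u}} (ψ : X ⟶ Y) (hψ : ∀ U : Y.Opens, IsIso (ψ.app U)) (W : Y.Opens)
    (U : W.toScheme.Opens) : IsIso ((ψ ∣_ W).app U) := by
  rw [morphismRestrict_app]
  have h4 := hψ (W.ι ''ᵁ U)
  refine @IsIso.comp_isIso _ _ _ _ _ _ _ h4 ?_
  have h5 : ∀ {A B : X.Opens} (h : A = B), IsIso (X.presheaf.map (eqToHom h).op) := fun h => by
    subst h
    simp only [eqToHom_refl, op_id, CategoryTheory.Functor.map_id]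
    infer_instance
  exact h5 _

set_option backward.isDefEq.respectTransparency false in
theorem flat_of_affineOpens {T S : Scheme.{u}} (q : T ⟶ S) (h : ∀ V : S.affineOpens, Flat (q ∣_ V.1)) : Flat q :=
  (IsZariskiLocalAtTarget.iff_of_iSup_eq_top (P := @Flat) (fun V : S.affineOpens => V.1)
    (iSup_affineOpens_eq_top S)).2 h

end K946.FlatBase
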