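import Groth.Agent.BSB.K946.PushUnit
import Groth.Agent.BSB.K946.FlatBase
import Groth.Agent.VarietyB.ProjGlue
import Groth.Agent.S2913
import Groth.Agent.Sga3C.Affinization
import Groth.Agent.Ega1.AmpFam
import Groth.Agent.Fdesc.LocGenAmple
import Groth.Agent.Ega2.WeightPull
import Groth.Prelude.Def_LCI2

/-!
# Factoring a morphism through a contraction
-/

set_option autoImplicit false
universe u
open CategoryTheory CategoryTheory.Limits AlgebraicGeometry Opposite TopologicalSpace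
open Groth.Agent.Fdesc.LocGen Groth.Agent

namespace K946.Factor

/-- A closed morphism `ψ` with `O ≅ ψ_* O` is surjective. -/
theorem surjective {E F : Scheme.{u}} (ψ : E ⟶ F) [UniversallyClosed ψ] (hψ : ∀ U : F.Opens, IsIso (ψ.app U)) :
    Surjective ψ := by
  refine ⟨fun y => ?_⟩
  by_contra hy
  have hcl : IsClosed (Set.range ψ) := by
    rw [← Set.image_univ]
    exact ψ.isClosedMap _ isClosed_univ
  let V : F.Opens := ⟨(Set.range ψ)ᶜ, hcl.isOpen_compl⟩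
  have hyV : y ∈ V := hy
  have h1 : ψ ⁻¹ᵁ V = ⊥ := by
    ext x
    exact ⟨fun h => h ⟨x, rfl⟩, fun h => h.elim⟩
  have h2 : Subsingleton Γ(E, ψ ⁻¹ᵁ V) := by
    rw [h1]
    infer_instance
  have h3 : Subsingleton Γ(F, V) := (PushUnit.bijective_app ψ hψ V).injective.subsingleton
  have h4 : F.basicOpen (1 : Γ(F, V)) = V := F.basicOpen_of_isUnit isUnit_one
  rw [Subsingleton.elim (1 : Γ(F, V)) 0, Scheme.basicOpen_zero] at h4
  rw [← h4] at hyV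
  exact hyV

theorem epi {E F : Scheme.{u}} (ψ : E ⟶ F) [UniversallyClosed ψ] (hψ : ∀ U : F.Opens, IsIso (ψ.app U)) : Epi ψ := by
  have := surjective ψ hψ
  exact S2913.result ψ fun U => (PushUnit.bijective_app ψ hψ U).injective

theorem exists_affine {Z V W : Scheme.{u}} (ψ : Z ⟶ V) (h : Z ⟶ W) [IsAffine W] [IsIso ψ.appTop] :
    ∃ φ : V ⟶ W, ψ ≫ φ = h := by
  obtain ⟨φ, hφ⟩ := Sga3C.Affinization.exists_appTop_eq (X := V) (Z := W) (h.appTop ≫ inv ψ.appTop)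
  refine ⟨φ, ?_⟩
  apply ext_of_isAffine
  rw [Scheme.Hom.comp_appTop, hφ, Category.assoc, IsIso.inv_hom_id, Category.comp_id]

theorem restrict_homOfLE {E F : Scheme.{u}} (ψ : E ⟶ F) {V' V : F.Opens} (h : V' ≤ V) :
    (ψ ∣_ V') ≫ F.homOfLE h = E.homOfLE (ψ.preimage_mono h) ≫ (ψ ∣_ V) := by
  rw [← cancel_mono V.ι, Category.assoc, Category.assoc, Scheme.homOfLE_ι, morphismRestrict_ι, morphismRestrict_ι,
    ← Category.assoc, Scheme.homOfLE_ι]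

theorem hom_ext_opens {E Y : Scheme.{u}} {J : Type*} (U : J → E.Opens) (hU : ⨆ j, U j = ⊤) {a b : E ⟶ Y}
    (h : ∀ j, (U j).ι ≫ a = (U j).ι ≫ b) : a = b :=
  (E.openCoverOfIsOpenCover U hU).hom_ext _ _ h

/-- Factorization of a morphism which is constant on the fibres. -/
theorem exists_factor {E F Y : Scheme.{u}} (ψ : E ⟶ F) [UniversallyClosed ψ]
    (hψ : ∀ U : F.Opens, IsIso (ψ.app U)) (h : E ⟶ Y) (hc : ∀ e e' : E, ψ e = ψ e' → h e = h e') :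
    ∃ j : F ⟶ Y, ψ ≫ j = h := by
  have hsurj := surjective ψ hψ
  have key : ∀ y : F, ∃ (V : F.Opens) (φ : V.toScheme ⟶ Y), y ∈ V ∧ (ψ ∣_ V) ≫ φ = (ψ ⁻¹ᵁ V).ι ≫ h := by
    intro y
    obtain ⟨e, rfl⟩ := hsurj.surj y
    obtain ⟨W, hW, heW, -⟩ := exists_isAffineOpen_mem_and_subset (x := h e) (U := ⊤) trivial
    have hcl : IsClosed (ψ '' ((h ⁻¹ᵁ W : E.Opens) : Set E)ᶜ) :=
      ψ.isClosedMap _ (h ⁻¹ᵁ W).isOpen.isClosed_compl
    let V : F.Opens := ⟨_, hcl.isOpen_compl⟩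
    have hV : ψ ⁻¹ᵁ V ≤ h ⁻¹ᵁ W := by
      intro x hx
      by_contra hxW
      exact hx ⟨x, hxW, rfl⟩
    have heV : ψ e ∈ V := by
      rintro ⟨x, hx, hxe⟩
      apply hx
      change h x ∈ W
      rw [hc x e hxe]
      exact heW
    have : IsAffine W.toScheme := hW
    let h' : (ψ ⁻¹ᵁ V).toScheme ⟶ W.toScheme := h.resLE W (ψ ⁻¹ᵁ V) hV
    have hiso : IsIso (ψ ∣_ V).appTop := FlatBase.isIso_restrict_app ψ hψ V ⊤
    obtain ⟨φ, hφ⟩ := exists_affine (ψ ∣_ V) h'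
    refine ⟨V, φ ≫ W.ι, heV, ?_⟩
    rw [← Category.assoc, hφ, Scheme.Hom.resLE_comp_ι]
  choose V φ hV hφ using key
  have hVc : ⨆ y, V y = ⊤ := top_le_iff.1 fun y _ => Opens.mem_iSup.2 ⟨y, hV y⟩
  obtain ⟨j, hj⟩ := VarietyB.ProjGlue.exists_glue_opens V hVc φ fun y z => by
    have hepi : Epi (ψ ∣_ (V y ⊓ V z)) := epi _ fun U => FlatBase.isIso_restrict_app ψ hψ _ U
    rw [← cancel_epi (ψ ∣_ (V y ⊓ V z)), ← Category.assoc, ← Category.assoc, restrict_homOfLE, restrict_homOfLE,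
      Category.assoc, Category.assoc, hφ, hφ, ← Category.assoc, ← Category.assoc, Scheme.homOfLE_ι,
      Scheme.homOfLE_ι]
  refine ⟨j, ?_⟩
  refine hom_ext_opens (fun y => ψ ⁻¹ᵁ V y) ?_ fun y => ?_
  · exact top_le_iff.1 fun x _ => Opens.mem_iSup.2 ⟨ψ x, hV (ψ x)⟩
  · rw [← Category.assoc, ← morphismRestrict_ι, Category.assoc, hj, hφ]

open Grpsch.PicGrp

theorem exists_pull_eq {E F : Scheme.{u}} (ψ : E ⟶ F) (hψ : ∀ U : F.Opens, IsIso (ψ.app U)) {Q : F.Modules}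
    (hQ : PicF.IsInvertible Q) (s : Coh.structureModule E ⟶ (Scheme.Modules.pullback ψ).obj Q) :
    ∃ t : Coh.structureModule F ⟶ Q, pullHom ψ t = s := by
  have h1 := PushUnit.isIso_unit ψ hψ hQ
  obtain ⟨τ, hτ⟩ : ∃ τ : Γ(Q, ⊤), pullSec ψ τ = sec s ⊤ :=
    ⟨(inv ((Scheme.Modules.pullbackPushforwardAdjunction ψ).unit.app Q)).app ⊤ (sec s ⊤ :), by
      have h2 : (inv ((Scheme.Modules.pullbackPushforwardAdjunction ψ).unit.app Q) ≫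
        (Scheme.Modules.pullbackPushforwardAdjunction ψ).unit.app Q).app ⊤ (sec s ⊤ :) = sec s ⊤ := by
        rw [IsIso.inv_hom_id]
        rfl
      exact h2⟩
  refine ⟨homOf τ, hom_ext_sec ((sec_pullHom ψ (homOf τ) ⊤).trans ?_)⟩
  rw [sec_homOf, res_refl]
  exact hτ

/-- The fibres of `ψ` are contracted by `h`. -/
theorem const_of_ample {E F Y : Scheme.{u}} (ψ : E ⟶ F) (hψ : ∀ U : F.Opens, IsIso (ψ.app U)) (h : E ⟶ Y)
    {M : Y.Modules} (hM : CohB1.IsAmple M) {N : F.Modules} (hN : PicF.IsInvertible N)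
    (e : pull ψ (mk N hN) = pull h (mk M hM.1)) (x x' : E) (hx : ψ x = ψ x') : h x = h x' := by
  have aux : ∀ x x' : E, ψ x = ψ x' → ∀ O : Set Y, IsOpen O → h x ∈ O → h x' ∈ O := by
    intro x x' hx O hO hxO
    obtain ⟨m, t, hxt, htO, -⟩ := IsAmple.exists_genLocus_le hM (x := h x) (W := ⟨O, hO⟩) hxO
    obtain ⟨ε⟩ : Nonempty ((Scheme.Modules.pullback h).obj (CohB1.tensorPow M (m + 1)) ≅
        (Scheme.Modules.pullback ψ).obj (CohB1.tensorPow N (m + 1))) := by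
      rw [← mk_eq_iff (isInvertible_pullback h (isInvertible_tensorPow hM.1 (m + 1)))
        (isInvertible_pullback ψ (isInvertible_tensorPow hN (m + 1))), ← pull_mk h (isInvertible_tensorPow hM.1 (m + 1)),
        ← pull_mk ψ (isInvertible_tensorPow hN (m + 1)), mk_tensorPow hM.1, mk_tensorPow hN, map_pow, map_pow, e]
    obtain ⟨τ, hτ⟩ := exists_pull_eq ψ hψ (isInvertible_tensorPow hN (m + 1)) (pullHom h t ≫ ε.hom)
    have h1 : ψ ⁻¹ᵁ CohB1.genLocus _ τ = h ⁻¹ᵁ CohB1.genLocus _ t := by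
      rw [← Ega1.AmpFam.genLocus_pullHom h (isInvertible_tensorPow hM.1 (m + 1)),
        ← Ega1.AmpFam.genLocus_pullHom ψ (isInvertible_tensorPow hN (m + 1)), hτ]
      exact Ega2.Weight.genLocus_comp _ _
    have h2 : x ∈ h ⁻¹ᵁ CohB1.genLocus _ t := hxt
    rw [← h1] at h2
    have h3 : x' ∈ ψ ⁻¹ᵁ CohB1.genLocus _ τ := by
      change ψ x' ∈ CohB1.genLocus _ τ
      rw [← hx]
      exact h2
    rw [h1] at h3
    exact htO h3
  refine Inseparable.eq (inseparable_iff_forall_isOpen.2 fun O hO => ⟨fun h1 => aux x x' hx O hO h1,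
    fun h1 => aux x' x hx.symm O hO h1⟩)

theorem mk_restrict {E : Scheme.{u}} (U : E.Opens) {M : E.Modules} (hM : PicF.IsInvertible M)
    (hM' : PicF.IsInvertible (M.restrict U.ι)) : mk (M.restrict U.ι) hM' = pull U.ι (mk M hM) :=
  mk_congr ((Scheme.Modules.restrictFunctorIsoPullback U.ι).app M)

theorem const_of_relAmple {E F Y S : Scheme.{u}} (g : F ⟶ S) (q : Y ⟶ S) (ψ : E ⟶ F)
    (hψ : ∀ U : F.Opens, IsIso (ψ.app U)) (h : E ⟶ Y) (hgq : ψ ≫ g = h ≫ q)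
    {M : Y.Modules} (hMi : PicF.IsInvertible M) (hM : RelAmple.IsRelAmple q M) {N : F.Modules}
    (hN : PicF.IsInvertible N) (e : pull ψ (mk N hN) = pull h (mk M hMi)) (x x' : E) (hx : ψ x = ψ x') :
    h x = h x' := by
  obtain ⟨U, hU, hxU, -⟩ := exists_isAffineOpen_mem_and_subset (x := g (ψ x)) (U := ⊤) trivial
  have hle : ψ ⁻¹ᵁ (g ⁻¹ᵁ U) ≤ h ⁻¹ᵁ (q ⁻¹ᵁ U) := (congrArg (fun k => k ⁻¹ᵁ U) hgq).le
  let hV : (ψ ⁻¹ᵁ (g ⁻¹ᵁ U)).toScheme ⟶ (q ⁻¹ᵁ U).toScheme := h.resLE (q ⁻¹ᵁ U) (ψ ⁻¹ᵁ (g ⁻¹ᵁ U)) hle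
  have hx1 : x ∈ ψ ⁻¹ᵁ (g ⁻¹ᵁ U) := hxU
  have hx2 : x' ∈ ψ ⁻¹ᵁ (g ⁻¹ᵁ U) := by
    change g (ψ x') ∈ U
    rw [← hx]
    exact hxU
  have hMa : CohB1.IsAmple (M.restrict (q ⁻¹ᵁ U).ι) := hM.2 ⟨U, hU⟩
  have hNi := Ega3B.NearFibre.isInvertible_restrict hN (g ⁻¹ᵁ U)
  have key := const_of_ample (ψ ∣_ (g ⁻¹ᵁ U)) (fun U' => FlatBase.isIso_restrict_app ψ hψ _ U') hV hMa hNi (by
    rw [mk_restrict _ hN, mk_restrict _ hMi, ← pull_comp, ← pull_comp, morphismRestrict_ι, pull_comp, e, ← pull_comp]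
    congr 2
    exact (Scheme.Hom.resLE_comp_ι _ _).symm) ⟨x, hx1⟩ ⟨x', hx2⟩ (Subtype.ext
        ((morphismRestrict_base_coe ψ (g ⁻¹ᵁ U) ⟨x, hx1⟩).trans
          (hx.trans (morphismRestrict_base_coe ψ (g ⁻¹ᵁ U) ⟨x', hx2⟩).symm)))
  have h3 : ∀ z : (ψ ⁻¹ᵁ (g ⁻¹ᵁ U)).toScheme, h z.1 = (hV z).1 := fun z => by
    have h4 : (ψ ⁻¹ᵁ (g ⁻¹ᵁ U)).ι ≫ h = hV ≫ (q ⁻¹ᵁ U).ι := (Scheme.Hom.resLE_comp_ι _ _).symm
    exact congrArg (fun k : (ψ ⁻¹ᵁ (g ⁻¹ᵁ U)).toScheme ⟶ Y => k z) h4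
  rw [h3 ⟨x, hx1⟩, h3 ⟨x', hx2⟩, key]

theorem exists_factor_rel {E F Y S : Scheme.{u}} (g : F ⟶ S) (q : Y ⟶ S) (ψ : E ⟶ F) [UniversallyClosed ψ]
    (hψ : ∀ U : F.Opens, IsIso (ψ.app U)) (h : E ⟶ Y) (hgq : ψ ≫ g = h ≫ q)
    {M : Y.Modules} (hMi : PicF.IsInvertible M) (hM : RelAmple.IsRelAmple q M) {N : F.Modules}
    (hN : PicF.IsInvertible N) (e : pull ψ (mk N hN) = pull h (mk M hMi)) :
    ∃ j : F ⟶ Y, ψ ≫ j = h ∧ j ≫ q = g := by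
  obtain ⟨j, hj⟩ := exists_factor ψ hψ h (const_of_relAmple g q ψ hψ h hgq hMi hM hN e)
  refine ⟨j, hj, ?_⟩
  have := epi ψ hψ
  rw [← cancel_epi ψ, ← Category.assoc, hj, hgq]

end K946.Factor
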