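import Groth.Agent.BSB.K946.SecGr
import Groth.Agent.Ega1.GlobGenPt
import Groth.Agent.Ega2.AmpleGlobGen
import Groth.Agent.CohqB.SerTw
import Groth.Agent.Fdesc.StructMod

/-!
# Uniform vanishing for a semiample and an ample module
-/

set_option autoImplicit false
universe u
open CategoryTheory CategoryTheory.Limits AlgebraicGeometry Opposite TopologicalSpace
open Groth.Agent.Fdesc.LocGen Groth.Agent

namespace K946.UnifTwo

variable {X : Scheme.{u}}

/-- Finitely many sections generating a globally generated invertible module. -/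
theorem exists_sections [CompactSpace X] {P : X.Modules} (hP : PicF.IsInvertible P)
    (hgg : Curv2.IsGloballyGenerated P) :
    ∃ (r : ℕ) (s : Fin r → (Coh.structureModule X ⟶ P)), ∀ x : X, ∃ i, x ∈ CohB1.genLocus P (s i) := by
  choose s hs using fun x : X => Ega1.GlobGenPt.exists_mem_genLocus hP hgg x
  obtain ⟨t, ht⟩ := CompactSpace.elim_nhds_subcover (X := X) (fun x => (CohB1.genLocus P (s x) : Set X))
    (fun x => (CohB1.genLocus P (s x)).isOpen.mem_nhds (hs x))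
  obtain ⟨r, ⟨e⟩⟩ := Finite.exists_equiv_fin t
  refine ⟨r, fun i => s (e.symm i).1, fun x => ?_⟩
  have hx : x ∈ ⋃ y ∈ t, (CohB1.genLocus P (s y) : Set X) := by
    rw [ht]
    trivial
  simp only [Set.mem_iUnion] at hx
  obtain ⟨y, hy, hxy⟩ := hx
  exact ⟨e ⟨y, hy⟩, by simpa using hxy⟩

variable {A : Type u} [CommRing A] [IsNoetherianRing A]

/-- Uniform vanishing, one factor globally generated. -/
theorem unif_gg [X.Over (Spec (CommRingCat.of A))] [IsProper (X ↘ Spec (CommRingCat.of A))]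
    {P M : X.Modules} (hP : PicF.IsInvertible P) (hgg : Curv2.IsGloballyGenerated P) (hM : CohB1.IsAmple M)
    {F : X.Modules} (hF : Coh.IsCoh F) :
    ∃ d₀ : ℕ, ∀ n d : ℕ, d₀ ≤ d → ∀ p : ℕ, 1 ≤ p →
      Subsingleton (Coh.HH X (CohB1.tensorMod (CohB1.tensorMod F (CohB1.tensorPow P n)) (CohB1.tensorPow M d)) p) := by
  have := hM.2.1
  obtain ⟨r, s, hs⟩ := exists_sections hP hgg
  exact CohqA.UnifVan.uniform_vanishing (A := A) hM (SecGr.gr F hP s)
    (fun n => CohqB.SerTw.isCoh_tensorMod hF (isInvertible_tensorPow hP n)) (SecGr.gen_gr F hP s hs)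

/-- Uniform vanishing, one factor semiample. -/
theorem unif_semiample [X.Over (Spec (CommRingCat.of A))] [IsProper (X ↘ Spec (CommRingCat.of A))]
    {L M : X.Modules} (hL : PicF.IsInvertible L) {k : ℕ} (hk : 0 < k)
    (hgg : Curv2.IsGloballyGenerated (CohB1.tensorPow L k)) (hM : CohB1.IsAmple M)
    {F : X.Modules} (hF : Coh.IsCoh F) :
    ∃ d₀ : ℕ, ∀ a d : ℕ, d₀ ≤ d → ∀ p : ℕ, 1 ≤ p →
      Subsingleton (Coh.HH X (CohB1.tensorMod (CohB1.tensorMod F (CohB1.tensorPow L a)) (CohB1.tensorPow M d)) p) := by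
  choose m hm using fun e : Fin k => unif_gg (A := A) (isInvertible_tensorPow hL k) hgg hM
    (F := CohB1.tensorMod F (CohB1.tensorPow L e)) (CohqB.SerTw.isCoh_tensorMod hF (isInvertible_tensorPow hL e))
  refine ⟨Finset.univ.sup m, fun a d hd p hp => ?_⟩
  have h1 := hm ⟨a % k, Nat.mod_lt _ hk⟩ (a / k) d ((Finset.le_sup (Finset.mem_univ _)).trans hd) p hp
  refine CohqA.UnifVan.subsingleton_of_iso ?_ p h1
  refine Ega2.Tens.mapTIso ?_ (Iso.refl _)
  exact Ega2.Tens.mapTIso (Iso.refl _) (Ega2.TensPow.powMul L k (a / k)) ≪≫ 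
    Ega2.TensPow.tensPowAdd F L (a % k) (k * (a / k)) ≪≫
    Ega2.Tens.mapTIso (Iso.refl _) (Ega2.TensPow.powCongr L (Nat.mod_add_div a k))

/-- A positive power of an ample module is globally generated. -/
theorem exists_gg [IsLocallyNoetherian X] [QuasiSeparatedSpace X] {L : X.Modules} (hL : CohB1.IsAmple L) :
    ∃ k : ℕ, 0 < k ∧ Curv2.IsGloballyGenerated (CohB1.tensorPow L k) := by
  obtain ⟨n₀, hn₀⟩ := Ega2.AmpleGlobGen.exists_globGen hL (Fdesc.StructMod.isCoh_structureModule (X := X))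
  exact ⟨n₀ + 1, Nat.succ_pos _, Ega2.GlobGenCrit.isGloballyGenerated_of_iso
    (Ega2.Tens.lunit _) (hn₀ (n₀ + 1) (Nat.le_succ _))⟩

/-- Uniform vanishing for two ample modules. -/
theorem unif_pair [X.Over (Spec (CommRingCat.of A))] [IsProper (X ↘ Spec (CommRingCat.of A))]
    {L M : X.Modules} (hL : CohB1.IsAmple L) (hM : CohB1.IsAmple M)
    {F : X.Modules} (hF : Coh.IsCoh F) :
    ∃ n : ℕ, ∀ a b : ℕ, n ≤ max a b → ∀ p : ℕ, 1 ≤ p →
      Subsingleton (Coh.HH X (CohB1.tensorMod F (CohB1.tensorMod (CohB1.tensorPow L a) (CohB1.tensorPow M b))) p) := by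
  have hN : IsLocallyNoetherian X :=
    LocallyOfFiniteType.isLocallyNoetherian (X ↘ Spec (CommRingCat.of A))
  obtain ⟨k, hk, hgk⟩ := exists_gg hL
  obtain ⟨l, hl, hgl⟩ := exists_gg hM
  obtain ⟨d₁, h₁⟩ := unif_semiample (A := A) hL.1 hk hgk hM hF
  obtain ⟨d₂, h₂⟩ := unif_semiample (A := A) hM.1 hl hgl hL hF
  refine ⟨max d₁ d₂, fun a b hab p hp => ?_⟩
  rcases le_max_iff.1 hab with h | h
  · refine CohqA.UnifVan.subsingleton_of_iso ?_ p (h₂ b a ((le_max_right _ _).trans h) p hp)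
    exact Ega2.Tens.assoc _ _ _ ≪≫ Ega2.Tens.mapTIso (Iso.refl _) (Ega2.Tens.swap _ _)
  · refine CohqA.UnifVan.subsingleton_of_iso ?_ p (h₁ a b ((le_max_left _ _).trans h) p hp)
    exact Ega2.Tens.assoc _ _ _

end K946.UnifTwo
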