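import Groth.Agent.BSB.K946.ContrVan
import Groth.Agent.BSB.K946.UnifTwo
import Groth.Agent.VarietyB.GGStalk
import Groth.Agent.Models.TrivGeom

/-!
# Uniform vanishing for a contraction and an ample module (affine base)
-/

set_option autoImplicit false
universe u
open CategoryTheory CategoryTheory.Limits AlgebraicGeometry Opposite TopologicalSpace
open Groth.Agent.Fdesc.LocGen Groth.Agent

namespace K946.FlatContr

variable {A : Type u} [CommRing A] [IsNoetherianRing A] {X Y : Scheme.{u}}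

/-- `L` is semiample if a power is the pullback of an ample module. -/
theorem exists_gg_pow [IsLocallyNoetherian Y] [QuasiSeparatedSpace Y] (ψ : X ⟶ Y) {N : Y.Modules}
    (hN : CohB1.IsAmple N) {L : X.Modules} {ℓ : ℕ} (hℓ : 0 < ℓ)
    (e : (Scheme.Modules.pullback ψ).obj N ≅ CohB1.tensorPow L ℓ) :
    ∃ k : ℕ, 0 < k ∧ Curv2.IsGloballyGenerated (CohB1.tensorPow L k) := by
  obtain ⟨k, hk, hg⟩ := UnifTwo.exists_gg hN
  obtain ⟨e₁⟩ := CohqB.FinAmple.nonempty_pullback_tensorPow ψ hN.1 k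
  exact ⟨ℓ * k, Nat.mul_pos hℓ hk, Ega2.GlobGenCrit.isGloballyGenerated_of_iso
    (e₁ ≪≫ Ega2.TensPow.powIso e k ≪≫ Ega2.TensPow.powMul L ℓ k)
    (VarietyB.GGStalk.isGloballyGenerated_pullback ψ _ hg)⟩

theorem main (f : X ⟶ Spec (CommRingCat.of A)) [IsProper f] (g : Y ⟶ Spec (CommRingCat.of A)) [IsProper g]
    (ψ : X ⟶ Y) [IsProper ψ] {L : X.Modules} (hL : PicF.IsInvertible L) {N : Y.Modules}
    (hN : CohB1.IsAmple N) {ℓ : ℕ} (hℓ : 0 < ℓ)
    (e : (Scheme.Modules.pullback ψ).obj N ≅ CohB1.tensorPow L ℓ) {M : X.Modules} (hM : CohB1.IsAmple M)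
    (c d : ℕ) (hR : ∀ q r j : ℕ, 1 ≤ q → q ≤ c → d ≤ j →
      RZ ψ (CohB1.tensorMod (CohB1.tensorPow L r) (CohB1.tensorPow M j)) q) :
    ∃ n : ℕ, ∀ i a b : ℕ, 1 ≤ i → i ≤ c → d ≤ b → n ≤ max a b →
      Subsingleton (Coh.HH X (CohB1.tensorMod (CohB1.tensorPow L a) (CohB1.tensorPow M b)) i) := by
  letI : X.Over (Spec (CommRingCat.of A)) := ⟨f⟩
  have : IsProper (X ↘ Spec (CommRingCat.of A)) := inferInstanceAs (IsProper f)
  have hX : IsLocallyNoetherian X := LocallyOfFiniteType.isLocallyNoetherian f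
  have hY : IsLocallyNoetherian Y := LocallyOfFiniteType.isLocallyNoetherian g
  obtain ⟨k, hk, hgk⟩ := exists_gg_pow ψ hN hℓ e
  obtain ⟨d₀, h₀⟩ := UnifTwo.unif_semiample (A := A) hL hk hgk hM
    (Fdesc.StructMod.isCoh_structureModule X)
  have key : ∀ p : Fin ℓ × Fin d₀, ∃ k₀ : ℕ, ∀ k : ℕ, k₀ ≤ k → d ≤ p.2.1 → ∀ q, 1 ≤ q → q ≤ c →
      Subsingleton (Coh.HH X (CohB1.tensorMod (CohB1.tensorMod (CohB1.tensorPow L p.1) (CohB1.tensorPow M p.2))
        (CohB1.tensorPow ((Scheme.Modules.pullback ψ).obj N) k)) q) := by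
    intro p
    by_cases hp : d ≤ p.2.1
    · obtain ⟨k₀, hk₀⟩ := ContrVan.contr_van g ψ hN (CohqB.SerTw.isCoh_tensorMod
        (Models.TrivGeom.isCoh_of_isInvertible (isInvertible_tensorPow hL p.1)) (isInvertible_tensorPow hM.1 p.2))
        c fun q hq hqc => hR q p.1 p.2 hq hqc hp
      exact ⟨k₀, fun k hk _ => hk₀ k hk⟩
    · exact ⟨0, fun k _ h => absurd h hp⟩
  choose K hK using key
  refine ⟨max d₀ (ℓ * (Finset.univ.sup K + 1)), fun i a b hi hic hdb hab => ?_⟩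
  by_cases hb : d₀ ≤ b
  · exact CohqA.UnifVan.subsingleton_of_iso (Ega2.Tens.mapTIso (Ega2.Tens.lunit _) (Iso.refl _)) i (h₀ a b hb i hi)
  · have ha : ℓ * (Finset.univ.sup K + 1) ≤ a := by omega
    have ha' : Finset.univ.sup K ≤ a / ℓ := by
      rw [Nat.le_div_iff_mul_le hℓ]
      nlinarith
    have h1 := hK (⟨a % ℓ, Nat.mod_lt _ hℓ⟩, ⟨b, by omega⟩) (a / ℓ)
      ((Finset.le_sup (Finset.mem_univ _)).trans ha') hdb i hi hic
    refine CohqA.UnifVan.subsingleton_of_iso ?_ i h1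
    refine Ega2.Tens.assoc _ _ _ ≪≫ Ega2.Tens.mapTIso (Iso.refl _) (Ega2.Tens.swap _ _) ≪≫
      (Ega2.Tens.assoc _ _ _).symm ≪≫ Ega2.Tens.mapTIso ?_ (Iso.refl _)
    exact Ega2.Tens.mapTIso (Iso.refl _) (Ega2.TensPow.powIso e (a / ℓ) ≪≫ Ega2.TensPow.powMul L ℓ (a / ℓ)) ≪≫ 
      (Ega2.TensPow.powAdd L (a % ℓ) (ℓ * (a / ℓ))) ≪≫ Ega2.TensPow.powCongr L (Nat.mod_add_div a ℓ)

end K946.FlatContr
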