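import Groth.Agent.BSB.K946.FlatContr
import Groth.Agent.Ega3B.TensRestrict
import Groth.Agent.FormalB.PullCoh

/-!
# The affine-base vanishing over an open of the base
-/

set_option autoImplicit false
universe u
open CategoryTheory CategoryTheory.Limits AlgebraicGeometry Opposite TopologicalSpace
open Groth.Agent.Fdesc.LocGen Groth.Agent

namespace K946.FlatContr

variable {A : Type u} [CommRing A] [IsNoetherianRing A] {X Y : Scheme.{u}}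

theorem restrict_pair (U : X.Opens) (L M : X.Modules) (a b : ℕ) :
    Nonempty ((CohB1.tensorMod (CohB1.tensorPow L a) (CohB1.tensorPow M b)).restrict U.ι ≅
      CohB1.tensorMod (CohB1.tensorPow (L.restrict U.ι) a) (CohB1.tensorPow (M.restrict U.ι) b)) := by
  obtain ⟨e₁⟩ := Ega3B.TensRestrict.restrictPowIso U.ι L a
  obtain ⟨e₂⟩ := Ega3B.TensRestrict.restrictPowIso U.ι M b
  exact ⟨Ega3B.TensRestrict.restrictIso U.ι _ _ ≪≫ Ega2.Tens.mapTIso e₁ e₂⟩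

theorem main_restrict (ψ : X ⟶ Y) (V : Y.Opens) (f : (ψ ⁻¹ᵁ V).toScheme ⟶ Spec (CommRingCat.of A)) [IsProper f]
    (g : V.toScheme ⟶ Spec (CommRingCat.of A)) [IsProper g] [IsProper (ψ ∣_ V)]
    {L : X.Modules} (hL : PicF.IsInvertible (L.restrict (ψ ⁻¹ᵁ V).ι)) {N : Y.Modules}
    (hN : CohB1.IsAmple (N.restrict V.ι)) {ℓ : ℕ} (hℓ : 0 < ℓ)
    (e : (Scheme.Modules.pullback ψ).obj N ≅ CohB1.tensorPow L ℓ) {M : X.Modules}
    (hM : CohB1.IsAmple (M.restrict (ψ ⁻¹ᵁ V).ι))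
    (c d : ℕ) (hR : ∀ q r j : ℕ, 1 ≤ q → q ≤ c → d ≤ j →
      RZ ψ (CohB1.tensorMod (CohB1.tensorPow L r) (CohB1.tensorPow M j)) q) :
    ∃ n : ℕ, ∀ i a b : ℕ, 1 ≤ i → i ≤ c → d ≤ b → n ≤ max a b →
      Subsingleton (Coh.HH (ψ ⁻¹ᵁ V).toScheme
        ((CohB1.tensorMod (CohB1.tensorPow L a) (CohB1.tensorPow M b)).restrict (ψ ⁻¹ᵁ V).ι) i) := by
  obtain ⟨eℓ⟩ := Ega3B.TensRestrict.restrictPowIso (ψ ⁻¹ᵁ V).ι L ℓ
  obtain ⟨n, hn⟩ := main f g (ψ ∣_ V) hL hN hℓ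
    ((FormalB.PullCoh.restrictPullbackIso ψ V).app N ≪≫
      (Scheme.Modules.restrictFunctor (ψ ⁻¹ᵁ V).ι).mapIso e ≪≫ eℓ) hM c d fun q' r j h1 h2 h3 => by
      obtain ⟨e⟩ := restrict_pair (ψ ⁻¹ᵁ V) L M r j
      exact ((hR q' r j h1 h2 h3).restrict V).of_iso e
  refine ⟨n, fun i a b h1 h2 h3 h4 => ?_⟩
  obtain ⟨e⟩ := restrict_pair (ψ ⁻¹ᵁ V) L M a b
  exact CohqA.UnifVan.subsingleton_of_iso e.symm i (hn i a b h1 h2 h3 h4)

end K946.FlatContr
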