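import Groth.Agent.BSB.K946.Factor
import Groth.Agent.BSB.K946.UnifTwo
import Groth.Agent.Fga.CounitRestrict
import Groth.Agent.PicF.K246.Basic
import Groth.Agent.Ega2.AmpleWeight
import Groth.Agent.Ega2.AmpleGlobGen
import Groth.Agent.VarietyB.GGStalk
import Groth.Agent.Vanish.K660.Semi
import Groth.Agent.EGA2.K42.VALoc
import Groth.Agent.Ega2.AmpleTransfer
import Groth.Agent.S4387
import Groth.Agent.Ega3B.TensorIso

/-!
# Globally generated powers and the range of the pullback along a contraction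
-/

set_option autoImplicit false
universe u
open CategoryTheory CategoryTheory.Limits AlgebraicGeometry Opposite TopologicalSpace
open Groth.Agent.Fdesc.LocGen Groth.Agent Groth.Agent.Grpsch.PicGrp

namespace K946.GGRange

open Ega2.Nv

theorem pull_injective {E F : Scheme.{u}} (ψ : E ⟶ F) (hψ : ∀ U : F.Opens, IsIso (ψ.app U)) :
    Function.Injective (pull ψ) := by
  rw [injective_iff_map_eq_one]
  intro c hc
  induction c using ind with
  | _ N hN =>
    rw [pull_mk ψ hN] at hc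
    obtain ⟨e⟩ := (mk_eq_one_iff (isInvertible_pullback ψ hN)).1 hc
    have h1 := PushUnit.isIso_unit ψ hψ hN
    have h2 : IsIso (ClSub.unitToPush ψ) := by
      rw [Ega3B.TensorIso.isIso_iff_app_bijective]
      intro V
      exact PushUnit.bijective_app ψ hψ V
    exact (mk_eq_one_iff hN).2 ⟨asIso ((Scheme.Modules.pullbackPushforwardAdjunction ψ).unit.app N) ≪≫
      (Scheme.Modules.pushforward ψ).mapIso e ≪≫ (asIso (ClSub.unitToPush ψ)).symm⟩

theorem mem_range_of_gg {E F : Scheme.{u}} (ψ : E ⟶ F) [UniversallyClosed ψ] (hψ : ∀ U : F.Opens, IsIso (ψ.app U))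
    {L : E.Modules} (hL : PicF.IsInvertible L) {N : F.Modules} (hN : PicF.IsInvertible N) {r : ℕ} (hr : 0 < r)
    (e : pull ψ (mk N hN) = mk L hL ^ r) (hgg : Curv2.IsGloballyGenerated L) : mk L hL ∈ (pull ψ).range := by
  have hsurj := (Factor.surjective ψ hψ).1
  obtain ⟨r, rfl⟩ : ∃ r', r = r' + 1 := ⟨r - 1, by omega⟩
  rw [pull_mk ψ hN, ← mk_tensorPow hL] at e
  obtain ⟨e⟩ := (mk_eq_iff (isInvertible_pullback ψ hN) (isInvertible_tensorPow hL (r + 1))).1 e
  have key : ∀ y : F, ∃ W : F.Opens, y ∈ W ∧ ∃ m : Γ(L, ψ ⁻¹ᵁ W), IsGen m := by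
    intro y
    obtain ⟨x, rfl⟩ := hsurj y
    obtain ⟨s, hs⟩ := Ega1.GlobGenPt.exists_mem_genLocus hL hgg x
    obtain ⟨t, ht⟩ := Factor.exists_pull_eq ψ hψ hN (Ega2.Weight.powHom s (r + 1) ≫ e.inv)
    have h1 : CohB1.genLocus L s = ψ ⁻¹ᵁ (CohB1.genLocus N t) := by
      rw [← Ega1.AmpFam.genLocus_pullHom ψ hN t, ht, Ega2.Weight.genLocus_comp, Ega2.Weight.genLocus_powHom_succ hL]
    refine ⟨CohB1.genLocus N t, ?_, ?_⟩
    · have h2 : x ∈ ψ ⁻¹ᵁ (CohB1.genLocus N t) := h1 ▸ hs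
      exact h2
    · have h3 := isGen_sec_genLocus s
      rw [h1] at h3
      exact ⟨_, h3⟩
  have hinv : PicF.IsInvertible ((Scheme.Modules.pushforward ψ).obj L) := by
    rw [isInvertible_iff]
    intro y
    obtain ⟨W, hy, m, hm⟩ := key y
    exact ⟨W, m, hy, PushUnit.isGen_push ψ hψ m hm⟩
  have hc : IsIso ((Scheme.Modules.pullbackPushforwardAdjunction ψ).counit.app L) :=
    Fga.CounitRestrict.isIso_counit_of_locally_trivial ψ (fun V => PushUnit.bijective_app ψ hψ V) L fun y => by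
      obtain ⟨W, hy, m, hm⟩ := key y
      exact ⟨W, hy, K246.Basic.nonempty_iso_of_isGen hm⟩
  refine ⟨mk _ hinv, ?_⟩
  rw [pull_mk ψ hinv]
  exact mk_congr (asIso ((Scheme.Modules.pullbackPushforwardAdjunction ψ).counit.app L))

/-- The order of the class of `L` modulo the classes which come from the contraction. -/
theorem exists_d {E F : Scheme.{u}} [IsLocallyNoetherian F] (ψ : E ⟶ F) [UniversallyClosed ψ]
    (hψ : ∀ U : F.Opens, IsIso (ψ.app U)) {L : E.Modules} (hL : PicF.IsInvertible L) {G : F.Modules}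
    (hG : CohB1.IsAmple G) {r : ℕ} (hr : 0 < r) (e : pull ψ (mk G hG.1) = mk L hL ^ r) :
    ∃ d : ℕ, 0 < d ∧ (∃ (Gd : F.Modules) (hGd : CohB1.IsAmple Gd), pull ψ (mk Gd hGd.1) = mk L hL ^ d) ∧
      (∀ s : ℕ, Curv2.IsGloballyGenerated (CohB1.tensorPow L s) → d ∣ s) ∧
      ∃ k₀ : ℕ, ∀ k, k₀ ≤ k → Curv2.IsGloballyGenerated (CohB1.tensorPow L (d * k)) := by
  let H := (pull ψ).range
  let c : Pic E ⧸ H := QuotientGroup.mk (mk L hL)
  have hmem : ∀ s : ℕ, c ^ s = 1 ↔ mk L hL ^ s ∈ H := by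
    intro s
    have h1 : c ^ s = QuotientGroup.mk (mk L hL ^ s) := rfl
    rw [h1, QuotientGroup.eq_one_iff]
  have hcr : c ^ r = 1 := (hmem r).2 ⟨_, e⟩
  let d := orderOf c
  have hd : 0 < d := orderOf_pos_iff.2 (isOfFinOrder_iff_pow_eq_one.2 ⟨r, hr, hcr⟩)
  obtain ⟨γ, hγ⟩ : mk L hL ^ d ∈ H := (hmem d).1 (pow_orderOf_eq_one c)
  obtain ⟨Gd, hGd, rfl⟩ := exists_mk γ
  obtain ⟨t, ht⟩ : d ∣ r := orderOf_dvd_of_pow_eq_one hcr
  have ht0 : 0 < t := Nat.pos_of_ne_zero fun h0 => by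
    rw [h0, mul_zero] at ht
    omega
  have hGt : mk Gd hGd ^ t = mk G hG.1 := by
    apply pull_injective ψ hψ
    rw [map_pow, hγ, e, ht, pow_mul]
  rw [← mk_tensorPow hGd] at hGt
  obtain ⟨e1⟩ := (mk_eq_iff (isInvertible_tensorPow hGd t) hG.1).1 hGt
  have hGda : CohB1.IsAmple Gd :=
    (K30.AmpleLoc.isAmple_iff_tensorPow hGd ht0).2 (Ega2.Weight.isAmple_of_iso e1.symm hG)
  refine ⟨d, hd, ⟨Gd, hGda, hγ⟩, fun s hgg => ?_, ?_⟩
  · refine orderOf_dvd_of_pow_eq_one ((hmem s).2 ?_)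
    have h1 := mem_range_of_gg ψ hψ (isInvertible_tensorPow hL s) (isInvertible_tensorPow hG.1 s) hr
      (by rw [mk_tensorPow hG.1, mk_tensorPow hL, map_pow, e, ← pow_mul, ← pow_mul, mul_comm]) hgg
    rwa [mk_tensorPow hL] at h1
  · obtain ⟨k₀, hk₀⟩ := Ega2.AmpleGlobGen.exists_globGen hGda (Fdesc.StructMod.isCoh_structureModule F)
    refine ⟨k₀, fun k hk => ?_⟩
    have h1 := K660.Semi.gg_of_iso (Ega2.Tens.lunit (CohB1.tensorPow Gd k)) (hk₀ k hk)
    have h2 := VarietyB.GGStalk.isGloballyGenerated_pullback ψ _ h1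
    obtain ⟨e2⟩ := (mk_eq_iff (isInvertible_pullback ψ (isInvertible_tensorPow hGd k))
      (isInvertible_tensorPow hL (d * k))).1 (by
        rw [← pull_mk ψ (isInvertible_tensorPow hGd k), mk_tensorPow hGd, map_pow, hγ, mk_tensorPow hL, pow_mul])
    exact K660.Semi.gg_of_iso e2 h2

end K946.GGRange
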