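import Groth.Agent.BSB.K946.Bl
import Groth.Agent.FormalB.SysSect
import Groth.Agent.Ega3B.TensorIso
import Groth.Agent.ThetaS.K943.OpenCart
import Groth.Agent.Pic13.H958.AffLift

/-!
# The graded pieces of the ideal of the centre
-/

set_option autoImplicit false
universe u
open CategoryTheory CategoryTheory.Limits AlgebraicGeometry Opposite TopologicalSpace
open Groth.Agent.Fdesc.LocGen Groth.Agent

namespace K946.Gr

open K946.NormGen K946.IdPow K946.Comap PerfA.IdealModule VarietyB.RestrSeq CohqB.FiniteType2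

variable {X Y : Scheme.{u}} {I : X.IdealSheafData}

theorem exists_lift_mono {A B C : Y.Modules} (f : A ⟶ B) (g : C ⟶ B) [Mono g]
    (h : ∀ W : Y.Opens, IsAffineOpen W → ∀ a : Γ(A, W), ∃ c : Γ(C, W), g.app W c = f.app W a) :
    ∃ l : A ⟶ C, l ≫ g = f := by
  have h0 : f ≫ cokernel.π g = 0 := by
    refine FormalB.SysSect.hom_ext_affine _ _ fun W hW a => ?_
    obtain ⟨c, hc⟩ := h W hW a
    have h1 : (f ≫ cokernel.π g).app W a = (g ≫ cokernel.π g).app W c := by
      change (cokernel.π g).app W (f.app W a) = (cokernel.π g).app W (g.app W c)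
      rw [hc]
    rw [h1, cokernel.condition]
    rfl
  exact ⟨Abelian.monoLift g f h0, Abelian.monoLift_comp g f h0⟩

theorem isIso_of_bijective_preimage {F : Scheme.{u}} (j : F ⟶ Y) [IsClosedImmersion j] {M N : F.Modules} (φ : M ⟶ N)
    (h : ∀ W : Y.Opens, IsAffineOpen W → Function.Bijective (φ.app (j ⁻¹ᵁ W))) : IsIso φ := by
  have h1 : IsIso ((Scheme.Modules.pushforward j).map φ) :=
    K943.OpenCart.isIso_of_bijective_affine _ fun W hW => h W hW
  rw [Ega3B.TensorIso.isIso_iff_app_bijective] at h1 ⊢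
  intro V
  obtain ⟨V', rfl⟩ : ∃ V' : Y.Opens, j ⁻¹ᵁ V' = V := by
    obtain ⟨T, hT, hTU⟩ := (j.isEmbedding.isInducing.isOpen_iff).1 V.2
    exact ⟨⟨T, hT⟩, Opens.ext hTU⟩
  exact h1 V'

/-- The map from the power of the ideal of the centre. -/
theorem exists_lift_idealMod (hI : PicF.IsInvertible (ClSub.idealMod I)) (π : X ⟶ Y) (K : Y.IdealSheafData) (n : ℕ)
    (h : ∀ W : Y.affineOpens, K.ideal W ≤ (AP I n (π ⁻¹ᵁ W.1)).comap (π.app W.1).hom) :
    ∃ l : ClSub.idealMod K ⟶ (Scheme.Modules.pushforward π).obj (P I n), ∀ (V : Y.Opens) (x : Γ(ClSub.idealMod K, V)),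
      pv I n (U := π ⁻¹ᵁ V) (l.app V x) = π.app V (val K x) := by
  have hm : Mono (pm I n) := mono_pm hI n
  have hm' : Mono ((Scheme.Modules.pushforward π).map (pm I n)) := inferInstance
  obtain ⟨l, hl⟩ := exists_lift_mono (ClSub.idealModι K ≫ ClSub.unitToPush π)
    ((Scheme.Modules.pushforward π).map (pm I n)) fun W hW a => by
      have h1 : π.app W (val K a) ∈ AP I n (π ⁻¹ᵁ W) := h ⟨W, hW⟩ (val_mem K ⟨W, hW⟩ a)
      obtain ⟨c, hc⟩ := h1
      exact ⟨c, hc⟩
  refine ⟨l, fun V x => ?_⟩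
  exact congr(($hl).app V x)

section main

variable (hI : PicF.IsInvertible (ClSub.idealMod I)) {F : Scheme.{u}} {ψ : I.subscheme ⟶ F} {π : X ⟶ Y}
  {j : F ⟶ Y} [IsClosedImmersion j] (hj : I.subschemeι ≫ π = ψ ≫ j)
  (hbij : ∀ W : Y.affineOpens, Function.Bijective (π.app W.1))
  (hJW : ∀ W : Y.affineOpens, j.ker.ideal W = (AP I 1 (π ⁻¹ᵁ W.1)).comap (π.app W.1).hom)
  (hpow : ∀ (W : Y.affineOpens) (n : ℕ), AP I n (π ⁻¹ᵁ W.1) = AP I 1 (π ⁻¹ᵁ W.1) ^ n)
  (hH1 : ∀ (W : Y.affineOpens) (n : ℕ), 1 ≤ n → Subsingleton (Coh.HHon X (P I n) (π ⁻¹ᵁ W.1) 1))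

omit [IsClosedImmersion j] in
include hbij hJW hpow in
theorem ideal_pow_eq [QuasiCompact j] (W : Y.affineOpens) (n : ℕ) :
    (j.ker ^ n).ideal W = (AP I n (π ⁻¹ᵁ W.1)).comap (π.app W.1).hom := by
  have h1 : (j.ker ^ n).ideal W = (j.ker.ideal W) ^ n := by
    rw [Scheme.IdealSheafData.ideal_pow]
    rfl
  rw [h1, hJW, Bl.comap_pow (hbij W), ← hpow W n]

/-- The sections of the ideal which lie in the product vanish on the centre. -/
theorem exists_mul (K : Y.IdealSheafData) (W : Y.affineOpens) {v : Γ(Y, W.1)} (hv : v ∈ j.ker.ideal W * K.ideal W) :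
    ∃ x : Γ(ClSub.idealMod K, W.1), val K x = v ∧ pullSec j x = 0 := by
  induction hv using Submodule.mul_induction_on' with
  | mem_mul_mem a ha b hb =>
    obtain ⟨z, hz⟩ := exists_val_eq K W hb
    refine ⟨a • z, by rw [val_smul, hz], ?_⟩
    have h1 : j.app W.1 a = 0 := by
      rw [Scheme.Hom.ker_apply] at ha
      exact ha
    rw [pullSec_smul, h1, zero_smul]
  | add x _ y _ hx hy =>
    obtain ⟨x', hx', hx0⟩ := hx
    obtain ⟨y', hy', hy0⟩ := hy
    refine ⟨x' + y', ?_, ?_⟩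
    · have h1 : val K (x' + y') = val K x' + val K y' := map_add _ _ _
      rw [h1, hx', hy']
    · rw [pullSec_add, hx0, hy0, add_zero]

include hI hj hbij hJW hpow hH1 in
theorem nonempty_iso (n : ℕ) : Nonempty ((Scheme.Modules.pullback j).obj (ClSub.idealMod (j.ker ^ n)) ≅
    (Scheme.Modules.pushforward ψ).obj ((Scheme.Modules.pullback I.subschemeι).obj (P I n))) := by
  obtain ⟨l, hl⟩ := exists_lift_idealMod hI π (j.ker ^ n) n fun W => (ideal_pow_eq hbij hJW hpow W n).le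
  let C := (Scheme.Modules.pullback I.subschemeι).obj (P I n)
  have heq : ∀ W : Y.Opens, ψ ⁻¹ᵁ (j ⁻¹ᵁ W) = I.subschemeι ⁻¹ᵁ (π ⁻¹ᵁ W) := fun W =>
    congrArg (fun h => h ⁻¹ᵁ W) hj.symm
  let κ : ClSub.idealMod (j.ker ^ n) ⟶ (Scheme.Modules.pushforward j).obj ((Scheme.Modules.pushforward ψ).obj C) :=
    l ≫ (Scheme.Modules.pushforward π).map ((Scheme.Modules.pullbackPushforwardAdjunction I.subschemeι).unit.app (P I n)) ≫
      (Scheme.Modules.pushforwardComp I.subschemeι π).hom.app C ≫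
        (Scheme.Modules.pushforwardCongr hj).hom.app C ≫ (Scheme.Modules.pushforwardComp ψ j).inv.app C
  have hκ : ∀ (W : Y.Opens) (x : Γ(ClSub.idealMod (j.ker ^ n), W)), κ.app W x =
      res C (heq W).le (pullSec I.subschemeι (show Γ(P I n, π ⁻¹ᵁ W) from l.app W x)) := fun W x => rfl
  let φ := ((Scheme.Modules.pullbackPushforwardAdjunction j).homEquiv _ _).symm κ
  have hφ : ∀ (W : Y.Opens) (x : Γ(ClSub.idealMod (j.ker ^ n), W)), φ.app (j ⁻¹ᵁ W) (pullSec j x) = κ.app W x := by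
    intro W x
    have h1 := homEquiv_app j φ x
    rw [Equiv.apply_symm_apply] at h1
    exact h1.symm
  have hiso : IsIso φ := by
    refine isIso_of_bijective_preimage j φ fun W hW => ?_
    have hq : Coh.IsQCoh (ClSub.idealMod (j.ker ^ n)) := isQCoh_idealMod _
    have haux := Groth.Agent.Pic13.H958.AffLift.pullSec_aux j hW (ClSub.idealMod (j.ker ^ n)) hq
    constructor
    · rw [injective_iff_map_eq_zero]
      intro s hs
      obtain ⟨x, rfl⟩ := haux.1 s
      have h1 : κ.app W x = 0 := (hφ W x).symm.trans hs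
      rw [hκ] at h1
      have h2 : pullSec I.subschemeι (show Γ(P I n, π ⁻¹ᵁ W) from l.app W x) = 0 := by
        have h3 := congrArg (res C (heq W).ge) h1
        rw [res_res, res_refl] at h3
        exact h3.trans (map_zero _)
      have h3 := pv_mem_succ (show Γ(P I n, π ⁻¹ᵁ W) from l.app W x) h2 hI
      have h4 : val (j.ker ^ n) x ∈ (j.ker ^ (n + 1)).ideal ⟨W, hW⟩ := by
        rw [ideal_pow_eq hbij hJW hpow ⟨W, hW⟩ (n + 1), Ideal.mem_comap]
        have h5 := hl W x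
        exact h5 ▸ h3
      have h5 : (j.ker ^ (n + 1)).ideal ⟨W, hW⟩ = j.ker.ideal ⟨W, hW⟩ * (j.ker ^ n).ideal ⟨W, hW⟩ := by
        rw [Scheme.IdealSheafData.ideal_pow, Scheme.IdealSheafData.ideal_pow, _root_.pow_succ, mul_comm]
        rfl
      rw [h5] at h4
      obtain ⟨x', hx', hx0⟩ := exists_mul (j := j) (j.ker ^ n) ⟨W, hW⟩ h4
      have h6 : x' = x := val_injective _ W hx'
      change pullSec j x = 0
      rw [← h6]
      exact hx0
    · intro t
      let t' : Γ(C, I.subschemeι ⁻¹ᵁ (π ⁻¹ᵁ W)) := res C (heq W).ge t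
      obtain ⟨y, hy⟩ := exists_pullSec (I := I) (isInvertible_tensorPow hI n) (hH1 ⟨W, hW⟩ (n + 1) (by omega)) t'
      obtain ⟨v, hv⟩ := (hbij ⟨W, hW⟩).2 (pv I n y)
      have h1 : v ∈ (j.ker ^ n).ideal ⟨W, hW⟩ := by
        rw [ideal_pow_eq hbij hJW hpow ⟨W, hW⟩ n, Ideal.mem_comap]
        have h2 := pv_mem I n y
        exact hv ▸ h2
      obtain ⟨x, hx⟩ := exists_val_eq (j.ker ^ n) ⟨W, hW⟩ h1
      refine ⟨pullSec j x, ?_⟩
      have h2 : (show Γ(P I n, π ⁻¹ᵁ W) from l.app W x) = y := by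
        apply pv_injective hI
        exact (hl W x).trans ((congrArg _ hx).trans hv)
      refine (hφ W x).trans ?_
      rw [hκ, h2, hy]
      exact (res_res _ _ _ _).trans (res_refl _ _)
  exact ⟨asIso φ⟩

end main

end K946.Gr
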