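import Groth.Agent.BSB.K946.MulSurj
import Groth.Agent.VarietyB.RestrSeq
import Groth.Agent.Surf.K463.Restr
import Groth.Agent.PerfA.IdealModule
import Groth.Agent.CohqB.FinAmple

/-!
# Powers of the ideal of a divisor, as modules with a map to the structure sheaf
-/

set_option autoImplicit false
universe u
open CategoryTheory CategoryTheory.Limits AlgebraicGeometry Opposite TopologicalSpace
open Groth.Agent.Fdesc.LocGen Groth.Agent

namespace K946.IdPow

open NormGen PerfA.IdealModule VarietyB.RestrSeq CohqB.FiniteType2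

variable {X : Scheme.{u}} (I : X.IdealSheafData)

/-- The power of the ideal module. -/
noncomputable abbrev P (n : ℕ) : X.Modules := CohB1.tensorPow (ClSub.idealMod I) n

theorem tensIdealι_tmul (E : X.Modules) {U : X.Opens} (a : Γ(E, U)) (b : Γ(ClSub.idealMod I, U)) :
    (tensIdealι E I).app U (tmul a b) = val I b • a := by
  have h2 : (tensMap E (ClSub.idealModι I)).app U (tmul a b) = tmul a ((ClSub.idealModι I).app U b) :=
    VarietyB.TensLoc.tensorBi_map_app_tmul E (ClSub.idealModι I) a b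
  have h3 : (tensIdealι E I).app U (tmul a b) = (Ega2.Tens.runit E).hom.app U
      ((tensMap E (ClSub.idealModι I)).app U (tmul a b)) := rfl
  rw [h3, h2]
  exact Ega2.Tens.runit_hom_tmul (val I b) a

/-- The map from the power to the structure sheaf. -/
noncomputable def pm : (n : ℕ) → (P I n ⟶ Coh.structureModule X)
  | 0 => 𝟙 _
  | n + 1 => tensIdealι (P I n) I ≫ pm n

/-- The value of a section of the power. -/
noncomputable def pv (n : ℕ) {U : X.Opens} (x : Γ(P I n, U)) : Γ(X, U) := appLinear (pm I n) U x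

theorem pv_smul (n : ℕ) {U : X.Opens} (r : Γ(X, U)) (x : Γ(P I n, U)) : pv I n (r • x) = r * pv I n x :=
  (appLinear (pm I n) U).map_smul r x

theorem pv_add (n : ℕ) {U : X.Opens} (x y : Γ(P I n, U)) : pv I n (x + y) = pv I n x + pv I n y :=
  (appLinear (pm I n) U).map_add x y

theorem pv_neg (n : ℕ) {U : X.Opens} (x : Γ(P I n, U)) : pv I n (-x) = - pv I n x :=
  (appLinear (pm I n) U).map_neg x

theorem pv_zero' (n : ℕ) {U : X.Opens} : pv I n (0 : Γ(P I n, U)) = 0 :=
  (appLinear (pm I n) U).map_zero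

theorem pv_res (n : ℕ) {U V : X.Opens} (h : V ≤ U) (x : Γ(P I n, U)) :
    pv I n (res _ h x) = ores h (pv I n x) := app_res (pm I n) h x

theorem pv_zero {U : X.Opens} (x : Γ(P I 0, U)) : pv I 0 x = ofFun.symm x := rfl

theorem pv_succ (n : ℕ) {U : X.Opens} (x : Γ(P I (n + 1), U)) :
    pv I (n + 1) x = pv I n ((tensIdealι (P I n) I).app U x) := rfl

/-- The product with a section of the ideal. -/
noncomputable def tm {n : ℕ} {U : X.Opens} (a : Γ(P I n, U)) (b : Γ(ClSub.idealMod I, U)) : Γ(P I (n + 1), U) :=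
  tmul a b

theorem pv_tmul (n : ℕ) {U : X.Opens} (a : Γ(P I n, U)) (b : Γ(ClSub.idealMod I, U)) :
    pv I (n + 1) (tm I a b) = pv I n a * val I b := by
  rw [pv_succ]
  have h := tensIdealι_tmul I (P I n) a b
  refine (congrArg (pv I n) h).trans ?_
  rw [pv_smul, mul_comm]

theorem powAdd_pm (m n : ℕ) :
    (Ega2.TensPow.powAdd (ClSub.idealMod I) m n).hom ≫ pm I (m + n) =
      Ega2.Tens.mapT (pm I m) (pm I n) ≫ (Ega2.Tens.runit (Coh.structureModule X)).hom := by
  induction n with
  | zero =>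
    refine Ega2.Tens.hom_ext _ _ fun U a b => ?_
    obtain ⟨b, rfl⟩ := (ofFun (X := X) (U := U)).surjective b
    have hT : (Ega2.Tens.mapT (pm I m) (pm I 0)).app U (tmul a (show Γ(P I 0, U) from ofFun b)) =
      tmul ((pm I m).app U a) (ofFun b) := Ega2.TensPow.mapT_tmul _ _ a (show Γ(P I 0, U) from ofFun b)
    have h1 : (Ega2.Tens.runit (P I m)).hom.app U (tmul a (ofFun b)) = b • a := Ega2.Tens.runit_hom_tmul b a
    have h2 : (Ega2.Tens.runit (Coh.structureModule X)).hom.app U
        (tmul ((pm I m).app U a) (ofFun b)) = b • (pm I m).app U a := Ega2.Tens.runit_hom_tmul b _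
    refine (congrArg (pv I m) h1).trans ((pv_smul I m b a).trans ?_)
    exact h2.symm.trans (congrArg _ hT.symm)
  | succ n ih =>
    refine Ega2.Tens.hom_ext₃' _ _ fun U a b l => ?_
    have h1 := Ega2.TensPow.powAdd_succ_tmul m n a b l
    have h2 : ((Ega2.TensPow.powAdd (ClSub.idealMod I) m (n + 1)).hom ≫ pm I (m + (n + 1))).app U
        (tmul a (tmul b l)) = pv I (m + n + 1) (tm I ((Ega2.TensPow.powAdd (ClSub.idealMod I) m n).hom.app U (tmul a b)) l) :=
      congrArg (pv I (m + n + 1)) h1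
    have h3 : pv I (m + n) ((Ega2.TensPow.powAdd (ClSub.idealMod I) m n).hom.app U (tmul a b)) = pv I m a * pv I n b := by
      have h4 : ((Ega2.TensPow.powAdd (ClSub.idealMod I) m n).hom ≫ pm I (m + n)).app U (tmul a b) =
        (Ega2.Tens.mapT (pm I m) (pm I n) ≫ (Ega2.Tens.runit (Coh.structureModule X)).hom).app U (tmul a b) := by
        rw [ih]
      refine h4.trans ?_
      change (Ega2.Tens.runit (Coh.structureModule X)).hom.app U ((Ega2.Tens.mapT (pm I m) (pm I n)).app U (tmul a b)) = _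
      rw [Ega2.TensPow.mapT_tmul]
      exact (Ega2.Tens.runit_hom_tmul (pv I n b) ((pm I m).app U a)).trans (mul_comm (pv I n b) (pv I m a))
    refine h2.trans ((pv_tmul I (m + n) _ _).trans ?_)
    rw [h3]
    have hT : (Ega2.Tens.mapT (pm I m) (pm I (n + 1))).app U (tmul a (tm I b l)) =
      tmul ((pm I m).app U a) ((pm I (n + 1)).app U (tm I b l)) := Ega2.TensPow.mapT_tmul _ _ a (tm I b l)
    have h5 : (pm I (n + 1)).app U (tm I b l) = ofFun (pv I n b * val I l) := pv_tmul I n b l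
    rw [h5] at hT
    refine Eq.trans ?_ (congrArg ((Ega2.Tens.runit (Coh.structureModule X)).hom.app U) hT).symm
    refine Eq.trans ?_ (Ega2.Tens.runit_hom_tmul (pv I n b * val I l) ((pm I m).app U a)).symm
    change pv I m a * pv I n b * val I l = (pv I n b * val I l) * pv I m a
    ring

theorem pv_powAdd (m n : ℕ) {U : X.Opens} (a : Γ(P I m, U)) (b : Γ(P I n, U)) :
    pv I (m + n) ((Ega2.TensPow.powAdd (ClSub.idealMod I) m n).hom.app U (tmul a b)) = pv I m a * pv I n b := by
  have h4 : ((Ega2.TensPow.powAdd (ClSub.idealMod I) m n).hom ≫ pm I (m + n)).app U (tmul a b) =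
    (Ega2.Tens.mapT (pm I m) (pm I n) ≫ (Ega2.Tens.runit (Coh.structureModule X)).hom).app U (tmul a b) := by
    rw [powAdd_pm]
  refine h4.trans ?_
  change (Ega2.Tens.runit (Coh.structureModule X)).hom.app U ((Ega2.Tens.mapT (pm I m) (pm I n)).app U (tmul a b)) = _
  rw [Ega2.TensPow.mapT_tmul]
  exact (Ega2.Tens.runit_hom_tmul (pv I n b) ((pm I m).app U a)).trans (mul_comm (pv I n b) (pv I m a))

/-- The ideal of the sections of the power. -/
noncomputable def AP (n : ℕ) (U : X.Opens) : Ideal Γ(X, U) where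
  carrier := Set.range (pv I n (U := U))
  add_mem' := by
    rintro _ _ ⟨x, rfl⟩ ⟨y, rfl⟩
    exact ⟨x + y, pv_add I n x y⟩
  zero_mem' := ⟨0, pv_zero' I n⟩
  smul_mem' := by
    rintro r _ ⟨x, rfl⟩
    exact ⟨r • x, pv_smul I n r x⟩

theorem pv_mem (n : ℕ) {U : X.Opens} (x : Γ(P I n, U)) : pv I n x ∈ AP I n U := ⟨x, rfl⟩

theorem AP_zero (U : X.Opens) : AP I 0 U = ⊤ := top_le_iff.1 fun a _ => ⟨ofFun a, rfl⟩

theorem AP_mul_le (m n : ℕ) (U : X.Opens) : AP I m U * AP I n U ≤ AP I (m + n) U := by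
  rw [Ideal.mul_le]
  rintro _ ⟨x, rfl⟩ _ ⟨y, rfl⟩
  exact ⟨_, pv_powAdd I m n x y⟩

theorem AP_succ_le (n : ℕ) (U : X.Opens) : AP I (n + 1) U ≤ AP I n U := by
  rintro _ ⟨x, rfl⟩
  exact ⟨_, (pv_succ I n x).symm⟩

theorem val_mem_AP {U : X.Opens} (b : Γ(ClSub.idealMod I, U)) : val I b ∈ AP I 1 U :=
  ⟨tm I (n := 0) (show Γ(P I 0, U) from ofFun 1) b, by
    rw [pv_tmul]
    exact one_mul (val I b)⟩

theorem mem_AP_one_iff {U : X.Opens} (a : Γ(X, U)) : a ∈ AP I 1 U ↔ ∃ b : Γ(ClSub.idealMod I, U), val I b = a := by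
  constructor
  · rintro ⟨x, rfl⟩
    have h1 := Ega2.TensPow.symm_app_app (Ega2.Tens.lunit (ClSub.idealMod I)) (U := U) x
    refine ⟨(Ega2.Tens.lunit (ClSub.idealMod I)).hom.app U x, ?_⟩
    set y := (Ega2.Tens.lunit (ClSub.idealMod I)).hom.app U x with hy
    have h2 : (Ega2.Tens.lunit (ClSub.idealMod I)).inv.app U y = tmul (one U) y := by
      have h3 := Ega2.TensPow.symm_app_app (Ega2.Tens.lunit (ClSub.idealMod I)) (tmul (one U) y)
      rw [Ega2.TensPow.lunit_tmul] at h3
      exact h3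
    rw [h2] at h1
    rw [← h1]
    refine Eq.symm ((pv_tmul I 0 (show Γ(P I 0, U) from one U) y).trans ?_)
    exact one_mul (val I y)
  · rintro ⟨b, rfl⟩
    exact val_mem_AP I b

variable {I} (hI : PicF.IsInvertible (ClSub.idealMod I))

include hI in
theorem mono_tensIdealι (n : ℕ) : Mono (tensIdealι (P I n) I) :=
  (restrSeq_shortExact (CohqB.FinAmple.hasBases_of_isInvertible (isInvertible_tensorPow hI n)) I).mono_f

include hI in
theorem mono_pm (n : ℕ) : Mono (pm I n) := by
  induction n with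
  | zero => exact inferInstanceAs (Mono (𝟙 _))
  | succ n ih =>
    have := mono_tensIdealι hI n
    exact mono_comp (tensIdealι (P I n) I) (pm I n)

include hI in
theorem pv_injective (n : ℕ) (U : X.Opens) : Function.Injective (pv I n (U := U)) := by
  have := mono_pm hI n
  exact appLinear_injective (pm I n) U

/-- Lifting of sections from the divisor. -/
theorem exists_pullSec {E : X.Modules} (hE : PicF.IsInvertible E) {U : X.Opens}
    (h : Subsingleton (Coh.HHon X (CohB1.tensorMod E (ClSub.idealMod I)) U 1))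
    (t : Γ((Scheme.Modules.pullback I.subschemeι).obj E, I.subschemeι ⁻¹ᵁ U)) :
    ∃ x : Γ(E, U), pullSec I.subschemeι x = t := by
  obtain ⟨x, hx⟩ := Ega3B.SecHom.surjective_app
    (restrSeq_shortExact (CohqB.FinAmple.hasBases_of_isInvertible hE) I) U h t
  exact ⟨x, (K463.Restr.toRestr_app _ I x).symm.trans hx⟩

theorem exists_tensIdealι {E : X.Modules} (hE : PicF.IsInvertible E) {U : X.Opens} (x : Γ(E, U))
    (hx : pullSec I.subschemeι x = 0) : ∃ y : Γ(CohB1.tensorMod E (ClSub.idealMod I), U),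
      (tensIdealι E I).app U y = x := by
  have hS := restrSeq_shortExact (CohqB.FinAmple.hasBases_of_isInvertible hE) I
  have h1 := (sections_exact _ hS.exact (hm := hS.mono_f) U) x
  exact h1.1 ((K463.Restr.toRestr_app _ I x).trans hx)

theorem pv_mem_succ {n : ℕ} {U : X.Opens} (x : Γ(P I n, U)) (hx : pullSec I.subschemeι x = 0)
    (hI : PicF.IsInvertible (ClSub.idealMod I)) : pv I n x ∈ AP I (n + 1) U := by
  obtain ⟨y, rfl⟩ := exists_tensIdealι (isInvertible_tensorPow hI n) x hx
  exact ⟨y, rfl⟩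

/-- Restriction of sections of the power to the divisor. -/
noncomputable def rho (I : X.IdealSheafData) (n : ℕ) (U : X.Opens) : Γ(P I (n + 1), U) →+
    Γ(CohB1.tensorMod ((Scheme.Modules.pullback I.subschemeι).obj (P I n))
      ((Scheme.Modules.pullback I.subschemeι).obj (ClSub.idealMod I)), I.subschemeι ⁻¹ᵁ U) :=
  AddMonoidHom.mk' (fun x => (Grpsch.PicGrp.pullTensor I.subschemeι (P I n) (ClSub.idealMod I)).app _
    (pullSec I.subschemeι (show Γ(CohB1.tensorMod (P I n) (ClSub.idealMod I), U) from x))) (fun x y => by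
      have h := pullSec_add I.subschemeι (show Γ(CohB1.tensorMod (P I n) (ClSub.idealMod I), U) from x)
        (show Γ(CohB1.tensorMod (P I n) (ClSub.idealMod I), U) from y)
      exact (congrArg _ h).trans (map_add _ _ _))

theorem rho_tm (n : ℕ) {U : X.Opens} (a : Γ(P I n, U)) (b : Γ(ClSub.idealMod I, U)) :
    rho I n U (tm I a b) = tmul (pullSec I.subschemeι a) (pullSec I.subschemeι b) :=
  Grpsch.PicGrp.pullTensor_app I.subschemeι a b

theorem pullSec_eq_zero (hI : PicF.IsInvertible (ClSub.idealMod I)) {n : ℕ} {U : X.Opens} {x : Γ(P I (n + 1), U)}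
    (hx : rho I n U x = 0) : pullSec I.subschemeι x = 0 := by
  have hiso := Grpsch.PicGrp.isIso_pullTensor I.subschemeι (isInvertible_tensorPow hI n) hI
  have h5 : ((Grpsch.PicGrp.pullTensor I.subschemeι (P I n) (ClSub.idealMod I)) ≫
      inv (Grpsch.PicGrp.pullTensor I.subschemeι (P I n) (ClSub.idealMod I))).app _
        (pullSec I.subschemeι x) = pullSec I.subschemeι x := by
    rw [IsIso.hom_inv_id]
    rfl
  rw [← h5]
  exact (congrArg ((inv (Grpsch.PicGrp.pullTensor I.subschemeι (P I n) (ClSub.idealMod I))).app _) hx).trans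
    (map_zero _)

theorem ng_step (hI : PicF.IsInvertible (ClSub.idealMod I)) (n : ℕ) {U : X.Opens}
    (h1 : Subsingleton (Coh.HHon X (P I (n + 1)) U 1))
    (h2 : Subsingleton (Coh.HHon X (CohB1.tensorMod (ClSub.idealMod I) (ClSub.idealMod I)) U 1))
    (hng : prods ((Scheme.Modules.pullback I.subschemeι).obj (P I n))
      ((Scheme.Modules.pullback I.subschemeι).obj (ClSub.idealMod I)) (I.subschemeι ⁻¹ᵁ U) = ⊤) :
    AP I (n + 1) U ≤ AP I n U * AP I 1 U ⊔ AP I (n + 2) U := by
  have hPn := isInvertible_tensorPow hI n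
  have key : ∀ τ ∈ prods ((Scheme.Modules.pullback I.subschemeι).obj (P I n))
      ((Scheme.Modules.pullback I.subschemeι).obj (ClSub.idealMod I)) (I.subschemeι ⁻¹ᵁ U),
      ∃ x' : Γ(P I (n + 1), U), pv I (n + 1) x' ∈ AP I n U * AP I 1 U ∧ rho I n U x' = τ := by
    intro τ hτ
    induction hτ using AddSubgroup.closure_induction with
    | mem τ h =>
      obtain ⟨a, b, rfl⟩ := h
      obtain ⟨a, rfl⟩ := exists_pullSec hPn h1 a
      obtain ⟨b, rfl⟩ := exists_pullSec hI h2 b
      refine ⟨tm I a b, ?_, rho_tm n a b⟩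
      rw [pv_tmul]
      exact Ideal.mul_mem_mul (pv_mem I n a) (val_mem_AP I b)
    | zero =>
      refine ⟨0, ?_, map_zero _⟩
      rw [pv_zero']
      exact zero_mem _
    | add τ τ' _ _ h h' =>
      obtain ⟨x, hx, hxτ⟩ := h
      obtain ⟨x', hx', hxτ'⟩ := h'
      refine ⟨x + x', ?_, ?_⟩
      · rw [pv_add]
        exact add_mem hx hx'
      · rw [map_add, hxτ, hxτ']
    | neg τ _ h =>
      obtain ⟨x, hx, hxτ⟩ := h
      refine ⟨-x, ?_, ?_⟩
      · rw [pv_neg]
        exact neg_mem hx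
      · rw [map_neg, hxτ]
  rintro _ ⟨x, rfl⟩
  obtain ⟨x', hx', hxx⟩ := key (rho I n U x) (hng ▸ trivial)
  have h3 : rho I n U (x + -x') = 0 := by
    rw [map_add, map_neg, hxx, add_neg_cancel]
  have h6 := pv_mem_succ (x + -x') (pullSec_eq_zero hI h3) hI
  have h7 : pv I (n + 1) x = pv I (n + 1) x' + pv I (n + 1) (x + -x') := by
    rw [pv_add, pv_neg]
    ring
  rw [h7]
  exact Submodule.add_mem_sup hx' h6

/-- The algebra: a filtration with these properties is the filtration by the powers of the first ideal. -/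
theorem eq_pow {B : Type*} [CommRing B] (a : ℕ → Ideal B) (h0 : a 0 = ⊤) (hmul : ∀ m n, a m * a n ≤ a (m + n))
    (hle : ∀ n, a (n + 1) ≤ a n) (h1 : ∀ n, 1 ≤ n → a (n + 1) ≤ a n * a 1 ⊔ a (n + 2))
    {d : ℕ} (hd : 1 ≤ d) {n₀ : ℕ} (h2 : ∀ n, n₀ ≤ n → a (n + d) ≤ a n * a d) (n : ℕ) : a n = a 1 ^ n := by
  have hanti : Antitone a := antitone_nat_of_succ_le hle
  have hpow : ∀ n, a 1 ^ n ≤ a n := by
    intro n
    induction n with
    | zero => rw [h0]; exact le_top
    | succ n ih =>
      rw [pow_succ]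
      exact (Ideal.mul_mono_left ih).trans (hmul n 1)
  have hA : ∀ n, 1 ≤ n → a n ≤ a 1 ^ n ⊔ a (n + 1) := by
    intro n hn
    induction n, hn using Nat.le_induction with
    | base => rw [pow_one]; exact le_sup_left
    | succ n hn ih =>
      refine (h1 n hn).trans (sup_le ?_ le_sup_right)
      refine (Ideal.mul_mono_left ih).trans ?_
      rw [Ideal.sup_mul, ← pow_succ]
      exact sup_le_sup_left (hmul (n + 1) 1) _
  have hB : ∀ n, 1 ≤ n → ∀ N, n ≤ N → a n ≤ a 1 ^ n ⊔ a N := by
    intro n hn N hN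
    induction N, hN using Nat.le_induction with
    | base => exact le_sup_right
    | succ N hN ih =>
      refine ih.trans (sup_le le_sup_left ((hA N (hn.trans hN)).trans (sup_le ?_ le_sup_right)))
      exact (Ideal.pow_le_pow_right hN).trans le_sup_left
  have hC : ∀ k, a (n₀ + k * d) ≤ a 1 ^ k := by
    intro k
    induction k with
    | zero => rw [pow_zero, Ideal.one_eq_top]; exact le_top
    | succ k ih =>
      have h3 : n₀ + (k + 1) * d = n₀ + k * d + d := by ring
      rw [h3, pow_succ]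
      exact (h2 _ (Nat.le_add_right _ _)).trans (Ideal.mul_mono ih (hanti hd))
  rcases Nat.eq_zero_or_pos n with rfl | hn
  · rw [h0, pow_zero, Ideal.one_eq_top]
  refine le_antisymm ?_ (hpow n)
  refine (hB n hn (n₀ + n * d) ?_).trans (sup_le le_rfl (hC n))
  calc n ≤ n * d := Nat.le_mul_of_pos_right n hd
    _ ≤ n₀ + n * d := Nat.le_add_left _ _

end K946.IdPow
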