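import Groth.Agent.Ega3B.SecLiftMain
import Groth.Agent.Ega3B.LiftSection
import Groth.Agent.Ega3B.SplitCx
import Groth.Agent.Ega3B.SpecPoint
import Groth.Agent.Ega3B.Package

/-!
# Sections vanishing on a fibre, when `H^1` of the fibre vanishes
-/

set_option autoImplicit false
universe u

open CategoryTheory CategoryTheory.Limits AlgebraicGeometry Opposite TensorProduct TopologicalSpace

namespace K946.KerFibre

open Groth.Agent Groth.Agent.Ega3B EqzSections TensorASec VarietyB SecLift Groth.Agent.Ega3A.TFunBasic Groth.Agent.Ega3A.LocalT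

section Alg

variable {A : Type u} [CommRing A] [IsNoetherianRing A] (P : ChainComplex (ModuleCat.{u} A) ℤ)
  (hP : ∀ i, Module.Finite A (P.X i) ∧ Module.Flat A (P.X i)) (p : Ideal A) [p.IsPrime]

include hP in
/-- The image of `T(M)` in `T(M'')`. -/
theorem exists_of_map_eq_zero (i q : ℤ) (hq : q + 1 = i) {s : A}
    (hs : ∀ (M : ModuleCat.{u} A) (x : (CohIII.TFun P q).obj M), s • x = 0)
    {S : ShortComplex (ModuleCat.{u} A)} (hS : S.ShortExact) (x : (CohIII.TFun P i).obj S.X₃) :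
    ∃ y : (CohIII.TFun P i).obj S.X₂, ((CohIII.TFun P i).map S.g).hom y = s • x := by
  have hrel : (ComplexShape.down ℤ).Rel i q := by simpa using hq
  have hex := T_exact₃ P (fun i => (hP i).2) hS i q hrel
  rw [ShortComplex.moduleCat_exact_iff] at hex
  obtain ⟨y, hy⟩ := hex (s • x) (by
    rw [map_smul]
    exact hs _ _)
  exact ⟨y, hy⟩

theorem map_finset_sum {n : ℕ} (i : ℤ) (f : Fin n → A)
    (z : (CohIII.TFun P i).obj (ModuleCat.of A (Fin n → A))) :
    ((CohIII.TFun P i).map (ModuleCat.ofHom (∑ j, f j • LinearMap.proj (R := A) (φ := fun _ : Fin n => A) j))).hom z =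
      ∑ j, f j • ((CohIII.TFun P i).map (ModuleCat.ofHom (LinearMap.proj (R := A) (φ := fun _ : Fin n => A) j))).hom z := by
  have h : (ModuleCat.ofHom (∑ j, f j • LinearMap.proj (R := A) (φ := fun _ : Fin n => A) j)) =
      ∑ j, f j • ModuleCat.ofHom (LinearMap.proj (R := A) (φ := fun _ : Fin n => A) j) := by
    ext x
    simp
  rw [h, Functor.map_sum]
  simp only [Functor.map_smul, ModuleCat.hom_sum, LinearMap.sum_apply, ModuleCat.hom_smul, LinearMap.smul_apply]

include hP in
/-- If `H_{i-1}(P ⊗ k(p)) = 0`, then elements of `H_i(P)` which vanish in `H_i(P ⊗ k(p))` lie in `p H_i(P)`,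
up to an element not in `p`. -/
theorem exists_mem (i q : ℤ) (hq : q + 1 = i)
    (h0 : ∀ (M : ModuleCat.{u} A), IsZero ((CohIII.TFun P (i + 1)).obj M))
    (h : IsZero ((CohIII.TFun P q).obj (ModuleCat.of A p.ResidueField)))
    (x : (CohIII.TFun P i).obj (ModuleCat.of A A))
    (hx : ((CohIII.TFun P i).map (ModuleCat.ofHom (Algebra.linearMap A p.ResidueField))).hom x = 0) :
    ∃ (a : A) (n : ℕ) (f : Fin n → A) (z : Fin n → (CohIII.TFun P i).obj (ModuleCat.of A A)), a ∉ p ∧
      (∀ j, f j ∈ p) ∧ a • x = ∑ j, f j • z j := by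
  obtain ⟨s, hs, hkill⟩ := LiftFibre.exists_smul_T_eq_zero P hP p q h
  let g : ModuleCat.of A (A ⧸ p) ⟶ ModuleCat.of A p.ResidueField :=
    ModuleCat.ofHom (IsScalarTower.toAlgHom A (A ⧸ p) p.ResidueField).toLinearMap
  have hg : Function.Injective g.hom := IsFractionRing.injective (A ⧸ p) p.ResidueField
  have hginj : Function.Injective ((CohIII.TFun P i).map g).hom := by
    let S : ShortComplex (ModuleCat.{u} A) := ShortComplex.mk g (cokernel.π g) (cokernel.condition g)
    have hmono : Mono g := (ModuleCat.mono_iff_injective g).2 hg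
    have hS : S.ShortExact :=
      { exact := ShortComplex.exact_cokernel g
        mono_f := hmono
        epi_g := inferInstanceAs (Epi (cokernel.π g)) }
    have hrel : (ComplexShape.down ℤ).Rel (i + 1) i := by simp
    have hex := T_exact₁ P (fun i => (hP i).2) hS (i + 1) i hrel
    rw [ShortComplex.moduleCat_exact_iff] at hex
    rw [injective_iff_map_eq_zero]
    intro y hy
    obtain ⟨w, hw⟩ := hex y hy
    have hw0 : w = 0 := (ModuleCat.subsingleton_of_isZero (h0 S.X₃)).elim _ _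
    rw [← hw, hw0, map_zero]
  let S : ShortComplex (ModuleCat.{u} A) := ShortComplex.mk (X₁ := ModuleCat.of A p)
    (X₂ := ModuleCat.of A A) (X₃ := ModuleCat.of A (A ⧸ p)) (ModuleCat.ofHom p.subtype)
    (ModuleCat.ofHom (Submodule.mkQ p)) (by
      ext x
      exact (Submodule.Quotient.mk_eq_zero p).mpr x.2)
  have hS : S.ShortExact := by
    refine ShortComplex.ShortExact.mk' ?_ ?_ ?_
    · rw [ShortComplex.moduleCat_exact_iff]
      intro y hy
      exact ⟨⟨y, (Submodule.Quotient.mk_eq_zero p).mp hy⟩, rfl⟩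
    · rw [ModuleCat.mono_iff_injective]
      exact Subtype.val_injective
    · rw [ModuleCat.epi_iff_surjective]
      exact Submodule.mkQ_surjective p
  have h8 : ModuleCat.ofHom (Algebra.linearMap A p.ResidueField) = S.g ≫ g := by
    ext
    rfl
  have h9 : ((CohIII.TFun P i).map S.g).hom x = 0 := by
    apply hginj
    rw [h8, Functor.map_comp, ModuleCat.hom_comp, LinearMap.comp_apply] at hx
    rw [hx, map_zero]
  have hex := T_exact₂ P (fun i => (hP i).2) hS i
  rw [ShortComplex.moduleCat_exact_iff] at hex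
  obtain ⟨x₁, hx₁⟩ := hex x h9
  -- generators of `p`
  obtain ⟨n, f, hf⟩ := Submodule.fg_iff_exists_fin_generating_family.1 (IsNoetherian.noetherian p : p.FG)
  have hfp : ∀ j, f j ∈ p := fun j => hf ▸ Submodule.subset_span ⟨j, rfl⟩
  let φ : (Fin n → A) →ₗ[A] p := ∑ j, (LinearMap.toSpanSingleton A p ⟨f j, hfp j⟩).comp
    (LinearMap.proj (R := A) (φ := fun _ : Fin n => A) j)
  have hφ : Function.Surjective φ := by
    intro y
    have hy : y.1 ∈ Submodule.span A (Set.range f) := hf ▸ y.2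
    obtain ⟨c, hc⟩ := (Submodule.mem_span_range_iff_exists_fun A).1 hy
    refine ⟨c, Subtype.ext ?_⟩
    rw [← hc]
    simp [φ]
  let g₂ : ModuleCat.of A (Fin n → A) ⟶ ModuleCat.of A p := ModuleCat.ofHom φ
  have hepi : Epi g₂ := (ModuleCat.epi_iff_surjective g₂).2 hφ
  let S₂ : ShortComplex (ModuleCat.{u} A) := ShortComplex.mk (kernel.ι g₂) g₂ (kernel.condition g₂)
  have hS₂ : S₂.ShortExact :=
    { exact := ShortComplex.exact_kernel g₂
      mono_f := inferInstanceAs (Mono (kernel.ι g₂))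
      epi_g := hepi }
  obtain ⟨w, hw⟩ := exists_of_map_eq_zero P hP i q hq hkill hS₂ x₁
  refine ⟨s, n, f, fun j => ((CohIII.TFun P i).map (ModuleCat.ofHom
    (LinearMap.proj (R := A) (φ := fun _ : Fin n => A) j))).hom w, hs, hfp, ?_⟩
  rw [← map_finset_sum P i f w]
  have h10 : ModuleCat.ofHom (∑ j, f j • LinearMap.proj (R := A) (φ := fun _ : Fin n => A) j) = g₂ ≫ S.f := by
    ext x
    simp [g₂, S, φ, mul_comm]
  rw [h10, Functor.map_comp, ModuleCat.hom_comp, LinearMap.comp_apply]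
  refine Eq.trans ?_ (congrArg ((CohIII.TFun P i).map S.f).hom hw).symm
  exact ((LinearMap.map_smul ((CohIII.TFun P i).map S.f).hom s x₁).trans (congrArg (fun t => s • t) hx₁)).symm

end Alg

section Sec

variable {A : Type u} [CommRing A] [IsNoetherianRing A] {X : Scheme.{u}}
  [X.Over (Spec (CommRingCat.of A))]

/-- Version for the sections of `N ⊗ A`. -/
theorem exists_mem_gamma [IsProper (X ↘ Spec (CommRingCat.of A))]
    (N : X.Modules) (hN : Coh.IsCoh N) (hfl : FlatMod.IsFlatOver (X ↘ Spec (CommRingCat.of A)) N)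
    (p : Ideal A) [p.IsPrime]
    (h : Subsingleton ((CohIII.tensorAFunctor A N ⋙ CohIII.HAb X 1).obj
      (ModuleCat.of A p.ResidueField)))
    (x : Γ((CohIII.tensorAFunctor A N).obj (ModuleCat.of A A), ⊤))
    (hx : ((CohIII.tensorAFunctor A N).map
      (ModuleCat.ofHom (Algebra.linearMap A p.ResidueField))).app ⊤ x = 0) :
    ∃ (a : A) (n : ℕ) (f : Fin n → A) (z : Fin n → Γ((CohIII.tensorAFunctor A N).obj (ModuleCat.of A A), ⊤)),
      a ∉ p ∧ (∀ j, f j ∈ p) ∧
      ((CohIII.tensorAFunctor A N).map (a • 𝟙 (ModuleCat.of A A))).app ⊤ x =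
        ∑ j, ((CohIII.tensorAFunctor A N).map (f j • 𝟙 (ModuleCat.of A A))).app ⊤ (z j) := by
  obtain ⟨P, hPf, -, hpos, he, -⟩ := Master.exists_complex_free X N hN hfl
  have hP : ∀ i, Module.Finite A (P.X i) ∧ Module.Flat A (P.X i) := fun i => by
    have := (hPf i).2
    exact ⟨(hPf i).1, inferInstance⟩
  obtain ⟨e0⟩ := he 0
  obtain ⟨e1⟩ := he 1
  let E : ∀ M : ModuleCat.{u} A, Γ((CohIII.tensorAFunctor A N).obj M, ⊤) ≃+
      (CohIII.TFun P (-((0 : ℕ) : ℤ))).obj M := fun M =>
    (SectExact.secEquiv ((CohIII.tensorAFunctor A N).obj M)).symm.trans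
      (e0.app M).addCommGroupIsoToAddEquiv
  have hE : ∀ {M M' : ModuleCat.{u} A} (φ : M ⟶ M') (x : Γ((CohIII.tensorAFunctor A N).obj M, ⊤)),
      E M' (((CohIII.tensorAFunctor A N).map φ).app ⊤ x) =
        ((CohIII.TFun P (-((0 : ℕ) : ℤ))).map φ).hom (E M x) := by
    intro M M' φ x
    have h1 := ConcreteCategory.congr_hom (e0.hom.naturality φ)
      ((SectExact.secEquiv ((CohIII.tensorAFunctor A N).obj M)).symm x)
    have h2 := SectExact.secEquiv_hmap ((CohIII.tensorAFunctor A N).map φ)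
      ((SectExact.secEquiv ((CohIII.tensorAFunctor A N).obj M)).symm x)
    rw [AddEquiv.apply_symm_apply] at h2
    rw [← h2]
    change (e0.hom.app M').hom ((SectExact.secEquiv ((CohIII.tensorAFunctor A N).obj M')).symm
      (SectExact.secEquiv _ _)) = _
    rw [AddEquiv.symm_apply_apply]
    exact h1
  have hz : IsZero ((CohIII.TFun P (-((0 + 1 : ℕ) : ℤ))).obj (ModuleCat.of A p.ResidueField)) := by
    rw [ModuleCat.isZero_iff_subsingleton]
    exact (e1.app (ModuleCat.of A p.ResidueField)).symm.addCommGroupIsoToAddEquiv.toEquiv.subsingleton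
  obtain ⟨a, n, f, z, ha, hf, haz⟩ := exists_mem P hP p (-((0 : ℕ) : ℤ)) (-((0 + 1 : ℕ) : ℤ))
    (by simp) (fun M => hpos _ M (by simp)) hz (E (ModuleCat.of A A) x) (by
      rw [← hE, hx, map_zero])
  refine ⟨a, n, f, fun j => (E (ModuleCat.of A A)).symm (z j), ha, hf, ?_⟩
  apply (E (ModuleCat.of A A)).injective
  rw [hE, map_sum, FibreRank.TFun_map_smul]
  refine Eq.trans haz ?_
  refine Finset.sum_congr rfl fun j _ => ?_
  rw [hE, AddEquiv.apply_symm_apply, FibreRank.TFun_map_smul]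
  rfl

omit [IsNoetherianRing A] in
theorem map_app_res {N : X.Modules} {M M' : ModuleCat.{u} A} (φ : M ⟶ M') (V : X.Opens)
    (x : Γ((CohIII.tensorAFunctor A N).obj M, ⊤)) :
    ((CohIII.tensorAFunctor A N).map φ).app V
        (((CohIII.tensorAFunctor A N).obj M).presheaf.map (homOfLE le_top).op x) =
      ((CohIII.tensorAFunctor A N).obj M').presheaf.map (homOfLE le_top).op
        (((CohIII.tensorAFunctor A N).map φ).app ⊤ x) :=
  congr($(((CohIII.tensorAFunctor A N).map φ).mapPresheaf.naturality (homOfLE le_top).op) x)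

omit [IsNoetherianRing A] in
theorem thetaM_smul (N : X.Modules) (V : X.Opens) (a : A) (s : Γ(N, V)) :
    ((CohIII.tensorAFunctor A N).map (a • 𝟙 (ModuleCat.of A A))).app V
      (thetaM N (ModuleCat.of A A) V ((1 : A) ⊗ₜ[A] toM A N V s)) =
      thetaM N (ModuleCat.of A A) V ((1 : A) ⊗ₜ[A] toM A N V (algSec A V a • s)) := by
  rw [thetaM_map]
  congr 1
  refine (LinearMap.rTensor_tmul _ _ _ _).trans ?_
  rw [← smul_toM, ← TensorProduct.smul_tmul]
  rfl

/-- Sections of `N` which vanish on the fibre over `p`, when `H^1` of the fibre vanishes. -/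
theorem exists_sec_mem [IsProper (X ↘ Spec (CommRingCat.of A))]
    (N : X.Modules) (hN : Coh.IsCoh N) (hfl : FlatMod.IsFlatOver (X ↘ Spec (CommRingCat.of A)) N)
    (p : Ideal A) [p.IsPrime]
    (h : Subsingleton ((CohIII.tensorAFunctor A N ⋙ CohIII.HAb X 1).obj
      (ModuleCat.of A p.ResidueField)))
    {Z : Scheme.{u}} {g : Z ⟶ X} {q : Z ⟶ Spec (CommRingCat.of p.ResidueField)}
    (H : IsPullback g q (X ↘ Spec (CommRingCat.of A))
      (Spec.map (CommRingCat.ofHom (algebraMap A p.ResidueField))))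
    (s : Γ(N, ⊤)) (hs : PullSec.sec g N (le_refl (g ⁻¹ᵁ ⊤)) s = 0) :
    ∃ (a : A) (n : ℕ) (f : Fin n → A) (z : Fin n → Γ(N, ⊤)), a ∉ p ∧ (∀ j, f j ∈ p) ∧
      algSec A (⊤ : X.Opens) a • s = ∑ j, algSec A (⊤ : X.Opens) (f j) • z j := by
  have hinf : ∀ U V : X.Opens, IsAffineOpen U → IsAffineOpen V → IsAffineOpen (U ⊓ V) := by
    intro U V hU hV
    have h1 : IsAffineHom (pullback.diagonal (X ↘ Spec (CommRingCat.of A))) := inferInstance
    exact isAffineHom_diagonal_iff.mp h1 ⊤
      (isAffineOpen_top _) U (le_preimage_top _ _) V (le_preimage_top _ _) hU hV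
  obtain ⟨x, hx⟩ := exists_glue N hinf (ModuleCat.of A A)
    (fun V => (1 : A) ⊗ₜ[A] toM A N V.1 (N.presheaf.map (homOfLE le_top).op s)) (by
      intro V V' h
      refine (LinearMap.lTensor_tmul _ _ _ _).trans ?_
      congr 1
      exact Fdesc.QCohStalk.map_map N le_top h s)
  have hx0 : ((CohIII.tensorAFunctor A N).map
      (ModuleCat.ofHom (Algebra.linearMap A p.ResidueField))).app ⊤ x = 0 := by
    refine TopCat.Sheaf.eq_of_locally_eq' (C := Ab)
      ⟨((CohIII.tensorAFunctor A N).obj (ModuleCat.of A p.ResidueField)).presheaf,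
        ((CohIII.tensorAFunctor A N).obj (ModuleCat.of A p.ResidueField)).isSheaf⟩
      (fun V : X.affineOpens => V.1) ⊤ (fun V => homOfLE le_top)
      (by rw [iSup_affineOpens_eq_top X]) _ _ fun V => ?_
    have h1 := map_app_res (N := N) (ModuleCat.ofHom (Algebra.linearMap A p.ResidueField)) V.1 x
    rw [← hx V, thetaM_map] at h1
    refine h1.symm.trans ?_
    have h2 : (ModuleCat.ofHom (Algebra.linearMap A p.ResidueField)).hom.rTensor (SecM A N V.1)
        ((1 : A) ⊗ₜ[A] toM A N V.1 (N.presheaf.map (homOfLE le_top).op s)) = 0 := by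
      refine (LinearMap.rTensor_tmul _ _ _ _).trans ?_
      apply (kap_bijective H N hN.1 V.2).1
      refine (kap_tmul H N V.1 _ _).trans ?_
      have h3 := PullSec.sec_res g N (le_refl (g ⁻¹ᵁ ⊤)) (le_refl (g ⁻¹ᵁ V.1)) le_top
        (preimage_mono g le_top) s
      rw [hs, map_zero] at h3
      rw [← h3, smul_zero, map_zero]
    rw [h2, map_zero]
    exact (map_zero _).symm
  obtain ⟨a, n, f, z, ha, hf, haz⟩ := exists_mem_gamma N hN hfl p h x hx0
  choose t ht using fun j => exists_s N hinf hN.1 (z j)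
  refine ⟨a, n, f, t, ha, hf, ?_⟩
  refine TopCat.Sheaf.eq_of_locally_eq' (C := Ab) ⟨N.presheaf, N.isSheaf⟩
    (fun V : X.affineOpens => V.1) ⊤ (fun V => homOfLE le_top)
    (by rw [iSup_affineOpens_eq_top X]) _ _ fun V => ?_
  have h1 := congrArg (((CohIII.tensorAFunctor A N).obj (ModuleCat.of A A)).presheaf.map
    (homOfLE (le_top : V.1 ≤ ⊤)).op) haz
  rw [← map_app_res, ← hx V, map_sum] at h1
  have h2 : ∀ j, (((CohIII.tensorAFunctor A N).obj (ModuleCat.of A A)).presheaf.map
      (homOfLE (le_top : V.1 ≤ ⊤)).op) (((CohIII.tensorAFunctor A N).map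
        (f j • 𝟙 (ModuleCat.of A A))).app ⊤ (z j)) =
      thetaM N (ModuleCat.of A A) V.1 ((1 : A) ⊗ₜ[A] toM A N V.1 (algSec A V.1 (f j) •
        N.presheaf.map (homOfLE le_top).op (t j))) := by
    intro j
    rw [← map_app_res, ← ht j V, thetaM_smul]
  rw [Finset.sum_congr rfl fun j _ => h2 j, thetaM_smul, ← map_sum, ← TensorProduct.tmul_sum] at h1
  have h3 := (thetaM_bijective N hN.1 (ModuleCat.of A A) V.2).1 h1
  have h4 := congrArg (TensorProduct.lid A (SecM A N V.1)) h3
  rw [TensorProduct.lid_tmul, TensorProduct.lid_tmul, one_smul, one_smul, ← map_sum] at h4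
  have h5 := (toM A N V.1).injective h4
  have h6 : ∀ (b : A) (w : Γ(N, ⊤)), N.presheaf.map (homOfLE (le_top : V.1 ≤ ⊤)).op (algSec A (⊤ : X.Opens) b • w) =
      algSec A V.1 b • N.presheaf.map (homOfLE (le_top : V.1 ≤ ⊤)).op w := fun b w => by
    obtain ⟨w', hw'⟩ : ∃ w', toM A N ⊤ w' = toM A N ⊤ w := ⟨w, rfl⟩
    exact (resM A N (le_top : V.1 ≤ ⊤)).map_smul b (toM A N ⊤ w)
  change N.presheaf.map (homOfLE (le_top : V.1 ≤ ⊤)).op (algSec A (⊤ : X.Opens) a • s) =
    N.presheaf.map (homOfLE (le_top : V.1 ≤ ⊤)).op (∑ j, algSec A (⊤ : X.Opens) (f j) • t j)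
  rw [map_sum, h6, Finset.sum_congr rfl fun j _ => h6 (f j) (t j)]
  exact h5

end Sec

end K946.KerFibre
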