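import Groth.Agent.CohqA.LerayBasis

/-!
# Truncated degenerate Leray: `H^n(Y, f_* F) = H^n(X, F)` when `H^q(f⁻¹ V, F) = 0` on a basis, `1 ≤ q ≤ n`
-/

set_option autoImplicit false
universe u
open CategoryTheory Opposite TopologicalSpace Limits Abelian
open Groth.Agent Groth.Agent.CohtopA Groth.Agent.CohqA.LerayBasis

namespace K946.LerayTrunc

variable {X Y : TopCat.{u}} (f : X ⟶ Y)

theorem bijective_extAdj (B : Set (Opens Y)) (hB : Opens.IsBasis B) (Z : CohTop.Ab Y) (n : ℕ) :
    ∀ (F : CohTop.Ab X) (_ : ∀ V ∈ B, ∀ q : ℕ, 0 < q → q ≤ n →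
      Subsingleton (CohTop.HU F q ((Opens.map f).obj V))),
    Function.Bijective (ExtAdj.extAdj (CohtopB.TopPull.adj f) Z F n) := by
  induction n with
  | zero => exact fun F _ => ExtAdj.extAdj_zero_bijective _ _ _
  | succ n ih =>
    intro F hF
    obtain ⟨I, Q, i, q, w, hI, hS⟩ := DimShift.exists_shortExact_injective F
    have hepi := epi_push f hS B hB (fun V hV => hF V hV 1 one_pos (by omega))
    have hRS := PushExact.push_map_shortExact f hS hepi
    have hQ : ∀ V ∈ B, ∀ q : ℕ, 0 < q → q ≤ n →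
      Subsingleton (CohTop.HU Q q ((Opens.map f).obj V)) := fun V hV q hq hqn =>
        subsingleton_quot hS _ q hq (hF V hV (q + 1) (by omega) (by omega))
    have : Injective (ShortComplex.mk i q w).X₂ := hI
    refine ExtAdj.extAdj_succ_bijective_of_shortExact (CohtopB.TopPull.adj f) hS hRS Z n
      (ih Q hQ) ?_
    cases n with
    | zero => exact (ExtAdj.extAdj_zero_bijective _ _ _).surjective
    | succ n =>
      intro y
      exact ⟨0, (map_zero _).trans (Ext.eq_zero_of_injective y).symm⟩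

/-- Truncated degenerate Leray. -/
theorem nonempty_equiv (B : Set (Opens Y)) (hB : Opens.IsBasis B) (F : CohTop.Ab X) (n : ℕ)
    (hF : ∀ V ∈ B, ∀ q : ℕ, 0 < q → q ≤ n → Subsingleton (CohTop.HU F q ((Opens.map f).obj V))) :
    Nonempty (CohTop.H F n ≃+ CohTop.H ((CohTop.push f).obj F) n) := by
  let e1 := AddEquiv.ofBijective _ (bijective_extAdj f B hB (PushClosed.ZZ Y) n F hF)
  let c := PushClosed.pullConstIso f
  let e2 : Ext (PushClosed.ZZ X) F n ≃+ Ext ((CohTop.pull f).obj (PushClosed.ZZ Y)) F n :=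
    { toFun := fun x => (Ext.mk₀ c.hom).comp x (zero_add n)
      invFun := fun x => (Ext.mk₀ c.inv).comp x (zero_add n)
      left_inv := fun x => by
        dsimp only
        rw [Ext.mk₀_comp_mk₀_assoc, c.inv_hom_id, Ext.mk₀_id_comp]
      right_inv := fun x => by
        dsimp only
        rw [Ext.mk₀_comp_mk₀_assoc, c.hom_inv_id, Ext.mk₀_id_comp]
      map_add' := fun x y => Ext.comp_add _ _ _ _ }
  exact ⟨e2.trans e1.symm⟩

end K946.LerayTrunc
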