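import Groth.Agent.BSB.K946.NormGen
import Groth.Agent.BSB.K946.UnifTwo
import Groth.Agent.Fga.TwistCoh
import Groth.Agent.Ega3B.SecHom
import Groth.Agent.Ega2.TensPow
import Groth.Agent.PerfA.CohSerre
import Groth.Agent.Dcoh.TensRestr

/-!
# Surjectivity of the multiplication of sections for powers of an ample module
-/

set_option autoImplicit false
universe u
open CategoryTheory CategoryTheory.Limits AlgebraicGeometry Opposite TopologicalSpace
open Groth.Agent.Fdesc.LocGen Groth.Agent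

namespace K946.MulSurj

open NormGen SecGr

attribute [local instance] Abelian.hasFiniteBiproducts

variable {X : Scheme.{u}}

theorem sum_app {M N : X.Modules} {ι : Type*} (s : Finset ι) (φ : ι → (M ⟶ N)) (W : X.Opens) (x : Γ(M, W)) :
    (∑ i ∈ s, φ i).app W x = ∑ i ∈ s, (φ i).app W x := by
  classical
  induction s using Finset.induction_on with
  | empty =>
    rw [Finset.sum_empty, Finset.sum_empty]
    rfl
  | insert a s ha ih =>
    rw [Finset.sum_insert ha, Finset.sum_insert ha, Scheme.Modules.Hom.add_app, ← ih]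
    rfl

theorem eq_zero_of_sec {ι : Type} {P Z : X.Modules} (s : ι → (Coh.structureModule X ⟶ P))
    (hs : ∀ x : X, ∃ i, x ∈ CohB1.genLocus P (s i)) (f : P ⟶ Z) (hf : ∀ i, s i ≫ f = 0) : f = 0 := by
  ext U q
  refine ext_loc _ _ fun x hx => ?_
  obtain ⟨i, hi⟩ := hs x
  let V := CohB1.genLocus P (s i) ⊓ U
  have hVU : V ≤ U := inf_le_right
  have he := (isGen_sec_genLocus (s i)).res (inf_le_left : V ≤ _)
  rw [res_sec] at he
  obtain ⟨α, hα⟩ := he.exists_eq (res P hVU q)
  refine ⟨V, hVU, ⟨hi, hx⟩, ?_⟩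
  have h2 : res Z hVU (f.app U q) = 0 := by
    have h3 : f.app V (sec (s i) V) = 0 := by
      have h4 := sec_comp (s i) f V
      rw [hf] at h4
      exact h4.symm
    rw [← Fdesc.LocGen.app_res, hα, Scheme.Modules.Hom.app_smul, h3, smul_zero]
  exact h2.trans (map_zero _).symm

theorem epi_desc {r : ℕ} {P : X.Modules} (s : Fin r → (Coh.structureModule X ⟶ P))
    (hs : ∀ x : X, ∃ i, x ∈ CohB1.genLocus P (s i)) :
    Epi (biproduct.desc s : (⨁ fun _ : Fin r => Coh.structureModule X) ⟶ P) := by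
  refine Preadditive.epi_of_cancel_zero _ fun f hf => eq_zero_of_sec s hs f fun i => ?_
  have := congrArg (fun t => biproduct.ι (fun _ : Fin r => Coh.structureModule X) i ≫ t) hf
  simpa using this

theorem isCoh_biproduct [IsLocallyNoetherian X] (r : ℕ) : Coh.IsCoh (⨁ fun _ : Fin r => Coh.structureModule X) :=
  PerfA.CohSerre.isCoh_of_iso (biproduct.isoCoproduct _).symm (PerfA.CohSerre.isCoh_freeMod r)

theorem exists_mul_surj {A : Type u} [CommRing A] [IsNoetherianRing A] (g : X ⟶ Spec (CommRingCat.of A)) [IsProper g]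
    {P M : X.Modules} (hP : PicF.IsInvertible P) (hgg : Curv2.IsGloballyGenerated P) (hM : CohB1.IsAmple M) :
    ∃ n₀ : ℕ, ∀ n, n₀ ≤ n → prods (CohB1.tensorPow M n) P ⊤ = ⊤ := by
  have hN : IsLocallyNoetherian X := LocallyOfFiniteType.isLocallyNoetherian g
  have hc : CompactSpace X := QuasiCompact.compactSpace_of_compactSpace g
  obtain ⟨r, s, hs⟩ := UnifTwo.exists_sections hP hgg
  have hepi := epi_desc s hs
  let φ : (⨁ fun _ : Fin r => Coh.structureModule X) ⟶ P := biproduct.desc s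
  let S : ShortComplex X.Modules := ShortComplex.mk (kernel.ι φ) φ (kernel.condition φ)
  have hS : S.ShortExact :=
    { exact := ShortComplex.exact_kernel φ
      mono_f := inferInstanceAs (Mono (kernel.ι φ))
      epi_g := hepi }
  have hK : Coh.IsCoh (kernel φ) :=
    PerfA.CohSerre.isCoh_kernel φ (isCoh_biproduct r) (Ega2.QCohLocal.isQCoh_of_isInvertible hP)
  obtain ⟨n₀, hn₀⟩ := (S0051.result A X g M hM.1).1 hM (kernel φ) hK
  refine ⟨n₀, fun n hn => ?_⟩
  have hMn := isInvertible_tensorPow hM.1 n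
  have hS' := Fga.TwistCoh.shortExact_tensorBi hMn S hS
  have h1 : Subsingleton (Coh.HH X (S.map (DCoh.tensorBi.obj (CohB1.tensorPow M n))).X₁ 1) :=
    CohqA.UnifVan.subsingleton_of_iso (Ega2.Tens.swap _ _) 1 (hn₀ n hn 1 one_pos)
  have hsurj := Ega3B.SecHom.surjective_app_top hS' h1
  refine top_le_iff.1 fun t _ => ?_
  obtain ⟨w, rfl⟩ := hsurj t
  let T := DCoh.tensorBi.obj (CohB1.tensorPow M n)
  have h2 : T.map φ = ∑ i, T.map (biproduct.π (fun _ : Fin r => Coh.structureModule X) i) ≫ T.map (s i) := by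
    rw [← Category.id_comp (T.map φ), ← T.map_id, ← biproduct.total, Functor.map_sum, Preadditive.sum_comp]
    refine Finset.sum_congr rfl fun i _ => ?_
    rw [T.map_comp, Category.assoc, ← T.map_comp, biproduct.ι_desc]
  have h3 : (T.map φ).app ⊤ w = ∑ i, (T.map (s i)).app ⊤
      ((T.map (biproduct.π (fun _ : Fin r => Coh.structureModule X) i)).app ⊤ w) := by
    rw [h2]
    exact sum_app _ _ _ _
  change (T.map φ).app ⊤ w ∈ _
  rw [h3]
  refine sum_mem fun i _ => ?_
  let y : Γ(CohB1.tensorMod (CohB1.tensorPow M n) (Coh.structureModule X), ⊤) :=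
    (T.map (biproduct.π (fun _ : Fin r => Coh.structureModule X) i)).app ⊤ w
  have h4 : tmul ((Ega2.Tens.runit (CohB1.tensorPow M n)).hom.app ⊤ y) (one ⊤) = y := by
    have h5 : (Ega2.Tens.runit (CohB1.tensorPow M n)).hom.app ⊤
        (tmul ((Ega2.Tens.runit (CohB1.tensorPow M n)).hom.app ⊤ y) (one ⊤)) =
        (Ega2.Tens.runit (CohB1.tensorPow M n)).hom.app ⊤ y := Ega2.TensPow.runit_tmul _
    have h6 := congrArg ((Ega2.Tens.runit (CohB1.tensorPow M n)).inv.app ⊤) h5
    exact (Ega2.TensPow.symm_app_app (Ega2.Tens.runit (CohB1.tensorPow M n)) _).symm.trans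
      (h6.trans (Ega2.TensPow.symm_app_app (Ega2.Tens.runit (CohB1.tensorPow M n)) _))
  change (T.map (s i)).app ⊤ y ∈ _
  rw [← h4]
  have h7 := Dcoh.TensRestr.tensorBi_obj_map_tmul (CohB1.tensorPow M n) (s i)
    ((Ega2.Tens.runit (CohB1.tensorPow M n)).hom.app ⊤ y) (one (X := X) ⊤)
  refine h7 ▸ tmul_mem_prods _ _

end K946.MulSurj
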