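import Groth.Agent.BSB.K946.NormGen

/-!
# Normal generation near a point of the base, from the fibre
-/

set_option autoImplicit false
universe u

open CategoryTheory CategoryTheory.Limits AlgebraicGeometry Opposite TensorProduct TopologicalSpace

namespace K946.NormGenPt

open Groth.Agent Groth.Agent.Ega3B EqzSections TensorASec VarietyB PackageAsm Groth.Agent.Fdesc Groth.Agent.Fdesc.LocGen
open K946.NormGen

variable {X Y : Scheme.{u}}

/-- Nakayama at a prime, for submodules of a finite module. -/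
theorem exists_smul_mem_of_prime {A Q : Type*} [CommRing A] [AddCommGroup Q] [Module A Q] [Module.Finite A Q]
    (p : Ideal A) [hp : p.IsPrime] (T : Submodule A Q)
    (h : ∀ t : Q, ∃ a : A, a ∉ p ∧ a • t ∈ T ⊔ p • (⊤ : Submodule A Q)) :
    ∃ a : A, a ∉ p ∧ ∀ t : Q, a • t ∈ T := by
  classical
  obtain ⟨s, hs⟩ : (⊤ : Submodule A Q).FG := Module.Finite.fg_top
  choose a ha hat using h
  let b := ∏ t ∈ s, a t
  have hb : b ∉ p := by
    intro hb
    obtain ⟨t, -, ht⟩ := (Ideal.IsPrime.prod_mem_iff (hp := hp)).mp hb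
    exact ha t ht
  have hbt : ∀ t : Q, b • t ∈ T ⊔ p • (⊤ : Submodule A Q) := by
    intro t
    have ht : t ∈ Submodule.span A (s : Set Q) := by
      rw [hs]
      trivial
    induction ht using Submodule.span_induction with
    | mem t ht =>
      have : b = (∏ x ∈ s.erase t, a x) * a t := (Finset.prod_erase_mul s a ht).symm
      rw [this, mul_smul]
      exact Submodule.smul_mem _ _ (hat t)
    | zero =>
      rw [smul_zero]
      exact zero_mem _
    | add x y _ _ hx hy =>
      rw [smul_add]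
      exact add_mem hx hy
    | smul c x _ hx =>
      rw [smul_comm]
      exact Submodule.smul_mem _ _ hx
  -- pass to the quotient
  have hfg : (⊤ : Submodule A (Q ⧸ T)).FG := Module.Finite.fg_top
  have hQ : ∀ t : Q ⧸ T, b • t ∈ p • (⊤ : Submodule A (Q ⧸ T)) := by
    intro t
    obtain ⟨t, rfl⟩ := T.mkQ_surjective t
    obtain ⟨u, hu, v, hv, huv⟩ := Submodule.mem_sup.1 (hbt t)
    rw [← map_smul, ← huv, map_add]
    have h2 : T.mkQ u = 0 := (Submodule.Quotient.mk_eq_zero T).2 hu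
    rw [h2, zero_add]
    have h3 := Submodule.mem_map_of_mem (f := T.mkQ) hv
    rw [Submodule.map_smul''] at h3
    exact Submodule.smul_mono le_rfl le_top h3
  -- Cayley-Hamilton for multiplication by `b`
  obtain ⟨P, hP1, -, hP3, hP4⟩ :=
    LinearMap.exists_monic_and_natDegree_eq_and_coeff_mem_pow_and_aeval_eq_zero
    A (algebraMap A (Module.End A (Q ⧸ T)) b) p (by
      rintro _ ⟨t, rfl⟩
      exact hQ t)
  refine ⟨P.eval b, fun h => ?_, fun t => ?_⟩
  · rw [Polynomial.eval_eq_sum_range, Finset.sum_range_succ, hP1.coeff_natDegree, one_mul] at h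
    have h2 : ∑ i ∈ Finset.range P.natDegree, P.coeff i * b ^ i ∈ p := by
      refine sum_mem fun i hi => Ideal.mul_mem_right _ _ ?_
      have h3 := hP3 i
      exact Ideal.pow_le_self (Nat.sub_ne_zero_of_lt (Finset.mem_range.1 hi)) h3
    have h4 : b ^ P.natDegree ∈ p := by
      have := p.sub_mem h h2
      rwa [add_sub_cancel_left] at this
    exact hb (hp.mem_of_pow_mem _ h4)
  · rw [Polynomial.aeval_algebraMap_apply] at hP4
    have h5 := congr($hP4 (T.mkQ t))
    have h6 : P.eval b • T.mkQ t = 0 := h5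
    rw [← map_smul] at h6
    exact (Submodule.Quotient.mk_eq_zero T).1 h6

/-- Normal generation near a point. -/
theorem normgen_pt (f : X ⟶ Y) [IsProper f] [Flat f] [IsLocallyNoetherian Y] {L M : X.Modules}
    (hL : PicF.IsInvertible L) (hM : PicF.IsInvertible M) {W : Y.Opens} (hW : IsAffineOpen W) (y : W)
    (h1L : Subsingleton (CohIII.fiberH f L y.1 1)) (h1M : Subsingleton (CohIII.fiberH f M y.1 1))
    (h1T : Subsingleton (CohIII.fiberH f (CohB1.tensorMod L M) y.1 1))
    (hng : prods (CohIII.fiberMod f L y.1) (CohIII.fiberMod f M y.1) ⊤ = ⊤) :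
    ∃ a : Γ(Y, W), a ∉ (hW.primeIdealOf y).asIdeal ∧
      ∀ t : Γ(CohB1.tensorMod L M, f ⁻¹ᵁ W), f.app W a • t ∈ prods L M (f ⁻¹ᵁ W) := by
  have hLM := isInvertible_tensorMod hL hM
  have cL : Coh.IsCoh L := PerfA.CohSerre.isCoh_of_isFinLocFree (NearFibre.isFinLocFree_of_isInvertible hL)
  have cM : Coh.IsCoh M := PerfA.CohSerre.isCoh_of_isFinLocFree (NearFibre.isFinLocFree_of_isInvertible hM)
  have cLM : Coh.IsCoh (CohB1.tensorMod L M) :=
    PerfA.CohSerre.isCoh_of_isFinLocFree (NearFibre.isFinLocFree_of_isInvertible hLM)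
  have hfin : Module.Finite Γ(Y, W) Γ((Coh.push f).obj (CohB1.tensorMod L M), W) :=
    K269.PushCoh.finite_sections_push f _ cLM hW inferInstance
  let T : Submodule Γ(Y, W) Γ((Coh.push f).obj (CohB1.tensorMod L M), W) :=
    { carrier := {t | (show Γ(CohB1.tensorMod L M, f ⁻¹ᵁ W) from t) ∈ prods L M (f ⁻¹ᵁ W)}
      add_mem' := fun h h' => (prods L M (f ⁻¹ᵁ W)).add_mem h h'
      zero_mem' := (prods L M (f ⁻¹ᵁ W)).zero_mem
      smul_mem' := fun r t h => smul_mem_prods (f.app W r) h }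
  let p := (hW.primeIdealOf y).asIdeal
  have hpp : p.IsPrime := (hW.primeIdealOf y).isPrime
  obtain ⟨g, q, σ, hg, H, -⟩ := EtPoint.exists_square f hW y
  refine exists_smul_mem_of_prime p T fun t => ?_
  have hiso : IsIso (Grpsch.PicGrp.pullTensor (f.fiberι y.1) L M) := Grpsch.PicGrp.isIso_pullTensor _ hL hM
  have key : ∀ τ : Γ(CohB1.tensorMod (CohIII.fiberMod f L y.1) (CohIII.fiberMod f M y.1), ⊤),
      ∃ (a : Γ(Y, W)) (t' : Γ(CohB1.tensorMod L M, f ⁻¹ᵁ W)), a ∉ p ∧ t' ∈ prods L M (f ⁻¹ᵁ W) ∧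
        (Grpsch.PicGrp.pullTensor (f.fiberι y.1) L M).app ⊤ (fr f g hg t') = scal f g hg a • τ := by
    intro τ
    have hτ : τ ∈ prods (CohIII.fiberMod f L y.1) (CohIII.fiberMod f M y.1) ⊤ := by
      rw [hng]
      trivial
    induction hτ using AddSubgroup.closure_induction with
    | mem τ h =>
      obtain ⟨a, b, rfl⟩ := h
      obtain ⟨r, a', hr, hra⟩ := exists_lift f g hg hW y q H L cL
        (NearFibre.isFlatOver_of_isInvertible f hL) h1L a
      obtain ⟨s, b', hs, hsb⟩ := exists_lift f g hg hW y q H M cM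
        (NearFibre.isFlatOver_of_isInvertible f hM) h1M b
      refine ⟨r * s, tmul a' b', fun h => (hpp.mem_or_mem h).elim hr hs, tmul_mem_prods _ _, ?_⟩
      have h2 := Grpsch.PicGrp.pullTensor_app (f.fiberι y.1) a' b'
      have h3 : (Grpsch.PicGrp.pullTensor (f.fiberι y.1) L M).app ⊤ (fr f g hg (tmul a' b')) =
          tmul (fr f g hg a') (fr f g hg b') := by
        rw [fr, app_res, h2, res_tmul]
        rfl
      rw [h3, hra, hsb, smul_tmul, tmul_smul, smul_smul]
      congr 1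
      exact (map_mul ((ores (top_le f g hg)).comp (((f.fiberι y.1).app (f ⁻¹ᵁ W)).hom.comp (f.app W).hom)) r s).symm
    | zero =>
      refine ⟨1, 0, fun h => hpp.ne_top ((Ideal.eq_top_iff_one p).2 h), zero_mem _, ?_⟩
      have h0 : fr f g hg (0 : Γ(CohB1.tensorMod L M, f ⁻¹ᵁ W)) = 0 := by
        have := fr_add f g hg (0 : Γ(CohB1.tensorMod L M, f ⁻¹ᵁ W)) 0
        rw [add_zero] at this
        exact left_eq_add.1 this
      rw [h0, map_zero, smul_zero]
    | add τ τ' _ _ h h' =>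
      obtain ⟨a, t, ha, ht, hat⟩ := h
      obtain ⟨a', t', ha', ht', hat'⟩ := h'
      refine ⟨a' * a, (show Γ(X, f ⁻¹ᵁ W) from f.app W a') • t + (show Γ(X, f ⁻¹ᵁ W) from f.app W a) • t',
        fun h => (hpp.mem_or_mem h).elim ha' ha, add_mem (smul_mem_prods _ ht) (smul_mem_prods _ ht'), ?_⟩
      have hm : ∀ b c : Γ(Y, W), scal f g hg (b * c) = scal f g hg b * scal f g hg c := fun b c =>
        map_mul ((ores (top_le f g hg)).comp (((f.fiberι y.1).app (f ⁻¹ᵁ W)).hom.comp (f.app W).hom)) b c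
      rw [fr_add, fr_smul, fr_smul, map_add, Scheme.Modules.Hom.app_smul, Scheme.Modules.Hom.app_smul, hat, hat',
        smul_smul, smul_smul, smul_add, hm, mul_comm (scal f g hg a)]
    | neg τ _ h =>
      obtain ⟨a, t, ha, ht, hat⟩ := h
      refine ⟨a, -t, ha, neg_mem ht, ?_⟩
      have h0 : fr f g hg (-t) = - fr f g hg t := by
        exact map_neg (AddMonoidHom.mk' (fr f g hg) (fr_add f g hg)) t
      rw [h0, map_neg, hat, smul_neg]
  obtain ⟨a, t', ha, ht', hat⟩ := key ((Grpsch.PicGrp.pullTensor (f.fiberι y.1) L M).app ⊤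
    (fr f g hg (show Γ(CohB1.tensorMod L M, f ⁻¹ᵁ W) from t)))
  let u : Γ(CohB1.tensorMod L M, f ⁻¹ᵁ W) := (show Γ(X, f ⁻¹ᵁ W) from f.app W a) •
    (show Γ(CohB1.tensorMod L M, f ⁻¹ᵁ W) from t) + -t'
  have hneg : fr f g hg (-t') = - fr f g hg t' := map_neg (AddMonoidHom.mk' (fr f g hg) (fr_add f g hg)) t'
  have hu : fr f g hg u = 0 := by
    have h1 : (Grpsch.PicGrp.pullTensor (f.fiberι y.1) L M).app ⊤ (fr f g hg u) = 0 := by
      rw [fr_add, fr_smul, hneg, map_add, map_neg, hat, Scheme.Modules.Hom.app_smul, add_neg_cancel]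
    have h2 : ((Grpsch.PicGrp.pullTensor (f.fiberι y.1) L M) ≫
        inv (Grpsch.PicGrp.pullTensor (f.fiberι y.1) L M)).app ⊤ (fr f g hg u) = fr f g hg u := by
      rw [IsIso.hom_inv_id]
      rfl
    rw [← h2]
    change (inv (Grpsch.PicGrp.pullTensor (f.fiberι y.1) L M)).app ⊤
      ((Grpsch.PicGrp.pullTensor (f.fiberι y.1) L M).app ⊤ (fr f g hg u)) = 0
    rw [h1, map_zero]
  obtain ⟨b, n, c, z, hb, hc, hbc⟩ := exists_mem f g hg hW y q H (CohB1.tensorMod L M) cLM
        (NearFibre.isFlatOver_of_isInvertible f hLM) h1T u hu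
  refine ⟨b * a, fun h => (hpp.mem_or_mem h).elim hb ha, ?_⟩
  have h3 : (b * a) • t = b • (show Γ((Coh.push f).obj (CohB1.tensorMod L M), W) from t') +
      ∑ j, c j • (show Γ((Coh.push f).obj (CohB1.tensorMod L M), W) from z j) := by
    have h4 : b • (show Γ((Coh.push f).obj (CohB1.tensorMod L M), W) from u) =
      ∑ j, c j • (show Γ((Coh.push f).obj (CohB1.tensorMod L M), W) from z j) := hbc
    have h5 : (show Γ((Coh.push f).obj (CohB1.tensorMod L M), W) from u) =
      a • t + -(show Γ((Coh.push f).obj (CohB1.tensorMod L M), W) from t') := rfl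
    rw [← h4, h5, smul_add, smul_neg, smul_smul]
    abel
  rw [h3]
  refine Submodule.add_mem_sup (T.smul_mem b ht') (Submodule.sum_mem _ fun j _ => ?_)
  exact Submodule.smul_mem_smul (hc j) trivial

end K946.NormGenPt
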