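import Groth.Agent.BSB.K946.Transfer
import Groth.Agent.BSB.K946.NormGenPt
import Groth.Agent.BSB.K946.MulSurj
import Groth.Agent.Vanish.K660.Semi
import Groth.Agent.Coherent.K471.VaLift
import Groth.Agent.Ega3B.PullTensor

/-!
# Normal generation spreads out
-/

set_option autoImplicit false
universe u
open CategoryTheory CategoryTheory.Limits AlgebraicGeometry Opposite TopologicalSpace
open Groth.Agent.Fdesc.LocGen Groth.Agent

namespace K946.NgSpread

open K946.NormGen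
open Groth.Agent.Krr.H484.PnHom Groth.Agent.Dix.ProjProper Groth.Agent.K385.VeryAmpleBC
open Groth.Agent.Ega3B Groth.Agent.Ega3B.EqzSections Groth.Agent.Ega3B.PackageAsm K471.VaNear

variable {X Y : Scheme.{u}}

/-- A relatively very ample module over a base is globally generated. -/
theorem gg_of_pn {f : X ⟶ Y} {L : X.Modules} (h : RelAmple.IsRelVeryAmplePn f L) : Curv2.IsGloballyGenerated L := by
  obtain ⟨n, i, hi, hif, ⟨eL⟩⟩ := h
  let e0 : (Scheme.Modules.pullback (i ≫ toZ n Y)).obj (Twist.twistProjSpace n (ULift.{u} ℤ) 1) ≅ L :=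
    ((Scheme.Modules.pullbackComp i (toZ n _)).app _).symm ≪≫ eL.symm
  refine K660.Semi.gg_of_sections fun x => ?_
  have h1 := iSup_genLocus (i ≫ toZ n Y) e0
  have hx : x ∈ (⊤ : X.Opens) := trivial
  rw [← h1, Opens.mem_iSup] at hx
  obtain ⟨j, hj⟩ := hx
  exact ⟨_, hj⟩

/-- Very ampleness and normal generation near a point, from the fibre. -/
theorem near (f : X ⟶ Y) [IsProper f] [Flat f] [IsLocallyNoetherian Y] {L : X.Modules}
    (hLi : PicF.IsInvertible L) {W : Y.Opens} (hW : IsAffineOpen W) (y : W)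
    (hva : RelAmple.IsRelVeryAmplePn (f ∣_ W) (L.restrict (f ⁻¹ᵁ W).ι))
    (ha : CohB1.IsAmple (L.restrict (f ⁻¹ᵁ W).ι))
    (hng : ∀ n : ℕ, 1 ≤ n → prods (CohB1.tensorPow (CohIII.fiberMod f L y) n) (CohIII.fiberMod f L y) ⊤ = ⊤)
    (h1 : ∀ n : ℕ, 1 ≤ n → Subsingleton (CohIII.fiberH f (CohB1.tensorPow L n) y 1)) :
    ∃ U : Y.Opens, y.1 ∈ U ∧ U ≤ W ∧ ∀ n : ℕ, 1 ≤ n → prods (CohB1.tensorPow L n) L (f ⁻¹ᵁ U) = ⊤ := by
  have h1L : Subsingleton (CohIII.fiberH f L y 1) := by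
    have := h1 1 le_rfl
    exact CohqA.UnifVan.subsingleton_of_iso ((Scheme.Modules.pullback (f.fiberι y.1)).mapIso
      (Ega2.TensPow.powOne L)) 1 this
  have hpt : ∀ n : ℕ, 1 ≤ n → ∃ a : Γ(Y, W), a ∉ (hW.primeIdealOf y).asIdeal ∧
      ∀ t : Γ(CohB1.tensorMod (CohB1.tensorPow L n) L, f ⁻¹ᵁ W),
        f.app W a • t ∈ prods (CohB1.tensorPow L n) L (f ⁻¹ᵁ W) := by
    intro n hn
    refine NormGenPt.normgen_pt f (isInvertible_tensorPow hLi n) hLi hW y (h1 n hn) h1L (h1 (n + 1) (by omega)) ?_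
    obtain ⟨e⟩ := PullTensor.nonempty_pullPowIso (f.fiberι y.1) hLi n
    exact Transfer.prods_of_iso e.symm (Iso.refl _) (hng n hn)
  obtain ⟨n₀, hn₀⟩ : ∃ n₀ : ℕ, ∀ n, n₀ ≤ n → prods (CohB1.tensorPow L n) L (f ⁻¹ᵁ W) = ⊤ := by
    have hN : IsNoetherianRing Γ(Y, W) := IsLocallyNoetherian.component_noetherian ⟨W, hW⟩
    let g : (f ⁻¹ᵁ W).toScheme ⟶ Spec (CommRingCat.of Γ(Y, W)) := (f ∣_ W) ≫ hW.isoSpec.hom
    have hg : IsProper g := inferInstanceAs (IsProper ((f ∣_ W) ≫ hW.isoSpec.hom))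
    obtain ⟨n₀, hn₀⟩ := MulSurj.exists_mul_surj g ha.1 (gg_of_pn hva) ha
    refine ⟨n₀, fun n hn => Transfer.prods_of_restrict _ ?_⟩
    obtain ⟨e⟩ := TensRestrict.restrictPowIso (f ⁻¹ᵁ W).ι L n
    exact Transfer.prods_of_iso e.symm (Iso.refl _) (hn₀ n hn)
  choose! a ha hat using hpt
  let b : Γ(Y, W) := ∏ n ∈ (Finset.range n₀).filter (1 ≤ ·), a n
  have hb : b ∉ (hW.primeIdealOf y).asIdeal := by
    intro hb
    obtain ⟨n, hn, h⟩ := (Ideal.IsPrime.prod_mem_iff (hp := (hW.primeIdealOf y).isPrime)).mp hb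
    exact ha n (Finset.mem_filter.1 hn).2 h
  refine ⟨Y.basicOpen b, ?_, Y.basicOpen_le b, fun n hn => ?_⟩
  · exact LiftSection.mem_basicOpen_of_not_mem hW y b hb
  · have hq : Coh.IsQCoh (CohB1.tensorMod (CohB1.tensorPow L n) L) :=
      Ega2.QCohLocal.isQCoh_of_isInvertible (isInvertible_tensorPow hLi (n + 1))
    refine Transfer.prods_basicOpen f hq hW b fun t => ⟨1, ?_⟩
    rw [pow_one]
    by_cases hnn : n₀ ≤ n
    · rw [hn₀ n hnn]
      trivial
    · have hmem : n ∈ (Finset.range n₀).filter (1 ≤ ·) := by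
        rw [Finset.mem_filter, Finset.mem_range]
        exact ⟨by omega, hn⟩
      have hbn : b = (∏ m ∈ ((Finset.range n₀).filter (1 ≤ ·)).erase n, a m) * a n :=
        (Finset.prod_erase_mul _ a hmem).symm
      have h5 := smul_mem_prods (f.app W (∏ m ∈ ((Finset.range n₀).filter (1 ≤ ·)).erase n, a m)) (hat n hn t)
      rw [smul_smul, ← map_mul, ← hbn] at h5
      exact h5

end K946.NgSpread
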