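import Groth.Agent.BSB.K946.KerFibre
import Groth.Agent.Ega3B.NearFibre
import Groth.Agent.Grpsch.PicGrp
import Groth.Agent.GrpSch.K269.PushCoh
import Groth.Agent.Fdesc.StructMod
import Groth.Agent.S0030
import Groth.Agent.Dcoh.DerSch

/-!
# Normal generation over affine opens of the base, from the fibres
-/

set_option autoImplicit false
universe u

open CategoryTheory CategoryTheory.Limits AlgebraicGeometry Opposite TensorProduct TopologicalSpace

namespace K946.NormGen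

open Groth.Agent Groth.Agent.Ega3B EqzSections TensorASec VarietyB PackageAsm Groth.Agent.Fdesc Groth.Agent.Fdesc.LocGen

variable {X Y : Scheme.{u}}

section Fibre

variable (f : X ⟶ Y) {W : Y.Opens} {Z : Scheme.{u}} (g : Z ⟶ (f ⁻¹ᵁ W).toScheme) {j : Z ⟶ X}
  (hj : g ≫ (f ⁻¹ᵁ W).ι = j)

include hj in
theorem top_le : (⊤ : Z.Opens) ≤ j ⁻¹ᵁ (f ⁻¹ᵁ W) := by
  subst hj
  intro z _
  exact (g z).2

/-- Restriction of sections to the fibre. -/
noncomputable def fr {M : X.Modules} (m : Γ(M, f ⁻¹ᵁ W)) : Γ((Scheme.Modules.pullback j).obj M, ⊤) :=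
  LocGen.res _ (top_le f g hj) (pullSec j m)

theorem fr_add {M : X.Modules} (m n : Γ(M, f ⁻¹ᵁ W)) : fr f g hj (m + n) = fr f g hj m + fr f g hj n := by
  rw [fr, pullSec_add, map_add]
  rfl

/-- The scalars. -/
noncomputable def scal (a : Γ(Y, W)) : Γ(Z, ⊤) := ores (top_le f g hj) (j.app (f ⁻¹ᵁ W) (f.app W a))

theorem fr_smul {M : X.Modules} (a : Γ(Y, W)) (m : Γ(M, f ⁻¹ᵁ W)) :
    fr f g hj ((show Γ(X, f ⁻¹ᵁ W) from f.app W a) • m) = scal f g hj a • fr f g hj m := by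
  rw [fr, pullSec_smul, LocGen.res_smul]
  rfl

/-- The section over `⊤` of the restriction. -/
noncomputable def toR {M : X.Modules} (m : Γ(M, f ⁻¹ᵁ W)) : Γ(M.restrict (f ⁻¹ᵁ W).ι, ⊤) :=
  toRestrict (f ⁻¹ᵁ W).ι (LocGen.res M (by rw [Scheme.Opens.ι_image_top]) m)

theorem toR_surjective {M : X.Modules} (s : Γ(M.restrict (f ⁻¹ᵁ W).ι, ⊤)) :
    ∃ m : Γ(M, f ⁻¹ᵁ W), toR f m = s := by
  refine ⟨LocGen.res M (by rw [Scheme.Opens.ι_image_top]) ((toRestrict (f ⁻¹ᵁ W).ι).symm s), ?_⟩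
  rw [toR, LocGen.res_res, LocGen.res_refl, AddEquiv.apply_symm_apply]

theorem toR_injective {M : X.Modules} {m n : Γ(M, f ⁻¹ᵁ W)} (h : toR f m = toR f n) : m = n := by
  have h1 := (toRestrict (f ⁻¹ᵁ W).ι).injective h
  have h2 := congrArg (LocGen.res M (show f ⁻¹ᵁ W ≤ (f ⁻¹ᵁ W).ι ''ᵁ ⊤ by rw [Scheme.Opens.ι_image_top])) h1
  rwa [LocGen.res_res, LocGen.res_res, LocGen.res_refl, LocGen.res_refl] at h2

theorem toR_add {M : X.Modules} (m n : Γ(M, f ⁻¹ᵁ W)) : toR f (m + n) = toR f m + toR f n := by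
  rw [toR, map_add, map_add]
  rfl

theorem eps_toR {M : X.Modules} (m : Γ(M, f ⁻¹ᵁ W)) :
    (LiftSection.epsIso g (f ⁻¹ᵁ W).ι M).hom.app ⊤ (pullSec g (toR f m)) = fr f g rfl m := by
  have h1 := LiftSection.epsIso_app g (f ⁻¹ᵁ W).ι M m
  have h2 : toR f m = LocGen.res _ (by rw [Scheme.Opens.ι_preimage_self]) (toRestrict (f ⁻¹ᵁ W).ι
      (LocGen.res M ((f ⁻¹ᵁ W).ι.image_preimage_le (f ⁻¹ᵁ W)) m)) := by
    rw [res_toRestrict, LocGen.res_res]
    rfl
  rw [h2, ← res_pullSec]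
  refine (app_res _ _ _).trans ?_
  rw [h1]
  rfl

variable (hW : IsAffineOpen W) (y : W)
  (q : Z ⟶ Spec (CommRingCat.of (hW.primeIdealOf y).asIdeal.ResidueField))
  (H : IsPullback g q (strMap f hW) (Spec.map (CommRingCat.ofHom
      (algebraMap Γ(Y, W) (hW.primeIdealOf y).asIdeal.ResidueField))))

include H in
theorem scal_eq (a : Γ(Y, W)) : scal f g hj a = secMap q ⊤ (algebraMap Γ(Y, W)
    (hW.primeIdealOf y).asIdeal.ResidueField a) := by
  subst hj
  exact LiftSection.key_appLE f hW g q H.w a ⊤ (top_le f g rfl)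

variable [IsProper f] [IsLocallyNoetherian Y] (F : X.Modules) (hF : Coh.IsCoh F)
  (hfl : FlatMod.IsFlatOver f F) (h1 : Subsingleton (CohIII.fiberH f F y.1 1))

include hF hfl h1 H in
/-- Lifting sections from the fibre. -/
theorem exists_lift (t0 : Γ((Scheme.Modules.pullback j).obj F, ⊤)) :
    ∃ (a : Γ(Y, W)) (s : Γ(F, f ⁻¹ᵁ W)), a ∉ (hW.primeIdealOf y).asIdeal ∧
      fr f g hj s = scal f g hj a • t0 := by
  have hscal := scal_eq f g hj hW y q H
  subst hj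
  obtain ⟨a, s, ha, hs⟩ := LiftSection.exists_lift_W f F hF hfl hW y (NearFibre.fibreSec f F hF.1 hW y 1)
    h1 g q H ((LiftSection.epsIso g (f ⁻¹ᵁ W).ι F).inv.app ⊤ t0)
  obtain ⟨m, rfl⟩ := toR_surjective f s
  refine ⟨a, m, ha, ?_⟩
  have h2 := congrArg ((LiftSection.epsIso g (f ⁻¹ᵁ W).ι F).hom.app ⊤) hs
  rw [hscal a]
  refine (eps_toR f g m).symm.trans (h2.trans ?_)
  refine (Scheme.Modules.Hom.app_smul _ _ _).trans ?_
  congr 1
  have h3 : ((LiftSection.epsIso g (f ⁻¹ᵁ W).ι F).inv ≫ (LiftSection.epsIso g (f ⁻¹ᵁ W).ι F).hom).app ⊤ t0 = t0 := by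
    rw [Iso.inv_hom_id]
    rfl
  exact h3

omit [IsProper f] [IsLocallyNoetherian Y] in
theorem toR_smul {M : X.Modules} (a : Γ(Y, W)) (m : Γ(M, f ⁻¹ᵁ W)) :
    letI : (f ⁻¹ᵁ W).toScheme.Over (Spec (CommRingCat.of Γ(Y, W))) := ⟨strMap f hW⟩
    toR f ((show Γ(X, f ⁻¹ᵁ W) from f.app W a) • m) =
      algSec Γ(Y, W) (⊤ : (f ⁻¹ᵁ W).toScheme.Opens) a • toR f m := by
  let _ : (f ⁻¹ᵁ W).toScheme.Over (Spec (CommRingCat.of Γ(Y, W))) := ⟨strMap f hW⟩
  rw [toR, LocGen.res_smul, toRestrict_smul]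
  refine congrArg (fun z => z • toR f m) ?_
  have h1 := LiftSection.key_appLE f hW (K := Γ(Y, W)) (𝟙 (f ⁻¹ᵁ W).toScheme) (strMap f hW) (by
    rw [Category.id_comp]
    have : CommRingCat.ofHom (algebraMap Γ(Y, W) Γ(Y, W)) = 𝟙 (CommRingCat.of Γ(Y, W)) := rfl
    rw [this, Spec.map_id, Category.comp_id]) a ⊤ (by
      rw [Category.id_comp]
      intro z _
      exact z.2)
  refine Eq.trans ?_ h1
  rw [Scheme.Hom.appIso_hom']
  have h2 : X.presheaf.map (homOfLE (show (f ⁻¹ᵁ W).ι ''ᵁ ⊤ ≤ f ⁻¹ᵁ W by rw [Scheme.Opens.ι_image_top])).op ≫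
      (f ⁻¹ᵁ W).ι.appLE ((f ⁻¹ᵁ W).ι ''ᵁ ⊤) ⊤ ((f ⁻¹ᵁ W).ι.preimage_image_eq ⊤).ge =
      (𝟙 (f ⁻¹ᵁ W).toScheme ≫ (f ⁻¹ᵁ W).ι).appLE (f ⁻¹ᵁ W) ⊤ (by
      rw [Category.id_comp]
      intro z _
      exact z.2) := by
    rw [Scheme.Hom.map_appLE]
    simp only [Category.id_comp]
  exact congr(($h2).hom (f.app W a))

include hF hfl h1 H in
/-- Sections which vanish on the fibre. -/
theorem exists_mem (s : Γ(F, f ⁻¹ᵁ W)) (hs : fr f g hj s = 0) :
    ∃ (a : Γ(Y, W)) (n : ℕ) (c : Fin n → Γ(Y, W)) (z : Fin n → Γ(F, f ⁻¹ᵁ W)),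
      a ∉ (hW.primeIdealOf y).asIdeal ∧ (∀ j, c j ∈ (hW.primeIdealOf y).asIdeal) ∧
      (show Γ(X, f ⁻¹ᵁ W) from f.app W a) • s = ∑ j, (show Γ(X, f ⁻¹ᵁ W) from f.app W (c j)) • z j := by
  subst hj
  have hN : IsNoetherianRing Γ(Y, W) := IsLocallyNoetherian.component_noetherian ⟨W, hW⟩
  let iO : (f ⁻¹ᵁ W).toScheme.Over (Spec (CommRingCat.of Γ(Y, W))) := ⟨strMap f hW⟩
  have hpr : IsProper ((f ⁻¹ᵁ W).toScheme ↘ Spec (CommRingCat.of Γ(Y, W))) :=
    inferInstanceAs (IsProper ((f ∣_ W) ≫ hW.isoSpec.hom))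
  have hF' : Coh.IsCoh (F.restrict (f ⁻¹ᵁ W).ι) := Groth.Agent.CohqB.LocalQC.isCoh_restrict _ hF
  have hfl' : FlatMod.IsFlatOver ((f ⁻¹ᵁ W).toScheme ↘ Spec (CommRingCat.of Γ(Y, W)))
      (F.restrict (f ⁻¹ᵁ W).ι) := by
    refine FlatRestrict.isFlatOver_restrict f _ (f ⁻¹ᵁ W).ι hW.fromSpec ?_ F hfl
    change _ = ((f ∣_ W) ≫ hW.isoSpec.hom) ≫ hW.fromSpec
    rw [Category.assoc, IsAffineOpen.isoSpec_hom_fromSpec, morphismRestrict_ι]
  obtain ⟨e, -⟩ := NearFibre.fibreSec f F hF.1 hW y 1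
  have h0 : pullSec g (toR f s) = 0 := by
    have h3 := eps_toR f g s
    rw [hs] at h3
    have h4 := congrArg ((LiftSection.epsIso g (f ⁻¹ᵁ W).ι F).inv.app ⊤) h3
    have h5 : ((LiftSection.epsIso g (f ⁻¹ᵁ W).ι F).hom ≫ (LiftSection.epsIso g (f ⁻¹ᵁ W).ι F).inv).app ⊤
        (pullSec g (toR f s)) = pullSec g (toR f s) := by
      rw [Iso.hom_inv_id]
      rfl
    rw [map_zero] at h4
    exact h5.symm.trans h4
  obtain ⟨a, n, c, z, ha, hc, haz⟩ := KerFibre.exists_sec_mem (F.restrict (f ⁻¹ᵁ W).ι) hF' hfl'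
    (hW.primeIdealOf y).asIdeal e.symm.toEquiv.subsingleton H (toR f s) (by
      rw [LiftSection.sec_eq_pullSec, LocGen.res_refl]
      exact h0)
  choose m hm using fun j => toR_surjective f (z j)
  refine ⟨a, n, c, m, ha, hc, toR_injective f ?_⟩
  rw [toR_smul f hW, haz]
  have hsum : ∀ (T : Finset (Fin n)) (w : Fin n → Γ(F, f ⁻¹ᵁ W)), toR f (∑ j ∈ T, w j) = ∑ j ∈ T, toR f (w j) := by
    intro T w
    exact map_sum (AddMonoidHom.mk' (toR f) (toR_add f)) w T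
  rw [hsum]
  refine Finset.sum_congr rfl fun j _ => ?_
  rw [toR_smul f hW, hm]

end Fibre

/-- Nakayama for submodules of a finite module. -/
theorem eq_top_of_maximal {A Q : Type*} [CommRing A] [AddCommGroup Q] [Module A Q] [Module.Finite A Q]
    (T : Submodule A Q)
    (h : ∀ p : Ideal A, p.IsMaximal → ∀ t : Q, ∃ a : A, a ∉ p ∧ a • t ∈ T ⊔ p • (⊤ : Submodule A Q)) : T = ⊤ := by
  have hfg : (⊤ : Submodule A (Q ⧸ T)).FG := Module.Finite.fg_top
  have key : ∀ p : Ideal A, p.IsMaximal → (⊤ : Submodule A (Q ⧸ T)) ≤ p • ⊤ := by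
    intro p hp t _
    obtain ⟨t, rfl⟩ := T.mkQ_surjective t
    obtain ⟨a, ha, hat⟩ := h p hp t
    have h1 : a • T.mkQ t ∈ p • (⊤ : Submodule A (Q ⧸ T)) := by
      obtain ⟨u, hu, v, hv, huv⟩ := Submodule.mem_sup.1 hat
      rw [← map_smul, ← huv, map_add]
      have h2 : T.mkQ u = 0 := (Submodule.Quotient.mk_eq_zero T).2 hu
      rw [h2, zero_add]
      have h3 := Submodule.mem_map_of_mem (f := T.mkQ) hv
      rw [Submodule.map_smul''] at h3
      exact Submodule.smul_mono le_rfl le_top h3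
    obtain ⟨b, hb⟩ := hp.exists_inv ha
    obtain ⟨c, hc, hbc⟩ := hb
    have h4 : T.mkQ t = b • (a • T.mkQ t) + c • T.mkQ t := by
      rw [smul_smul, ← add_smul, hbc, one_smul]
    rw [h4]
    exact Submodule.add_mem _ (Submodule.smul_mem _ _ h1) (Submodule.smul_mem_smul hc trivial)
  have hann : Module.annihilator A (Q ⧸ T) = ⊤ := by
    by_contra hne
    obtain ⟨p, hp, hle⟩ := Ideal.exists_le_maximal _ hne
    obtain ⟨r, hr, hr0⟩ := Submodule.exists_sub_one_mem_and_smul_eq_zero_of_fg_of_le_smul p ⊤ hfg (key p hp)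
    have h5 : r ∈ p := hle (Module.mem_annihilator.2 fun x => hr0 x trivial)
    exact hp.ne_top ((Ideal.eq_top_iff_one p).2 (by
      have := p.sub_mem h5 hr
      simpa using this))
  have hsub : Subsingleton (Q ⧸ T) := Module.annihilator_eq_top_iff.1 hann
  exact Submodule.Quotient.subsingleton_iff.1 hsub

/-- The products of sections. -/
noncomputable def prods (L M : X.Modules) (U : X.Opens) : AddSubgroup Γ(CohB1.tensorMod L M, U) :=
  AddSubgroup.closure {t | ∃ (a : Γ(L, U)) (b : Γ(M, U)), t = tmul a b}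

theorem tmul_mem_prods {L M : X.Modules} {U : X.Opens} (a : Γ(L, U)) (b : Γ(M, U)) : tmul a b ∈ prods L M U :=
  AddSubgroup.subset_closure ⟨a, b, rfl⟩

theorem smul_mem_prods {L M : X.Modules} {U : X.Opens} (r : Γ(X, U)) {t : Γ(CohB1.tensorMod L M, U)}
    (ht : t ∈ prods L M U) : r • t ∈ prods L M U := by
  induction ht using AddSubgroup.closure_induction with
  | mem t h =>
    obtain ⟨a, b, rfl⟩ := h
    rw [← smul_tmul]
    exact tmul_mem_prods _ _
  | zero =>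
    rw [smul_zero]
    exact zero_mem _
  | add t t' _ _ h h' =>
    rw [smul_add]
    exact add_mem h h'
  | neg t _ h =>
    rw [smul_neg]
    exact neg_mem h

theorem normgen (f : X ⟶ Y) [IsProper f] [Flat f] [IsLocallyNoetherian Y] {L M : X.Modules}
    (hL : PicF.IsInvertible L) (hM : PicF.IsInvertible M) {W : Y.Opens} (hW : IsAffineOpen W)
    (h1L : ∀ y, Subsingleton (CohIII.fiberH f L y 1)) (h1M : ∀ y, Subsingleton (CohIII.fiberH f M y 1))
    (h1T : ∀ y, Subsingleton (CohIII.fiberH f (CohB1.tensorMod L M) y 1))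
    (hng : ∀ y, prods (CohIII.fiberMod f L y) (CohIII.fiberMod f M y) ⊤ = ⊤) :
    prods L M (f ⁻¹ᵁ W) = ⊤ := by
  have hLM := isInvertible_tensorMod hL hM
  have cL : Coh.IsCoh L := PerfA.CohSerre.isCoh_of_isFinLocFree (NearFibre.isFinLocFree_of_isInvertible hL)
  have cM : Coh.IsCoh M := PerfA.CohSerre.isCoh_of_isFinLocFree (NearFibre.isFinLocFree_of_isInvertible hM)
  have cLM : Coh.IsCoh (CohB1.tensorMod L M) :=
    PerfA.CohSerre.isCoh_of_isFinLocFree (NearFibre.isFinLocFree_of_isInvertible hLM)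
  have hfin : Module.Finite Γ(Y, W) Γ((Coh.push f).obj (CohB1.tensorMod L M), W) :=
    K269.PushCoh.finite_sections_push f _ cLM hW inferInstance
  let T : Submodule Γ(Y, W) Γ((Coh.push f).obj (CohB1.tensorMod L M), W) :=
    { carrier := {t | (show Γ(CohB1.tensorMod L M, f ⁻¹ᵁ W) from t) ∈ prods L M (f ⁻¹ᵁ W)}
      add_mem' := fun h h' => (prods L M (f ⁻¹ᵁ W)).add_mem h h'
      zero_mem' := (prods L M (f ⁻¹ᵁ W)).zero_mem
      smul_mem' := fun r t h => smul_mem_prods (f.app W r) h }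
  suffices h : T = ⊤ by
    refine top_le_iff.1 fun t _ => ?_
    have : (show Γ((Coh.push f).obj (CohB1.tensorMod L M), W) from t) ∈ T := h ▸ trivial
    exact this
  refine eq_top_of_maximal T fun p hp t => ?_
  have hpp : p.IsPrime := hp.isPrime
  let y : W := ⟨hW.fromSpec (⟨p, hpp⟩ : PrimeSpectrum Γ(Y, W)), SpecPoint.fromSpec_mem hW _⟩
  have hy : hW.primeIdealOf y = ⟨p, hpp⟩ := SpecPoint.primeIdealOf_fromSpec hW _
  obtain ⟨g, q, σ, hg, H, -⟩ := EtPoint.exists_square f hW y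
  have hyp : (hW.primeIdealOf y).asIdeal = p := by rw [hy]
  have hiso : IsIso (Grpsch.PicGrp.pullTensor (f.fiberι y.1) L M) := Grpsch.PicGrp.isIso_pullTensor _ hL hM
  have key : ∀ τ : Γ(CohB1.tensorMod (CohIII.fiberMod f L y.1) (CohIII.fiberMod f M y.1), ⊤),
      ∃ (a : Γ(Y, W)) (t' : Γ(CohB1.tensorMod L M, f ⁻¹ᵁ W)), a ∉ p ∧ t' ∈ prods L M (f ⁻¹ᵁ W) ∧
        (Grpsch.PicGrp.pullTensor (f.fiberι y.1) L M).app ⊤ (fr f g hg t') = scal f g hg a • τ := by
    intro τ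
    have hτ : τ ∈ prods (CohIII.fiberMod f L y.1) (CohIII.fiberMod f M y.1) ⊤ := by
      rw [hng]
      trivial
    induction hτ using AddSubgroup.closure_induction with
    | mem τ h =>
      obtain ⟨a, b, rfl⟩ := h
      obtain ⟨r, a', hr, hra⟩ := exists_lift f g hg hW y q H L cL
        (NearFibre.isFlatOver_of_isInvertible f hL) (h1L _) a
      obtain ⟨s, b', hs, hsb⟩ := exists_lift f g hg hW y q H M cM
        (NearFibre.isFlatOver_of_isInvertible f hM) (h1M _) b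
      rw [hyp] at hr hs
      refine ⟨r * s, tmul a' b', fun h => (hpp.mem_or_mem h).elim hr hs, tmul_mem_prods _ _, ?_⟩
      have h2 := Grpsch.PicGrp.pullTensor_app (f.fiberι y.1) a' b'
      have h3 : (Grpsch.PicGrp.pullTensor (f.fiberι y.1) L M).app ⊤ (fr f g hg (tmul a' b')) =
          tmul (fr f g hg a') (fr f g hg b') := by
        rw [fr, app_res, h2, res_tmul]
        rfl
      rw [h3, hra, hsb, smul_tmul, tmul_smul, smul_smul]
      congr 1
      exact (map_mul ((ores (top_le f g hg)).comp (((f.fiberι y.1).app (f ⁻¹ᵁ W)).hom.comp (f.app W).hom)) r s).symm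
    | zero =>
      refine ⟨1, 0, fun h => hp.ne_top ((Ideal.eq_top_iff_one p).2 h), zero_mem _, ?_⟩
      have h0 : fr f g hg (0 : Γ(CohB1.tensorMod L M, f ⁻¹ᵁ W)) = 0 := by
        have := fr_add f g hg (0 : Γ(CohB1.tensorMod L M, f ⁻¹ᵁ W)) 0
        rw [add_zero] at this
        exact left_eq_add.1 this
      rw [h0, map_zero, smul_zero]
    | add τ τ' _ _ h h' =>
      obtain ⟨a, t, ha, ht, hat⟩ := h
      obtain ⟨a', t', ha', ht', hat'⟩ := h'
      refine ⟨a' * a, (show Γ(X, f ⁻¹ᵁ W) from f.app W a') • t + (show Γ(X, f ⁻¹ᵁ W) from f.app W a) • t',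
        fun h => (hpp.mem_or_mem h).elim ha' ha, add_mem (smul_mem_prods _ ht) (smul_mem_prods _ ht'), ?_⟩
      have hm : ∀ b c : Γ(Y, W), scal f g hg (b * c) = scal f g hg b * scal f g hg c := fun b c =>
        map_mul ((ores (top_le f g hg)).comp (((f.fiberι y.1).app (f ⁻¹ᵁ W)).hom.comp (f.app W).hom)) b c
      rw [fr_add, fr_smul, fr_smul, map_add, Scheme.Modules.Hom.app_smul, Scheme.Modules.Hom.app_smul, hat, hat',
        smul_smul, smul_smul, smul_add, hm, mul_comm (scal f g hg a)]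
    | neg τ _ h =>
      obtain ⟨a, t, ha, ht, hat⟩ := h
      refine ⟨a, -t, ha, neg_mem ht, ?_⟩
      have h0 : fr f g hg (-t) = - fr f g hg t := by
        exact map_neg (AddMonoidHom.mk' (fr f g hg) (fr_add f g hg)) t
      rw [h0, map_neg, hat, smul_neg]
  obtain ⟨a, t', ha, ht', hat⟩ := key ((Grpsch.PicGrp.pullTensor (f.fiberι y.1) L M).app ⊤
    (fr f g hg (show Γ(CohB1.tensorMod L M, f ⁻¹ᵁ W) from t)))
  let u : Γ(CohB1.tensorMod L M, f ⁻¹ᵁ W) := (show Γ(X, f ⁻¹ᵁ W) from f.app W a) •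
    (show Γ(CohB1.tensorMod L M, f ⁻¹ᵁ W) from t) + -t'
  have hneg : fr f g hg (-t') = - fr f g hg t' := map_neg (AddMonoidHom.mk' (fr f g hg) (fr_add f g hg)) t'
  have hu : fr f g hg u = 0 := by
    have h1 : (Grpsch.PicGrp.pullTensor (f.fiberι y.1) L M).app ⊤ (fr f g hg u) = 0 := by
      rw [fr_add, fr_smul, hneg, map_add, map_neg, hat, Scheme.Modules.Hom.app_smul, add_neg_cancel]
    have h2 : ((Grpsch.PicGrp.pullTensor (f.fiberι y.1) L M) ≫
        inv (Grpsch.PicGrp.pullTensor (f.fiberι y.1) L M)).app ⊤ (fr f g hg u) = fr f g hg u := by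
      rw [IsIso.hom_inv_id]
      rfl
    rw [← h2]
    change (inv (Grpsch.PicGrp.pullTensor (f.fiberι y.1) L M)).app ⊤
      ((Grpsch.PicGrp.pullTensor (f.fiberι y.1) L M).app ⊤ (fr f g hg u)) = 0
    rw [h1, map_zero]
  obtain ⟨b, n, c, z, hb, hc, hbc⟩ := exists_mem f g hg hW y q H (CohB1.tensorMod L M) cLM
        (NearFibre.isFlatOver_of_isInvertible f hLM) (h1T _) u hu
  rw [hyp] at hb
  refine ⟨b * a, fun h => (hpp.mem_or_mem h).elim hb ha, ?_⟩
  have h3 : (b * a) • t = b • (show Γ((Coh.push f).obj (CohB1.tensorMod L M), W) from t') +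
      ∑ j, c j • (show Γ((Coh.push f).obj (CohB1.tensorMod L M), W) from z j) := by
    have h4 : b • (show Γ((Coh.push f).obj (CohB1.tensorMod L M), W) from u) =
      ∑ j, c j • (show Γ((Coh.push f).obj (CohB1.tensorMod L M), W) from z j) := hbc
    have h5 : (show Γ((Coh.push f).obj (CohB1.tensorMod L M), W) from u) =
      a • t + -(show Γ((Coh.push f).obj (CohB1.tensorMod L M), W) from t') := rfl
    rw [← h4, h5, smul_add, smul_neg, smul_smul]
    abel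
  rw [h3]
  refine Submodule.add_mem_sup (T.smul_mem b ht') (Submodule.sum_mem _ fun j _ => ?_)
  exact Submodule.smul_mem_smul (hyp ▸ hc j) trivial

/-- `f_* F` is finite locally free if `F` is flat over the base and `H^1` of the fibres vanishes. -/
theorem isFinLocFree_push (f : X ⟶ Y) [IsProper f] [IsLocallyNoetherian Y]
    (F : X.Modules) (hF : Coh.IsCoh F) (hfl : FlatMod.IsFlatOver f F)
    (h1 : ∀ y : Y, Subsingleton (CohIII.fiberH f F y 1)) :
    FlatMod.IsFinLocFree ((Scheme.Modules.pushforward f).obj F) := by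
  have := Dcoh.DerSch.hasInjectiveResolutions X
  have hq : Coh.IsQCoh ((Coh.Rpush f 0).obj F) := by
    have : Coh.IsQCoh F := hF.1
    exact Groth.Agent.S0030.result f F 0
  have e0 : (Coh.Rpush f 0).obj F ≅ (Scheme.Modules.pushforward f).obj F :=
    ((Scheme.Modules.pushforward f).rightDerivedZeroIsoSelf).app F
  have key : ∀ y : Y, ∃ U : Y.Opens, y ∈ U ∧ ∃ n, Nonempty
      (((Scheme.Modules.pushforward f).obj F).restrict U.ι ≅ FlatMod.freeMod (↑U) n) := by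
    intro y
    obtain ⟨V, hV, hyV⟩ := Ega3B.SpecPoint.exists_affine_nhd y
    have := Ega3B.SpecPoint.isNoetherianRing hV
    obtain ⟨P, hP, ⟨b, hb⟩, hG, hr⟩ := Ega3B.Package.package f F hF hfl V hV
    have hz1 : ∀ x, CohIII.dRank P 1 x = 0 := fun x =>
      Ega3B.SplitCx.dRank_eq_zero_of_isZero P 1 (hb 1 (Or.inr (by norm_num))) x
    have hzm : ∀ x, CohIII.dRank P (-1) x = 0 := by
      intro x
      have e1 := (hr ⟨hV.fromSpec x, Ega3B.SpecPoint.fromSpec_mem hV x⟩ 1).2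
      rw [Ega3B.SpecPoint.primeIdealOf_fromSpec] at e1
      have h2 : CohIII.dRank P (-((1 : ℕ) : ℤ)) x = 0 := by
        rw [← e1]
        have := h1 (hV.fromSpec x)
        exact Module.finrank_zero_of_subsingleton
      exact h2
    obtain ⟨h1, h2, h3⟩ := Ega3B.SplitCx.flat_homology_of_adjacent P hP (-((0 : ℕ) : ℤ))
      (by simpa using hz1) (by simpa using hzm)
    obtain ⟨e⟩ := hG 0
    obtain ⟨U, hyU, ⟨e2⟩⟩ := Ega3B.SpecPoint.exists_restrict_iso hV _ hq _ e h1 h2 ⟨y, hyV⟩ _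
      ((h3 _).trans (hr ⟨y, hyV⟩ 0).2.symm)
    exact ⟨U, hyU, _, ⟨(Scheme.Modules.restrictFunctor U.ι).mapIso e0.symm ≪≫ e2⟩⟩
  intro y
  obtain ⟨U, hU, n, e⟩ := key y
  exact ⟨U, n, hU, e⟩

end K946.NormGen
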