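import Groth.Agent.BSB.K946.RZ
import Groth.Agent.BSB.K946.ContrVan
import Groth.Agent.BSB.K946.UnifTwo
import Groth.Agent.Ega3B.RpushOne
import Groth.Agent.Ega3B.SecHom
import Groth.Agent.Ega3B.SerreTwist
import Groth.Agent.FormalB.PullCoh
import Groth.Agent.Ega3B.TensRestrict
import Groth.Prelude.Def_LCI2
import Groth.Agent.VarietyA.LerayEuler

/-!
# `R¹ π_* G = 0` from the vanishing of `H¹(X, G ⊗ π^* M^k)` for large `k`
-/

set_option autoImplicit false
universe u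
open CategoryTheory CategoryTheory.Limits AlgebraicGeometry Opposite TopologicalSpace
open Groth.Agent.Fdesc.LocGen Groth.Agent

namespace K946.VanTwist

variable {X Y : Scheme.{u}}

open Ega3B.RpushAbCmp in
/-- Global sections of `R¹` vanish if `H¹(X, G) = 0` and `H²(Y, π_* G) = 0`. -/
theorem subsingleton_sections (π : X ⟶ Y) [HasInjectiveResolutions X.Modules] (G : X.Modules)
    (h1 : Subsingleton (Coh.HH X G 1)) (h2 : Subsingleton (Coh.HH Y ((Coh.push π).obj G) 2)) :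
    Subsingleton Γ((Coh.Rpush π 1).obj G, ⊤) := by
  have := enoughInjectives_of_hasInjectiveResolutions (C := X.Modules)
  have hT := shortExact_injSeq G
  have hinj : Injective (injSeq G).X₂ := inferInstanceAs (Injective (Injective.under G))
  obtain ⟨e⟩ := Etcore.DerLES.nonempty_iso_one_of_injective (Scheme.Modules.pushforward π) hT
  have hmono : Mono (injSeq G).f := hT.mono_f
  have hex : ((injSeq G).map (Scheme.Modules.pushforward π)).Exact :=
    hT.exact.map_of_mono_of_preservesKernel (Scheme.Modules.pushforward π) inferInstance inferInstance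
  let φ := (Scheme.Modules.pushforward π).map (injSeq G).g
  have hfl := Ega3B.InjMod.isFlasque_of_injective (injSeq G).X₂
  have hfl' := VarietyA.LerayEuler.isFlasque_pushforward π (injSeq G).X₂ hfl
  have hI := VarietyA.LerayEuler.subsingleton_HH_of_isFlasque _ hfl' 0
  -- the first sequence
  let T₁ : ShortComplex Y.Modules := ShortComplex.mk ((Scheme.Modules.pushforward π).map (injSeq G).f)
    (Abelian.factorThruImage φ) (by
      rw [← cancel_mono (Abelian.image.ι φ), Category.assoc, Abelian.image.fac, zero_comp]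
      exact ((injSeq G).map (Scheme.Modules.pushforward π)).zero)
  let τ : T₁ ⟶ (injSeq G).map (Scheme.Modules.pushforward π) :=
    { τ₁ := 𝟙 _, τ₂ := 𝟙 _, τ₃ := Abelian.image.ι φ
      comm₁₂ := (Category.id_comp ((Scheme.Modules.pushforward π).map (injSeq G).f)).trans
        (Category.comp_id ((Scheme.Modules.pushforward π).map (injSeq G).f)).symm
      comm₂₃ := (Category.id_comp φ).trans (Abelian.image.fac φ).symm }
  have hT₁ : T₁.ShortExact :=
    { exact := by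
        have i1 : Epi τ.τ₁ := inferInstanceAs (Epi (𝟙 _))
        have i2 : IsIso τ.τ₂ := inferInstanceAs (IsIso (𝟙 _))
        have i3 : Mono τ.τ₃ := inferInstanceAs (Mono (Abelian.image.ι φ))
        exact (ShortComplex.exact_iff_of_epi_of_isIso_of_mono τ).2 hex
      mono_f := inferInstanceAs (Mono ((Scheme.Modules.pushforward π).map (injSeq G).f))
      epi_g := inferInstanceAs (Epi (Abelian.factorThruImage φ)) }
  have hB : Subsingleton (Coh.HH Y (Abelian.image φ) 1) :=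
    CohqA.UnifVan.subsingleton_right hT₁ 1 hI h2
  -- the second sequence
  let T₂ : ShortComplex Y.Modules := ShortComplex.mk (Abelian.image.ι φ) (cokernel.π φ)
    (kernel.condition (cokernel.π φ))
  have hT₂ : T₂.ShortExact :=
    { exact := (ShortComplex.mk φ (cokernel.π φ) (cokernel.condition φ)).exact_iff_exact_image_ι.1
        (ShortComplex.exact_cokernel φ)
      mono_f := inferInstanceAs (Mono (Abelian.image.ι φ))
      epi_g := inferInstanceAs (Epi (cokernel.π φ)) }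
  have hs₂ := Ega3B.SecHom.surjective_app_top hT₂ hB
  have hs := Ega3B.SecHom.surjective_app_top hT h1
  have hzero : ∀ z : Γ(cokernel φ, ⊤), z = 0 := by
    intro z
    obtain ⟨y, rfl⟩ := hs₂ z
    obtain ⟨w, hw⟩ := hs y
    have h3 : (φ ≫ cokernel.π φ).app ⊤ (w :) = 0 := by
      rw [cokernel.condition]
      rfl
    have h4 : φ.app ⊤ (w :) = y := hw
    rw [← h4]
    exact h3
  have hsub : Subsingleton Γ(cokernel φ, ⊤) := subsingleton_of_forall_eq 0 hzero
  refine subsingleton_of_forall_eq 0 fun z => ?_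
  have h5 : e.inv.app ⊤ (e.hom.app ⊤ z) = z := Ega2.TensPow.symm_app_app e z
  rw [← h5, Subsingleton.elim (e.hom.app ⊤ z) 0, map_zero]

/-- `R¹ π_* G = 0` if `H¹(X, G ⊗ (π^* M)^k) = 0` for large `k`, `M` ample on `Y`. -/
theorem rz_one {A : Type u} [CommRing A] [IsNoetherianRing A] (g : Y ⟶ Spec (CommRingCat.of A)) [IsProper g]
    (π : X ⟶ Y) [IsProper π] {M : Y.Modules} (hM : CohB1.IsAmple M) {G : X.Modules} (hG : Coh.IsCoh G)
    (h : ∃ k₀ : ℕ, ∀ k, k₀ ≤ k → Subsingleton (Coh.HH X (CohB1.tensorMod G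
      (CohB1.tensorPow ((Scheme.Modules.pullback π).obj M) k)) 1)) : RZ π G 1 := by
  have := Dcoh.DerSch.hasInjectiveResolutions X
  have hY : IsLocallyNoetherian Y := LocallyOfFiniteType.isLocallyNoetherian g
  have hX : IsLocallyNoetherian X := LocallyOfFiniteType.isLocallyNoetherian π
  obtain ⟨k₀, hk₀⟩ := h
  obtain ⟨k₁, hk₁⟩ := (S0051.result A Y g M hM.1).1 hM ((Coh.push π).obj G) (ContrVan.isCoh_push π hG)
  have hRc : Coh.IsCoh ((Coh.Rpush π 1).obj G) := S0036.result π G hG 1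
  obtain ⟨k₂, hk₂⟩ := Ega2.AmpleGlobGen.exists_globGen hM hRc
  let k := max k₀ (max k₁ k₂)
  have e0 : k₀ ≤ k := le_max_left _ _
  have e1 : k₁ ≤ k := (le_max_left _ _).trans (le_max_right _ _)
  have e2 : k₂ ≤ k := (le_max_right _ _).trans (le_max_right _ _)
  have h1 := hk₀ k e0
  have h2 := hk₁ k e1 2 (by norm_num)
  obtain ⟨a₁⟩ := CohqB.FinAmple.nonempty_push_tw π hM.1 G k
  have h2' := CohqA.UnifVan.subsingleton_of_iso a₁ 2 h2
  have h3 := subsingleton_sections π _ h1 h2'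
  obtain ⟨a₂⟩ := CohqB.FinAmple.nonempty_pullback_tensorPow π hM.1 k
  obtain ⟨a₃⟩ := S0927.result π G (CohB1.tensorPow M k)
    (Ega2.QCohLocal.isFinLocFree_of_rank (Ega2.QCohLocal.isFinLocFreeOfRank_one_iff.mpr
      (isInvertible_tensorPow hM.1 k))) 1
  have a₄ : CohB1.tensorMod ((Coh.Rpush π 1).obj G) (CohB1.tensorPow M k) ≅
      (Coh.Rpush π 1).obj (CohB1.tensorMod G (CohB1.tensorPow ((Scheme.Modules.pullback π).obj M) k)) :=
    Ega2.Tens.swap _ _ ≪≫ a₃ ≪≫ (Coh.Rpush π 1).mapIso (Ega2.Tens.swap _ _ ≪≫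
      Ega2.Tens.mapTIso (Iso.refl _) a₂)
  have h4 : IsZero (CohB1.tensorMod ((Coh.Rpush π 1).obj G) (CohB1.tensorPow M k)) := by
    refine Ega3B.SerreTwist.isZero_of_isGloballyGenerated (hk₂ k e2) (subsingleton_of_forall_eq 0 fun z => ?_)
    have h5 : a₄.inv.app ⊤ (a₄.hom.app ⊤ z) = z := Ega2.TensPow.symm_app_app a₄ z
    rw [← h5, Subsingleton.elim (h := h3) (a₄.hom.app ⊤ z) 0, map_zero]
  exact RZ.of_isZero π hG.1 (Ega3B.SerreTwist.isZero_of_isZero_tensor (isInvertible_tensorPow hM.1 k) h4)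

/-- `R^q ψ_* F = 0` is local on the target. -/
theorem RZ_of_cover {ψ : X ⟶ Y} [QuasiCompact ψ] [QuasiSeparated ψ] {F : X.Modules} (hF : Coh.IsQCoh F) {q : ℕ}
    {κ : Type*} (W : κ → Y.Opens) (hW : ∀ y, ∃ i, y ∈ W i)
    (h : ∀ i, RZ (ψ ∣_ W i) (F.restrict (ψ ⁻¹ᵁ W i).ι) q) : RZ ψ F q := by
  have := Dcoh.DerSch.hasInjectiveResolutions X
  refine RZ.of_isZero ψ hF ?_
  choose i hi using hW
  choose V hV hyV hVW using fun y => exists_isAffineOpen_mem_and_subset (x := y) (U := W (i y)) (hi y)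
  refine (Ega3B.RpushAff.isZero_iff_cover ψ F hF V hV
    (top_le_iff.1 fun y _ => Opens.mem_iSup.2 ⟨y, hyV y⟩) q).2 fun y => ?_
  have hle : V y ≤ W (i y) := hVW y
  have haff : IsAffineOpen ((W (i y)).ι ⁻¹ᵁ V y) :=
    (hV y).preimage_of_isOpenImmersion _ (by rwa [Scheme.Opens.opensRange_ι])
  have h1 := (h (i y)).HU haff
  have h2 := (CohqA.HOpen.HUEquiv (ψ ⁻¹ᵁ W (i y)).ι F ((ψ ∣_ W (i y)) ⁻¹ᵁ ((W (i y)).ι ⁻¹ᵁ V y))
    q).toEquiv.subsingleton_congr.2 h1
  rw [image_morphismRestrict_preimage, Scheme.Hom.image_preimage_eq_opensRange_inf, Scheme.Opens.opensRange_ι,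
    inf_eq_right.2 hle] at h2
  exact (CohqA.HOpen.HHonEquiv F (ψ ⁻¹ᵁ V y) q).toEquiv.subsingleton_congr.1 h2

/-- relative version of `rz_one`. -/
theorem rz_one_rel {S : Scheme.{u}} [IsLocallyNoetherian S] (q : Y ⟶ S) [IsProper q] (π : X ⟶ Y) [IsProper π]
    {M : Y.Modules} (hM : RelAmple.IsRelAmple q M) {G : X.Modules} (hG : Coh.IsCoh G)
    (h : ∀ U : S.affineOpens, ∃ k₀ : ℕ, ∀ k, k₀ ≤ k → Subsingleton (Coh.HHon X (CohB1.tensorMod G
      (CohB1.tensorPow ((Scheme.Modules.pullback π).obj M) k)) (π ⁻¹ᵁ (q ⁻¹ᵁ U.1)) 1)) : RZ π G 1 := by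
  have hY : IsLocallyNoetherian Y := LocallyOfFiniteType.isLocallyNoetherian q
  have hX : IsLocallyNoetherian X := LocallyOfFiniteType.isLocallyNoetherian π
  refine RZ_of_cover hG.1 (fun U : S.affineOpens => q ⁻¹ᵁ U.1) (fun y => ?_) fun U => ?_
  · obtain ⟨U, hU, hy, -⟩ := exists_isAffineOpen_mem_and_subset (x := q y) (U := ⊤) trivial
    exact ⟨⟨U, hU⟩, hy⟩
  have hR : IsNoetherianRing Γ(S, U.1) := IsLocallyNoetherian.component_noetherian U
  have hπ : IsProper (π ∣_ (q ⁻¹ᵁ U.1)) := inferInstance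
  obtain ⟨k₀, hk₀⟩ := h U
  refine rz_one (A := Γ(S, U.1)) ((q ∣_ U.1) ≫ U.2.isoSpec.hom) (π ∣_ (q ⁻¹ᵁ U.1)) (hM.2 U)
    (CohqB.LocalQC.isCoh_restrict _ hG) ⟨k₀, fun k hk => ?_⟩
  obtain ⟨e⟩ := Ega3B.TensRestrict.restrictPowIso (π ⁻¹ᵁ (q ⁻¹ᵁ U.1)).ι ((Scheme.Modules.pullback π).obj M) k
  refine CohqA.UnifVan.subsingleton_of_iso ?_ 1 (hk₀ k hk)
  exact Ega3B.TensRestrict.restrictIso (π ⁻¹ᵁ (q ⁻¹ᵁ U.1)).ι _ _ ≪≫ Ega2.Tens.mapTIso (Iso.refl _)
    (e ≪≫ Ega2.TensPow.powIso ((FormalB.PullCoh.restrictPullbackIso π (q ⁻¹ᵁ U.1)).app M).symm k)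

end K946.VanTwist
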