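import Groth.Agent.BSB.K946.ClosedJ
import Groth.Agent.BSB.K946.CoreVan
import Groth.Agent.BSB.K946.VanTwist
import Groth.Agent.BSB.K946.FlatBase
import Groth.Agent.Dix.IdealModCartier
import Groth.Agent.Models.TrivGeom
import Groth.Agent.S2331
import Groth.Agent.S2333
import Groth.Agent.S4387
import Groth.Agent.S4384
import Groth.Agent.S4427

/-!
# The contraction and the closed immersion of the centre
-/

set_option autoImplicit false
universe u
open CategoryTheory CategoryTheory.Limits AlgebraicGeometry Opposite TopologicalSpace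
open Groth.Agent.Fdesc.LocGen Groth.Agent Groth.Agent.Grpsch.PicGrp

namespace K946.Setup

variable {X S : Scheme.{u}}

/-- The module on the total space. -/
noncomputable abbrev Lm (L0 OE : X.Modules) (m : ℕ) : X.Modules := CohB1.tensorMod L0 (CohB1.tensorPow OE m)

/-- The module on the divisor. -/
noncomputable abbrev LEm {E : Scheme.{u}} (i : E ⟶ X) (L0 OE : X.Modules) (m : ℕ) : E.Modules :=
  CohB1.tensorMod ((Scheme.Modules.pullback i).obj L0) (CohB1.tensorPow ((Scheme.Modules.pullback i).obj OE) m)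

section cls

variable {L0 OE : X.Modules} (hL0i : PicF.IsInvertible L0) (hOEi : PicF.IsInvertible OE) (m : ℕ)

include hL0i hOEi in
theorem inv_Lm : PicF.IsInvertible (Lm L0 OE m) := isInvertible_tensorMod hL0i (isInvertible_tensorPow hOEi m)

include hL0i hOEi in
theorem inv_LEm {E : Scheme.{u}} (i : E ⟶ X) : PicF.IsInvertible (LEm i L0 OE m) :=
  isInvertible_tensorMod (isInvertible_pullback i hL0i) (isInvertible_tensorPow (isInvertible_pullback i hOEi) m)

theorem mk_Lm : mk _ (inv_Lm hL0i hOEi m) = mk L0 hL0i * mk OE hOEi ^ m := by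
  rw [← mk_mul_mk hL0i (isInvertible_tensorPow hOEi m), mk_tensorPow hOEi]

theorem mk_LEm {E : Scheme.{u}} (i : E ⟶ X) :
    mk _ (inv_LEm hL0i hOEi m i) = pull i (mk _ (inv_Lm hL0i hOEi m)) := by
  rw [mk_Lm hL0i hOEi, map_mul, map_pow, pull_mk i hL0i, pull_mk i hOEi,
      ← mk_mul_mk (isInvertible_pullback i hL0i) (isInvertible_tensorPow (isInvertible_pullback i hOEi) m),
      mk_tensorPow (isInvertible_pullback i hOEi)]

end cls

theorem grp_aux {T : Type*} [CommGroup T] (a b : T) (m s n : ℕ) :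
    a ^ (s * n) * (((a * b⁻¹ ^ m) ^ s)⁻¹) ^ n = b ^ (m * s * n) := by
  have h : ((a * b⁻¹ ^ m) ^ s) ^ n = a ^ (s * n) * (b ^ (m * s * n))⁻¹ := by
    rw [← pow_mul, mul_pow, inv_pow, inv_pow, ← pow_mul, mul_assoc]
  rw [inv_pow, h, mul_inv, inv_inv, mul_inv_cancel_left]

section Y

variable [IsLocallyNoetherian S] {f : X ⟶ S} [IsProper f]
  {L0 : X.Modules} (hL0i : PicF.IsInvertible L0) (hL0a : RelAmple.IsRelAmple f L0)
  {I : X.IdealSheafData} (hIi : PicF.IsInvertible (ClSub.idealMod I))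
  {OE : X.Modules} (hOEi : PicF.IsInvertible OE) (hOE : ClSub.IsInverseOf OE (ClSub.idealMod I))
  {m : ℕ} (hm : 0 < m)
  {F : Scheme.{u}} {g : F ⟶ S} [IsProper g] {ψ : ↑(I.subscheme) ⟶ F} [IsProper ψ] (hψg : ψ ≫ g = I.subschemeι ≫ f)
  {G : F.Modules} (hGi : PicF.IsInvertible G) (hGa : RelAmple.IsRelAmple g G) {r : ℕ} (hr : 0 < r)
  (eG : Nonempty ((Scheme.Modules.pullback ψ).obj G ≅ CohB1.tensorPow (LEm I.subschemeι L0 OE m) r))
  (hR : ∀ n, 1 ≤ n → RZ ψ (CohB1.tensorPow ((Scheme.Modules.pullback I.subschemeι).obj (ClSub.idealMod I)) n) 1)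
  {Y : Scheme.{u}} {q : Y ⟶ S} [IsProper q] {π : X ⟶ Y} (hπq : π ≫ q = f)
  {M : Y.Modules} (hMi : PicF.IsInvertible M) (hMa : RelAmple.IsRelAmple q M) {s : ℕ} (hs : 0 < s)
  (e : Nonempty ((Scheme.Modules.pullback π).obj M ≅ CohB1.tensorPow (Lm L0 OE m) s))

include hL0i hL0a hIi hOEi hOE hm hψg hGi hGa hr eG hR hπq hMi hMa hs e in
/-- The first direct images of the powers of the ideal vanish. -/
theorem rz_pow (n : ℕ) (hn : 1 ≤ n) : RZ π (CohB1.tensorPow (ClSub.idealMod I) n) 1 := by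
  subst hπq
  have hπ : IsProper π := IsProper.of_comp π q
  have hLi := inv_Lm hL0i hOEi m
  have hLEi := inv_LEm hL0i hOEi m I.subschemeι
  have hMr : RelAmple.IsRelAmple q (CohB1.tensorPow M r) := (S4387.result q M hMi r hr).1 hMa
  have hGs : RelAmple.IsRelAmple g (CohB1.tensorPow G s) := (S4387.result g G hGi s hs).1 hGa
  obtain ⟨eG⟩ := eG
  obtain ⟨e⟩ := e
  refine VanTwist.rz_one_rel q π hMr (Models.TrivGeom.isCoh_of_isInvertible (isInvertible_tensorPow hIi n))
    fun U => ?_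
  obtain ⟨e1⟩ := (mk_eq_iff (isInvertible_pullback ψ (isInvertible_tensorPow hGi s))
    (isInvertible_tensorPow hLEi (r * s))).1 (by
      rw [← pull_mk ψ (isInvertible_tensorPow hGi s), mk_tensorPow hGi, map_pow, pull_mk ψ hGi,
        mk_congr (hM := isInvertible_tensorPow hLEi r) eG, mk_tensorPow hLEi, mk_tensorPow hLEi, pow_mul])
  obtain ⟨k₀, hk₀⟩ := CoreVan.core_van (π ≫ q) U.1 U.2 hL0i (hL0a.2 U) I hIi hOEi hOE hm g ψ hψg (hGs.2 U)
    (r := r * s) (Nat.mul_pos hr hs)
    ⟨(Groth.Agent.FormalB.PullCoh.restrictPullbackIso ψ (g ⁻¹ᵁ U.1)).app _ ≪≫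
      (Scheme.Modules.restrictFunctor (ψ ⁻¹ᵁ (g ⁻¹ᵁ U.1)).ι).mapIso e1⟩ (fun x => x ≤ 1)
      (fun _ _ h h' => h.trans h') 1 (fun n hn q h1 h2 => by
        obtain rfl : q = 1 := le_antisymm h2 h1
        exact hR n hn)
  refine ⟨max k₀ n, fun k hk => ?_⟩
  have h1 := hk₀ k ((le_max_left _ _).trans hk) n hn (by
    have h2 : n ≤ k := (le_max_right _ _).trans hk
    have h3 : 0 < m * (r * s) := Nat.mul_pos hm (Nat.mul_pos hr hs)
    calc n ≤ k := h2
      _ ≤ m * (r * s) * k := Nat.le_mul_of_pos_left _ h3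
      _ = m * (r * s * k) := by ring) 1 le_rfl le_rfl
  obtain ⟨e2⟩ := (mk_eq_iff (isInvertible_tensorMod (isInvertible_tensorPow hLi (r * s * k))
      (isInvertible_tensorPow hIi n)) (isInvertible_tensorMod (isInvertible_tensorPow hIi n)
      (isInvertible_tensorPow (isInvertible_pullback π (isInvertible_tensorPow hMi r)) k))).1 (by
        rw [← mk_mul_mk (isInvertible_tensorPow hLi (r * s * k)) (isInvertible_tensorPow hIi n),
          ← mk_mul_mk (isInvertible_tensorPow hIi n)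
            (isInvertible_tensorPow (isInvertible_pullback π (isInvertible_tensorPow hMi r)) k),
          mk_tensorPow hLi, mk_tensorPow (isInvertible_pullback π (isInvertible_tensorPow hMi r)),
          ← pull_mk π (isInvertible_tensorPow hMi r), mk_tensorPow hMi, map_pow, pull_mk π hMi,
          mk_congr (hM := isInvertible_tensorPow hLi s) e, mk_tensorPow hLi, mul_comm, ← pow_mul, ← pow_mul]
        congr 2
        ring)
  exact DivVan.HHon_of_iso e2 _ 1 h1

include hL0i hL0a hIi hOEi hOE hm hπq hMi hs e in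
/-- The ideal is ample relative to the contraction. -/
theorem relAmple_ideal [CompactSpace S] : RelAmple.IsRelAmple π (ClSub.idealMod I) := by
  subst hπq
  have hπ : IsProper π := IsProper.of_comp π q
  have : CompactSpace Y := QuasiCompact.compactSpace_of_compactSpace q
  have hLi := inv_Lm hL0i hOEi m
  obtain ⟨e⟩ := e
  have h0 : RelAmple.IsRelAmple π L0 := S2333.result π q L0 hL0a
  obtain ⟨M', hM'i, hM'⟩ := exists_mk ((mk M hMi)⁻¹)
  obtain ⟨n₀, -, hn₀⟩ := S2331.result π (𝟙 Y) L0 M' h0 (S4427.result Y M' hM'i)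
  let n := max n₀ 2
  have h1 := hn₀ n (le_max_left _ _)
  rw [Category.comp_id] at h1
  have hn2 : 2 ≤ n := le_max_right _ _
  have hsn : 2 ≤ s * n := hn2.trans (Nat.le_mul_of_pos_left n hs)
  obtain ⟨t, ht⟩ : ∃ t, s * n = t + 1 := ⟨s * n - 1, by omega⟩
  have h2 : RelAmple.IsRelAmple π (CohB1.tensorPow L0 t) := (S4387.result π L0 hL0i t (by omega)).1 h0
  have h3 := S4384.result π _ _ h2 h1
  rw [S4387.result π _ hIi (m * s * n) (Nat.mul_pos (Nat.mul_pos hm hs) (by omega))]
  have cOE : mk OE hOEi * mk (ClSub.idealMod I) hIi = 1 := CoreVan.inv_mul hOEi hIi hOE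
  have hT := isInvertible_tensorMod hL0i (isInvertible_pullback π (isInvertible_tensorPow hM'i n))
  obtain ⟨e2⟩ := (mk_eq_iff (isInvertible_tensorMod (isInvertible_tensorPow hL0i t) hT)
    (isInvertible_tensorPow hIi (m * s * n))).1 (by
      have h4 : mk OE hOEi = (mk (ClSub.idealMod I) hIi)⁻¹ := eq_inv_of_mul_eq_one_left cOE
      rw [← mk_mul_mk (isInvertible_tensorPow hL0i t) hT,
        ← mk_mul_mk hL0i (isInvertible_pullback π (isInvertible_tensorPow hM'i n)),
        ← pull_mk π (isInvertible_tensorPow hM'i n), mk_tensorPow hM'i, ← hM', map_pow, map_inv, pull_mk π hMi,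
        mk_congr (hM := isInvertible_tensorPow hLi s) e, mk_tensorPow hLi, mk_Lm hL0i hOEi, h4, mk_tensorPow hL0i,
        mk_tensorPow hIi, ← mul_assoc, ← pow_succ, ← ht]
      exact grp_aux _ _ _ _ _)
  exact K30.AmpleLoc.isRelAmple_of_iso e2 h3

include hL0i hL0a hIi hOEi hOE hm hψg hGi hGa hr eG hR hπq hMi hMa hs e in
/-- The closed immersion of the centre. -/
theorem exists_j (hψO : ∀ V : F.Opens, IsIso (ψ.app V)) (hπ : ∀ U : Y.Opens, IsIso (π.app U)) :
    ∃ j : F ⟶ Y, IsClosedImmersion j ∧ j ≫ q = g ∧ I.subschemeι ≫ π = ψ ≫ j := by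
  have hz := rz_pow hL0i hL0a hIi hOEi hOE hm hψg hGi hGa hr eG hR hπq hMi hMa hs e 1 le_rfl
  subst hπq
  have hπp : IsProper π := IsProper.of_comp π q
  have hLi := inv_Lm hL0i hOEi m
  have hLEi := inv_LEm hL0i hOEi m I.subschemeι
  have hMr : RelAmple.IsRelAmple q (CohB1.tensorPow M r) := (S4387.result q M hMi r hr).1 hMa
  have hGs : RelAmple.IsRelAmple g (CohB1.tensorPow G s) := (S4387.result g G hGi s hs).1 hGa
  obtain ⟨eG⟩ := eG
  obtain ⟨e⟩ := e
  obtain ⟨j, hj, hjq, hjψ⟩ := ClosedJ.exists_closed g q ψ hψO (I.subschemeι ≫ π) (by rw [hψg, Category.assoc])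
    (isInvertible_tensorPow hMi r) hMr (isInvertible_tensorPow hGi s) hGs (by
      rw [mk_tensorPow hGi, map_pow, pull_mk ψ hGi, mk_congr (hM := isInvertible_tensorPow hLEi r) eG,
        mk_tensorPow hLEi, mk_LEm hL0i hOEi, mk_tensorPow hMi, map_pow, pull_comp, pull_mk π hMi,
        mk_congr (hM := isInvertible_tensorPow hLi s) e, mk_tensorPow hLi, map_pow, ← pow_mul, ← pow_mul,
        mul_comm]) (fun W hW => by
      rw [Scheme.Hom.comp_app]
      have h1 : Subsingleton (Coh.HHon X (ClSub.idealMod I) (π ⁻¹ᵁ W) 1) :=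
        DivVan.HHon_of_iso (Ega2.TensPow.powOne _) _ 1 (hz W hW)
      have h2 := ClosedJ.surjective_app_of_h1 I (π ⁻¹ᵁ W) h1
      have h3 : Function.Surjective (π.app W) := ((ConcreteCategory.isIso_iff_bijective _).1 (hπ W)).2
      exact h2.comp h3)
  exact ⟨j, hj, hjq, hjψ.symm⟩

end Y

end K946.Setup
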