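import Groth.Agent.BSB.K946.GGRange
import Groth.Agent.BSB.K946.Setup
import Groth.Agent.BSB.K946.Comap
import Groth.Agent.Ega3B.PullTensor

/-!
# Globally generated powers on the total space and on the divisor
-/

set_option autoImplicit false
universe u
open CategoryTheory CategoryTheory.Limits AlgebraicGeometry Opposite TopologicalSpace
open Groth.Agent.Fdesc.LocGen Groth.Agent Groth.Agent.Grpsch.PicGrp

namespace K946.PartOne

open Ega2.Nv K946.IdPow K946.Setup K946.Comap PerfA.IdealModule VarietyB.RestrSeq CohqB.FiniteType2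

variable {X Z : Scheme.{u}}

theorem gg_restrict_iff {M : X.Modules} (hM : PicF.IsInvertible M) (U : X.Opens) :
    Curv2.IsGloballyGenerated (M.restrict U.ι) ↔ ∀ x ∈ U, ∃ σ : Γ(M, U), x ∈ nv M σ := by
  constructor
  · intro h x hx
    obtain ⟨σ, V, hV, hxV, hσ⟩ := exists_isGen_of_gg_restrict hM U h hx
    exact ⟨σ, (le_nv_iff M σ hV).2 hσ hxV⟩
  · intro h
    refine K660.Semi.gg_of_sections fun x => ?_
    obtain ⟨σ, hσ⟩ := h x.1 x.2
    have h0 : U.ι ''ᵁ ⊤ ≤ U := by rw [Scheme.Opens.ι_image_top]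
    have h0' : U ≤ U.ι ''ᵁ ⊤ := by rw [Scheme.Opens.ι_image_top]
    refine ⟨homOf (toRestrict U.ι (res M h0 σ)), ?_⟩
    rw [← Ega2.Ample.nv_eq_genLocus]
    have h1 := K42.VALoc.image_nv U.ι (res M h0 σ)
    rw [nv_res, inf_eq_right.2 ((nv_le _ _).trans h0')] at h1
    have h2 : x.1 ∈ U.ι ''ᵁ nv (M.restrict U.ι) (toRestrict U.ι (res M h0 σ)) := by rw [h1]; exact hσ
    obtain ⟨y, hy, hyx⟩ := h2
    have : y = x := Subtype.ext hyx
    exact this ▸ hy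

theorem nv_pullSec (f : Z ⟶ X) {M : X.Modules} (hM : PicF.IsInvertible M) {U : X.Opens} (σ : Γ(M, U)) :
    nv ((Scheme.Modules.pullback f).obj M) (pullSec f σ) = f ⁻¹ᵁ (nv M σ) := by
  have key : ∀ z ∈ f ⁻¹ᵁ U, ∃ V : Z.Opens, z ∈ V ∧ V ⊓ nv ((Scheme.Modules.pullback f).obj M) (pullSec f σ) =
      V ⊓ f ⁻¹ᵁ (nv M σ) := by
    intro z hz
    obtain ⟨W, e, hzW, he⟩ := (isInvertible_iff M).1 hM (f z)
    have hle : W ⊓ U ≤ U := inf_le_right
    have he' := he.res (inf_le_left : W ⊓ U ≤ W)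
    obtain ⟨a, ha⟩ := he'.exists_eq (res M hle σ)
    have h1 := nv_inf_of_eq_smul σ hle he' a ha
    have h2 := nv_inf_of_eq_smul (pullSec f σ) (f.preimage_mono hle) (he'.pullSec f)
      (f.app _ a) (by rw [res_pullSec f hle, ha, pullSec_smul])
    refine ⟨f ⁻¹ᵁ (W ⊓ U), ⟨hzW, hz⟩, ?_⟩
    rw [h2, ← Scheme.preimage_basicOpen, ← h1]
    rfl
  ext z
  constructor
  · intro hz
    obtain ⟨V, hzV, hV⟩ := key z (nv_le _ _ hz)
    have : z ∈ V ⊓ f ⁻¹ᵁ (nv M σ) := hV ▸ ⟨hzV, hz⟩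
    exact this.2
  · intro hz
    obtain ⟨V, hzV, hV⟩ := key z (f.preimage_mono (nv_le M σ) hz)
    have : z ∈ V ⊓ nv ((Scheme.Modules.pullback f).obj M) (pullSec f σ) := hV ▸ ⟨hzV, hz⟩
    exact this.2

theorem nv_iso {M N : X.Modules} (e : M ≅ N) {U : X.Opens} (σ : Γ(M, U)) : nv N (e.hom.app U σ) = nv M σ := by
  apply le_antisymm
  · rw [le_nv_iff M σ (nv_le _ _), ← isGen_app_iff e.hom, app_res]
    exact isGen_nv _ _
  · rw [le_nv_iff N _ (nv_le _ _), ← app_res, isGen_app_iff]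
    exact isGen_nv _ _

variable (I : X.IdealSheafData)

/-- The multiplication by the power of the ideal. -/
noncomputable def mu (E : X.Modules) (n : ℕ) : CohB1.tensorMod E (P I n) ⟶ E :=
  Ega2.Tens.mapT (𝟙 E) (pm I n) ≫ (Ega2.Tens.runit E).hom

theorem mu_tmul (E : X.Modules) (n : ℕ) {U : X.Opens} (a : Γ(E, U)) (b : Γ(P I n, U)) :
    (mu I E n).app U (tmul a b) = pv I n b • a := by
  have h1 : (Ega2.Tens.mapT (𝟙 E) (pm I n)).app U (tmul a b) = tmul a ((pm I n).app U b) :=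
    Ega2.TensPow.mapT_tmul _ _ a b
  refine (congrArg ((Ega2.Tens.runit E).hom.app U) h1).trans ?_
  exact Ega2.Tens.runit_hom_tmul (pv I n b) a

theorem basicOpen_val {W : X.Opens} {u : Γ(ClSub.idealMod I, W)}
    (hu : IsGen u) {x : X} (hx : x ∈ W) (hxE : x ∉ Set.range I.subschemeι) : x ∈ X.basicOpen (val I u) := by
  rw [Scheme.IdealSheafData.range_subschemeι] at hxE
  obtain ⟨V, hV, hxV, hVW'⟩ := exists_isAffineOpen_mem_and_subset (x := x) (U := W) hx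
  have hVW : V ≤ W := hVW'
  have h1 : x ∉ I.support := hxE
  rw [Scheme.IdealSheafData.mem_support_iff_of_mem (U := ⟨V, hV⟩) hxV, Scheme.mem_zeroLocus_iff] at h1
  push Not at h1
  obtain ⟨t, ht, hxt⟩ := h1
  obtain ⟨b, rfl⟩ := exists_val_eq I ⟨V, hV⟩ ht
  obtain ⟨c, hc⟩ := (hu.res hVW).exists_eq b
  have h2 : val I b = c * ores hVW (val I u) := by
    rw [hc, val_smul]
    exact congrArg (c * ·) (val_res I hVW u)
  have h3 : x ∈ X.basicOpen (c * ores hVW (val I u)) := h2 ▸ hxt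
  rw [Scheme.basicOpen_mul] at h3
  have h5 : X.basicOpen (ores hVW (val I u)) = V ⊓ X.basicOpen (val I u) :=
    Scheme.basicOpen_res _ _ (homOfLE hVW).op
  have h6 : x ∈ V ⊓ X.basicOpen (val I u) := h5 ▸ h3.2
  exact h6.2

theorem mem_nv_mu (hI : PicF.IsInvertible (ClSub.idealMod I)) {E : X.Modules} (hE : PicF.IsInvertible E) (n : ℕ)
    {U : X.Opens} (a : Γ(CohB1.tensorMod E (P I n), U)) {x : X} (hx : x ∈ nv _ a)
    (hxE : x ∉ Set.range I.subschemeι) : x ∈ nv E ((mu I E n).app U a) := by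
  obtain ⟨W0, w0, hxW0, hw0⟩ := (isInvertible_iff E).1 hE x
  obtain ⟨W1, u1, hxW1, hu1⟩ := (isInvertible_iff _).1 hI x
  have hxU : x ∈ U := nv_le _ _ hx
  let W := W0 ⊓ W1 ⊓ U
  have hWU : W ≤ U := inf_le_right
  have hW0 : W ≤ W0 := inf_le_left.trans inf_le_left
  have hW1 : W ≤ W1 := inf_le_left.trans inf_le_right
  have hw := hw0.res hW0
  have hu := hu1.res hW1
  have hg := hw.tmul (hu.pow n)
  obtain ⟨c, hc⟩ := hg.exists_eq (res _ hWU a)
  have h1 := nv_inf_of_eq_smul a hWU hg c hc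
  have h2 := nv_inf_of_eq_smul ((mu I E n).app U a) hWU hw (c * val I (res _ hW1 u1) ^ n) (by
    rw [← app_res, hc, Scheme.Modules.Hom.app_smul, mu_tmul, pv_pow, smul_smul])
  have h3 : x ∈ X.basicOpen c := h1 ▸ ⟨⟨⟨hxW0, hxW1⟩, hxU⟩, hx⟩
  have h4 : x ∈ X.basicOpen (val I (res _ hW1 u1)) := basicOpen_val I hu ⟨⟨hxW0, hxW1⟩, hxU⟩ hxE
  have h5 : x ∈ X.basicOpen (c * val I (res _ hW1 u1) ^ n) := by
    rw [Scheme.basicOpen_mul]
    refine ⟨h3, ?_⟩
    rcases Nat.eq_zero_or_pos n with rfl | hn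
    · rw [_root_.pow_zero, Scheme.basicOpen_one]
      exact ⟨⟨hxW0, hxW1⟩, hxU⟩
    · rwa [Scheme.basicOpen_pow _ _ hn]
  rw [← h2] at h5
  exact h5.2


theorem isIso_restrict_app {E F : Scheme.{u}} (ψ : E ⟶ F) (hψ : ∀ V : F.Opens, IsIso (ψ.app V)) (V : F.Opens)
    (W : V.toScheme.Opens) : IsIso ((ψ ∣_ V).app W) := by
  rw [morphismRestrict_app]
  exact IsIso.comp_isIso' (hψ (V.ι ''ᵁ W)) (inferInstanceAs (IsIso (E.presheaf.map (eqToHom _).op)))

section main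

variable {X S : Scheme.{u}} [IsNoetherian S] {f : X ⟶ S} [IsProper f]
  {L0 : X.Modules} (hL0i : PicF.IsInvertible L0) (hL0a : RelAmple.IsRelAmple f L0)
  {I : X.IdealSheafData} (hIi : PicF.IsInvertible (ClSub.idealMod I))
  {OE : X.Modules} (hOEi : PicF.IsInvertible OE) (hOE : ClSub.IsInverseOf OE (ClSub.idealMod I))
  {m : ℕ} (hm : 0 < m)
  {F : Scheme.{u}} {g : F ⟶ S} [IsProper g] {ψ : ↑(I.subscheme) ⟶ F} [IsProper ψ] (hψg : ψ ≫ g = I.subschemeι ≫ f)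
  (hψO : ∀ V : F.Opens, IsIso (ψ.app V))
  {G : F.Modules} (hGi : PicF.IsInvertible G) (hGa : RelAmple.IsRelAmple g G) {r : ℕ} (hr : 0 < r)
  (eG : Nonempty ((Scheme.Modules.pullback ψ).obj G ≅ CohB1.tensorPow (LEm I.subschemeι L0 OE m) r))
  (hR : ∀ n, 1 ≤ n → RZ ψ (CohB1.tensorPow ((Scheme.Modules.pullback I.subschemeι).obj (ClSub.idealMod I)) n) 1)

include hL0i hL0a hIi hOEi hOE hm hψg hψO hGi hGa hr eG hR in
theorem part_one (U : S.affineOpens) : ∃ d : ℕ, 0 < d ∧ ∃ s0 : ℕ, ∀ s : ℕ, s0 ≤ s →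
      ((Curv2.IsGloballyGenerated ((CohB1.tensorPow (Lm L0 OE m) s).restrict (f ⁻¹ᵁ U.1).ι) ↔ d ∣ s) ∧
       (Curv2.IsGloballyGenerated ((CohB1.tensorPow (LEm I.subschemeι L0 OE m) s).restrict
        ((I.subschemeι ≫ f) ⁻¹ᵁ U.1).ι) ↔ d ∣ s)) := by
  have hNF : IsLocallyNoetherian F := LocallyOfFiniteType.isLocallyNoetherian g
  have hNX : IsLocallyNoetherian X := LocallyOfFiniteType.isLocallyNoetherian f
  have hLi := inv_Lm hL0i hOEi m
  have hLEi := inv_LEm hL0i hOEi m I.subschemeι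
  let V := g ⁻¹ᵁ U.1
  have hLV := Ega3B.NearFibre.isInvertible_restrict hLEi (ψ ⁻¹ᵁ V)
  obtain ⟨eG⟩ := eG
  have e1 : pull (ψ ∣_ V) (mk (G.restrict V.ι) (hGa.2 U).1) = mk _ hLV ^ r := by
    rw [CoreVan.mk_restrict V hGi, CoreVan.mk_restrict (ψ ⁻¹ᵁ V) hLEi, ← pull_comp, morphismRestrict_ι, pull_comp,
      pull_mk ψ hGi, mk_congr (hM := isInvertible_tensorPow hLEi r) eG, mk_tensorPow hLEi, map_pow]
  obtain ⟨d, hd, ⟨Gd, hGd, eGd⟩, hdvd, k₀, hk₀⟩ := GGRange.exists_d (ψ ∣_ V)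
    (isIso_restrict_app ψ hψO V) hLV (hGa.2 U) hr e1
  have hEiff : ∀ s, Curv2.IsGloballyGenerated ((CohB1.tensorPow (LEm I.subschemeι L0 OE m) s).restrict
      ((I.subschemeι ≫ f) ⁻¹ᵁ U.1).ι) ↔
      Curv2.IsGloballyGenerated (CohB1.tensorPow ((LEm I.subschemeι L0 OE m).restrict (ψ ⁻¹ᵁ V).ι) s) := by
    intro s
    obtain ⟨e2⟩ := Ega3B.TensRestrict.restrictPowIso (ψ ⁻¹ᵁ V).ι (LEm I.subschemeι L0 OE m) s
    rw [← hψg]
    exact ⟨fun h => K660.Semi.gg_of_iso e2 h, fun h => K660.Semi.gg_of_iso e2.symm h⟩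
  -- the vanishing
  obtain ⟨eGd'⟩ := (mk_eq_iff (isInvertible_pullback (ψ ∣_ V) hGd.1) (isInvertible_tensorPow hLV d)).1 (by
    rw [← pull_mk (ψ ∣_ V) hGd.1, eGd, mk_tensorPow hLV])
  obtain ⟨eR⟩ := Ega3B.TensRestrict.restrictPowIso (ψ ⁻¹ᵁ V).ι (LEm I.subschemeι L0 OE m) d
  obtain ⟨k₁, hk₁⟩ := CoreVan.core_van f U.1 U.2 hL0i (hL0a.2 U) I hIi hOEi hOE hm g ψ hψg hGd hd
    ⟨eGd' ≪≫ eR.symm⟩ (fun x => x ≤ 1) (fun _ _ h h' => h.trans h') 1 (fun n hn q h1 h2 => by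
        obtain rfl : q = 1 := le_antisymm h2 h1
        exact hR n hn)
  -- the powers of the ample module
  obtain ⟨n₁, hn₁⟩ := Ega2.AmpleGlobGen.exists_globGen (hL0a.2 U) (Fdesc.StructMod.isCoh_structureModule _)
  have hn₁' : ∀ n, n₁ ≤ n → Curv2.IsGloballyGenerated ((CohB1.tensorPow L0 n).restrict (f ⁻¹ᵁ U.1).ι) := by
    intro n hn
    obtain ⟨e3⟩ := Ega3B.TensRestrict.restrictPowIso (f ⁻¹ᵁ U.1).ι L0 n
    exact K660.Semi.gg_of_iso (Ega2.Tens.lunit _ ≪≫ e3.symm) (hn₁ n hn)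
  have heqo : I.subschemeι ⁻¹ᵁ (f ⁻¹ᵁ U.1) = (I.subschemeι ≫ f) ⁻¹ᵁ U.1 := rfl
  have hpull : ∀ s, Nonempty ((Scheme.Modules.pullback I.subschemeι).obj (CohB1.tensorPow (Lm L0 OE m) s) ≅
      CohB1.tensorPow (LEm I.subschemeι L0 OE m) s) := fun s =>
    (mk_eq_iff (isInvertible_pullback _ (isInvertible_tensorPow hLi s)) (isInvertible_tensorPow hLEi s)).1 (by
      rw [← pull_mk _ (isInvertible_tensorPow hLi s), mk_tensorPow hLi, mk_tensorPow hLEi, mk_LEm hL0i hOEi, map_pow])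
  refine ⟨d, hd, max (d * k₀) (max (d * k₁) (max n₁ d)), fun s hs => ?_⟩
  have hs0 : d * k₀ ≤ s := (le_max_left _ _).trans hs
  have hs1 : d * k₁ ≤ s := ((le_max_left _ _).trans (le_max_right _ _)).trans hs
  have hs2 : n₁ ≤ s := (((le_max_left _ _).trans (le_max_right _ _)).trans (le_max_right _ _)).trans hs
  have hs3 : d ≤ s := (((le_max_right _ _).trans (le_max_right _ _)).trans (le_max_right _ _)).trans hs
  have hE : Curv2.IsGloballyGenerated ((CohB1.tensorPow (LEm I.subschemeι L0 OE m) s).restrict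
      ((I.subschemeι ≫ f) ⁻¹ᵁ U.1).ι) ↔ d ∣ s := by
    rw [hEiff]
    refine ⟨hdvd s, ?_⟩
    rintro ⟨k, rfl⟩
    exact hk₀ k (Nat.le_of_mul_le_mul_left hs0 hd)
  refine ⟨⟨fun h => ?_, fun h => ?_⟩, hE⟩
  · rw [← hE, gg_restrict_iff (isInvertible_tensorPow hLEi s)]
    rw [gg_restrict_iff (isInvertible_tensorPow hLi s)] at h
    intro z hz
    obtain ⟨σ, hσ⟩ := h (I.subschemeι z) hz
    obtain ⟨e4⟩ := hpull s
    refine ⟨e4.hom.app _ (pullSec I.subschemeι σ), ?_⟩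
    have h4 := nv_iso e4 (pullSec I.subschemeι σ)
    rw [nv_pullSec _ (isInvertible_tensorPow hLi s)] at h4
    exact h4.ge hσ
  · have hgE := hE.2 h
    rw [gg_restrict_iff (isInvertible_tensorPow hLi s)]
    rw [gg_restrict_iff (isInvertible_tensorPow hLEi s)] at hgE
    intro x hx
    by_cases hxE : x ∈ Set.range I.subschemeι
    · obtain ⟨z, rfl⟩ := hxE
      obtain ⟨τ, hτ⟩ := hgE z hx
      obtain ⟨e4⟩ := hpull s
      obtain ⟨k, rfl⟩ := h
      have hk1 : 1 ≤ k := Nat.pos_of_ne_zero fun h0 => by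
        rw [h0, mul_zero] at hs3
        omega
      have h5 := hk₁ k (Nat.le_of_mul_le_mul_left hs1 hd) 1 le_rfl (Nat.mul_pos hm (Nat.mul_pos hd hk1)) 1 le_rfl le_rfl
      obtain ⟨e5⟩ := (mk_eq_iff (isInvertible_tensorMod (isInvertible_tensorPow hLi (d * k))
        (isInvertible_tensorPow hIi 1)) (isInvertible_tensorMod (isInvertible_tensorPow hLi (d * k)) hIi)).1 (by
          rw [← mk_mul_mk (isInvertible_tensorPow hLi (d * k)) (isInvertible_tensorPow hIi 1),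
            ← mk_mul_mk (isInvertible_tensorPow hLi (d * k)) hIi, mk_tensorPow hIi, pow_one])
      obtain ⟨σ, hσ⟩ := exists_pullSec (isInvertible_tensorPow hLi (d * k)) (DivVan.HHon_of_iso e5 _ 1 h5)
        (e4.inv.app _ τ)
      refine ⟨σ, ?_⟩
      have h6 := nv_pullSec I.subschemeι (isInvertible_tensorPow hLi (d * k)) σ
      have h7 : nv _ (e4.inv.app _ τ) = nv _ τ := nv_iso e4.symm τ
      have h8 : z ∈ nv _ (e4.inv.app _ τ) := h7.ge hτ
      rw [hσ] at h6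
      exact h6.le h8
    · have h5 := hn₁' s hs2
      rw [gg_restrict_iff (isInvertible_tensorPow hL0i s)] at h5
      obtain ⟨a, ha⟩ := h5 x hx
      have cOE : mk OE hOEi * mk (ClSub.idealMod I) hIi = 1 := CoreVan.inv_mul hOEi hIi hOE
      obtain ⟨e5⟩ := (mk_eq_iff (isInvertible_tensorPow hL0i s) (isInvertible_tensorMod (isInvertible_tensorPow hLi s)
        (isInvertible_tensorPow hIi (m * s)))).1 (by
          rw [← mk_mul_mk (isInvertible_tensorPow hLi s) (isInvertible_tensorPow hIi (m * s)),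
            mk_tensorPow hLi, mk_tensorPow hIi, mk_tensorPow hL0i, mk_Lm hL0i hOEi, mul_pow, ← pow_mul, mul_assoc,
            ← mul_pow, cOE, one_pow, mul_one])
      refine ⟨(mu I _ (m * s)).app _ (e5.hom.app _ a), mem_nv_mu I hIi (isInvertible_tensorPow hLi s) _ _ ?_ hxE⟩
      rwa [nv_iso]

end main

end K946.PartOne
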