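import Groth.Agent.BSB.K946.Gr
import Groth.Agent.BSB.K946.Setup
import Groth.Agent.Ega3B.PullTensor
import Groth.Agent.PerfA.PerfLocal
import Groth.Agent.Vanish.K660.Semi

/-!
# The contraction of the divisor: the centre, the blowing up, the graded pieces
-/

set_option autoImplicit false
universe u
open CategoryTheory CategoryTheory.Limits AlgebraicGeometry Opposite TopologicalSpace
open Groth.Agent.Fdesc.LocGen Groth.Agent

namespace K946.PartTwo

open K946.NormGen K946.IdPow K946.Comap K946.Setup PerfA.IdealModule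

theorem isFinLocFree_push_zero {E F : Scheme.{u}} (ψ : E ⟶ F) (hψ : ∀ U : F.Opens, IsIso (ψ.app U)) :
    FlatMod.IsFinLocFree ((Scheme.Modules.pushforward ψ).obj (Coh.structureModule E)) := by
  have h1 : IsIso (ClSub.unitToPush ψ) := by
    rw [Ega3B.TensorIso.isIso_iff_app_bijective]
    intro V
    exact PushUnit.bijective_app ψ hψ V
  exact PerfA.PerfLocal.isFinLocFree_of_iso (asIso (ClSub.unitToPush ψ)) (Ega3B.NearFibre.isFinLocFree_of_isInvertible isInvertible_structureModule)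

variable {X S : Scheme.{u}} [IsNoetherian S] {f : X ⟶ S} [IsProper f]
  {L0 : X.Modules} (hL0i : PicF.IsInvertible L0) (hL0a : RelAmple.IsRelAmple f L0)
  {I : X.IdealSheafData} (hIE : BlowUp.IsEffCartierIdeal I)
  {OE : X.Modules} (hOEi : PicF.IsInvertible OE) (hOE : ClSub.IsInverseOf OE (ClSub.idealMod I))
  {m : ℕ} (hm : 0 < m)
  {F : Scheme.{u}} {g : F ⟶ S} [IsProper g] {ψ : ↑(I.subscheme) ⟶ F} [Flat ψ] (hψg : ψ ≫ g = I.subschemeι ≫ f)
  (hψO : ∀ V : F.Opens, IsIso (ψ.app V))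
  {G : F.Modules} (hGi : PicF.IsInvertible G) (hGa : RelAmple.IsRelAmple g G) {r : ℕ} (hr : 0 < r)
  (eG : Nonempty ((Scheme.Modules.pullback ψ).obj G ≅ CohB1.tensorPow (LEm I.subschemeι L0 OE m) r))
  (hng : ∀ (y : F) (n : ℕ), 1 ≤ n → prods (CohB1.tensorPow (CohIII.fiberMod ψ ((Scheme.Modules.pullback I.subschemeι).obj (ClSub.idealMod I)) y) n) (CohIII.fiberMod ψ ((Scheme.Modules.pullback I.subschemeι).obj (ClSub.idealMod I)) y) ⊤ = ⊤)
  (h1 : ∀ (y : F) (n : ℕ), 1 ≤ n → Subsingleton (CohIII.fiberH ψ (CohB1.tensorPow ((Scheme.Modules.pullback I.subschemeι).obj (ClSub.idealMod I)) n) y 1))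
  {Y : Scheme.{u}} {q : Y ⟶ S} [IsProper q] {π : X ⟶ Y} (hπq : π ≫ q = f)
  (hπ : ∀ U : Y.Opens, IsIso (π.app U))
  {M : Y.Modules} (hMi : PicF.IsInvertible M) (hMa : RelAmple.IsRelAmple q M) {s : ℕ} (hs : 0 < s)
  (e : Nonempty ((Scheme.Modules.pullback π).obj M ≅ CohB1.tensorPow (Lm L0 OE m) s))

include hL0i hL0a hIE hOEi hOE hm hψg hψO hGi hGa hr eG hng h1 hπq hπ hMi hMa hs e in
theorem part_two : ∃ (j : F ⟶ Y), IsClosedImmersion j ∧ j ≫ q = g ∧ I.subschemeι ≫ π = ψ ≫ j ∧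
        j.ker.comap π = I ∧ BlowUp.IsBlowUp π j.ker ∧
        ∀ n : ℕ, FlatMod.IsFinLocFree ((Scheme.Modules.pullback j).obj (ClSub.idealMod (j.ker ^ n))) ∧
          Nonempty ((Scheme.Modules.pullback j).obj (ClSub.idealMod (j.ker ^ n)) ≅ (Scheme.Modules.pushforward ψ).obj (CohB1.tensorPow ((Scheme.Modules.pullback I.subschemeι).obj (ClSub.idealMod I)) n)) := by
  have hpf : IsProper (ψ ≫ g) := by rw [hψg]; infer_instance
  have hpψ : IsProper ψ := IsProper.of_comp ψ g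
  have hNF : IsLocallyNoetherian F := LocallyOfFiniteType.isLocallyNoetherian g
  have hNY : IsLocallyNoetherian Y := LocallyOfFiniteType.isLocallyNoetherian q
  have hIi := Groth.Agent.Dix.IdealModCartier.isInvertible_idealMod hIE
  have hCi := isInvertible_pullback I.subschemeι hIi
  let C := (Scheme.Modules.pullback I.subschemeι).obj (ClSub.idealMod I)
  have hR : ∀ n, 1 ≤ n → RZ ψ (CohB1.tensorPow C n) 1 := fun n hn =>
    RZ.of_fiber (Groth.Agent.Models.TrivGeom.isCoh_of_isInvertible (isInvertible_tensorPow hCi n))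
      (Groth.Agent.Ega3B.NearFibre.isFlatOver_of_isInvertible ψ (isInvertible_tensorPow hCi n)) fun y => h1 y n hn
  have hz := rz_pow hL0i hL0a hIi hOEi hOE hm hψg hGi hGa hr eG hR hπq hMi hMa hs e
  have hamp := relAmple_ideal hL0i hL0a hIi hOEi hOE hm hπq hMi hs e
  obtain ⟨j, hjc, hjq, hj⟩ := exists_j hL0i hL0a hIi hOEi hOE hm hψg hGi hGa hr eG hR hπq hMi hMa hs e hψO hπ
  have hπp : IsProper π := by
    have : IsProper (π ≫ q) := by rw [hπq]; infer_instance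
    exact IsProper.of_comp π q
  have hbij : ∀ W : Y.affineOpens, Function.Bijective (π.app W.1) := fun W => PushUnit.bijective_app π hπ W.1
  have hJW : ∀ W : Y.affineOpens, j.ker.ideal W = (AP I 1 (π ⁻¹ᵁ W.1)).comap (π.app W.1).hom := fun W =>
    ker_ideal ψ hψO π j hj W
  have heq : ∀ W : Y.Opens, ψ ⁻¹ᵁ (j ⁻¹ᵁ W) = I.subschemeι ⁻¹ᵁ (π ⁻¹ᵁ W) := fun W =>
    congrArg (fun h => h ⁻¹ᵁ W) hj.symm
  have hC1 : ∀ y, Subsingleton (CohIII.fiberH ψ C y 1) := fun y =>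
    CohqA.UnifVan.subsingleton_of_iso ((Scheme.Modules.pullback (ψ.fiberι y)).mapIso
      (Ega2.TensPow.powOne C)) 1 (h1 y 1 le_rfl)
  have hprods : ∀ (W : Y.affineOpens) (n : ℕ), 1 ≤ n → prods ((Scheme.Modules.pullback I.subschemeι).obj (P I n))
      C (I.subschemeι ⁻¹ᵁ (π ⁻¹ᵁ W.1)) = ⊤ := by
    intro W n hn
    rw [← heq]
    obtain ⟨e1⟩ := Ega3B.PullTensor.nonempty_pullPowIso I.subschemeι hIi n
    refine Transfer.prods_of_iso e1.symm (Iso.refl _) ?_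
    refine normgen ψ (isInvertible_tensorPow hCi n) hCi (W.2.preimage j) (fun y => h1 y n hn) hC1
      (fun y => h1 y (n + 1) (by omega)) fun y => ?_
    obtain ⟨e2⟩ := Ega3B.PullTensor.nonempty_pullPowIso (ψ.fiberι y) hCi n
    exact Transfer.prods_of_iso e2.symm (Iso.refl _) (hng y n hn)
  have hprop : ∀ W : Y.affineOpens, ∃ g : (π ⁻¹ᵁ W.1).toScheme ⟶ Spec (CommRingCat.of Γ(Y, W.1)), IsProper g :=
    fun W => ⟨(π ∣_ W.1) ≫ W.2.isoSpec.hom, inferInstance⟩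
  have hpow : ∀ (W : Y.affineOpens) (n : ℕ), AP I n (π ⁻¹ᵁ W.1) = AP I 1 (π ⁻¹ᵁ W.1) ^ n := by
    intro W n
    have hN : IsNoetherianRing Γ(Y, W.1) := IsLocallyNoetherian.component_noetherian W
    obtain ⟨g', hg'⟩ := hprop W
    exact Pow.AP_eq_pow hIi (π ⁻¹ᵁ W.1) g' (hamp.2 W) (fun n hn => hz n hn W.1 W.2) (hprods W) n
  have hcomap : j.ker.comap π = I := by
    refine comap_eq hIE hIi π j.ker fun y => ?_
    obtain ⟨W, hW, hyW, -⟩ := exists_isAffineOpen_mem_and_subset (x := y) (U := ⊤) trivial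
    have hN : IsNoetherianRing Γ(Y, W) := IsLocallyNoetherian.component_noetherian ⟨W, hW⟩
    obtain ⟨g', hg'⟩ := hprop ⟨W, hW⟩
    obtain ⟨d, hd, hgg, -⟩ := Pow.exists_AP_le (π ⁻¹ᵁ W) g' (hamp.2 ⟨W, hW⟩)
    obtain ⟨e1⟩ := Ega3B.TensRestrict.restrictPowIso (π ⁻¹ᵁ W).ι (ClSub.idealMod I) d
    exact ⟨⟨W, hW⟩, hyW, hJW ⟨W, hW⟩, (hbij ⟨W, hW⟩).2, d, hd, K660.Semi.gg_of_iso e1.symm hgg, hpow ⟨W, hW⟩ d⟩
  have hbl : BlowUp.IsBlowUp π j.ker := Bl.isBlowUp hIE hIi hcomap fun W => ⟨hamp.2 W, hbij W, hJW W, hpow W⟩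
  refine ⟨j, hjc, hjq, hj, hcomap, hbl, fun n => ?_⟩
  obtain ⟨e1⟩ := Gr.nonempty_iso hIi hj hbij hJW hpow (fun W n hn => hz n hn W.1 W.2) n
  obtain ⟨e2⟩ := Ega3B.PullTensor.nonempty_pullPowIso I.subschemeι hIi n
  have e3 := e1 ≪≫ (Scheme.Modules.pushforward ψ).mapIso e2
  refine ⟨PerfA.PerfLocal.isFinLocFree_of_iso e3.symm ?_, ⟨e3⟩⟩
  rcases Nat.eq_zero_or_pos n with rfl | hn
  · exact isFinLocFree_push_zero ψ hψO
  · exact isFinLocFree_push ψ _ (Groth.Agent.Models.TrivGeom.isCoh_of_isInvertible (isInvertible_tensorPow hCi n))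
      (Groth.Agent.Ega3B.NearFibre.isFlatOver_of_isInvertible ψ (isInvertible_tensorPow hCi n)) fun y => h1 y n hn

end K946.PartTwo
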