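import Groth.Agent.BSB.K946.AlgLen
import Groth.Agent.BSB.K946.Gr
import Groth.Agent.CurvesB.StalkBC
import Groth.Agent.CurvesB.HZero

/-!
# Lengths of the graded pieces of the local ring of a rational point
-/

set_option autoImplicit false
universe u
open CategoryTheory CategoryTheory.Limits AlgebraicGeometry Opposite TopologicalSpace
open Groth.Agent.Fdesc.LocGen Groth.Agent

namespace K946.PointLen

open K946.NormGen K946.IdPow K946.Comap PerfA.IdealModule VarietyB.RestrSeq CohqB.FiniteType2 CurvesB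

theorem ores_bijective_of_eq {X : Scheme.{u}} {U V : X.Opens} (h : V ≤ U) (h' : U ≤ V) : Function.Bijective (ores h) := by
  constructor
  · intro a b hab
    have h1 := congrArg (ores h') hab
    rwa [ores_ores, ores_ores, ores_refl, ores_refl] at h1
  · intro a
    exact ⟨ores h' a, by rw [ores_ores, ores_refl]⟩

variable {k : Type u} [Field k] {Y E : Scheme.{u}} (j : Spec (CommRingCat.of k) ⟶ Y) [IsClosedImmersion j]

omit [IsClosedImmersion j] in
theorem le_preimage {W : Y.Opens} {z : Spec (CommRingCat.of k)} (h : j z ∈ W) : ⊤ ≤ j ⁻¹ᵁ W := by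
  intro y _
  have : y = z := Subsingleton.elim _ _
  rw [this]
  exact h

theorem surj_app (W : Y.affineOpens) : Function.Surjective (j.app W.1) := j.app_surjective W.1 W.2

theorem ker_eq (W : Y.affineOpens) {z : Spec (CommRingCat.of k)} (hz : j z ∈ W.1) :
    (j.ker.ideal W).IsMaximal ∧ (W.2.primeIdealOf ⟨j z, hz⟩).asIdeal = j.ker.ideal W := by
  let θ : Γ(Y, W.1) →+* k := ((Scheme.ΓSpecIso (CommRingCat.of k)).hom.hom).comp
    ((ores (le_preimage j hz)).comp (j.app W.1).hom)
  have hθ : Function.Surjective θ := by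
    have h1 : Function.Surjective (Scheme.ΓSpecIso (CommRingCat.of k)).hom.hom :=
      ((ConcreteCategory.isIso_iff_bijective (Scheme.ΓSpecIso (CommRingCat.of k)).hom).1 inferInstance).2
    exact h1.comp ((ores_bijective_of_eq (le_preimage j hz) le_top).2.comp (surj_app j W))
  have hk : RingHom.ker θ = j.ker.ideal W := by
    rw [Scheme.Hom.ker_apply]
    ext b
    rw [RingHom.mem_ker, RingHom.mem_ker]
    have h1 : Function.Injective (Scheme.ΓSpecIso (CommRingCat.of k)).hom.hom :=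
      ((ConcreteCategory.isIso_iff_bijective (Scheme.ΓSpecIso (CommRingCat.of k)).hom).1 inferInstance).1
    constructor
    · intro h
      apply (ores_bijective_of_eq (le_preimage j hz) le_top).1
      apply h1
      rw [map_zero, map_zero]
      exact h
    · intro h
      change (Scheme.ΓSpecIso (CommRingCat.of k)).hom.hom (ores (le_preimage j hz) ((j.app W.1).hom b)) = 0
      rw [h, map_zero, map_zero]
  have hmax : (j.ker.ideal W).IsMaximal := hk ▸ RingHom.ker_isMaximal_of_surjective θ hθ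
  refine ⟨hmax, (hmax.eq_of_le (W.2.primeIdealOf ⟨j z, hz⟩).isPrime.ne_top ?_).symm⟩
  intro b hb
  rw [StalkBC.mem_primeIdealOf_iff W.2 (j z) hz b]
  intro h
  rw [Scheme.Hom.ker_apply] at hb
  have h2 : j.app W.1 b = 0 := hb
  have h3 : z ∈ j ⁻¹ᵁ (Y.basicOpen b) := h
  rw [Scheme.preimage_basicOpen, h2, Scheme.basicOpen_zero] at h3
  exact h3

section main

variable (ψ : E ⟶ Spec (CommRingCat.of k)) (hψ : ∀ V, IsIso (ψ.app V)) {C : E.Modules} {n : ℕ}
  (e : (Scheme.Modules.pullback j).obj (ClSub.idealMod (j.ker ^ n)) ≅ (Scheme.Modules.pushforward ψ).obj C)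

omit [IsClosedImmersion j] in
theorem ideal_pow (W : Y.affineOpens) (n : ℕ) : (j.ker ^ n).ideal W = (j.ker.ideal W) ^ n := by
  rw [Scheme.IdealSheafData.ideal_pow]
  rfl

theorem val_mem_of_mem_smul (K : Y.IdealSheafData) (W : Y.affineOpens) {x : Γ(ClSub.idealMod K, W.1)}
    (hx : x ∈ RingHom.ker (j.app W.1).hom • (⊤ : Submodule Γ(Y, W.1) Γ(ClSub.idealMod K, W.1))) :
    val K x ∈ j.ker.ideal W * K.ideal W := by
  induction hx using Submodule.smul_induction_on' with
  | smul a ha y _ =>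
    rw [val_smul]
    refine Ideal.mul_mem_mul ?_ (val_mem K W y)
    rwa [Scheme.Hom.ker_apply]
  | add x _ y _ hx hy =>
    have h1 : val K (x + y) = val K x + val K y := map_add _ _ _
    rw [h1]
    exact add_mem hx hy

include hψ e in
theorem length_stalk (hfin : Module.Finite Γ(E, ⊤) (Coh.HH E C 0)) :
    Module.length (Y.presheaf.stalk (j (IsLocalRing.closedPoint k))) (AlgLen.Qn
      (Y.presheaf.stalk (j (IsLocalRing.closedPoint k))) n) = (Module.finrank Γ(E, ⊤) (Coh.HH E C 0) : ℕ∞) := by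
  set z : Spec (CommRingCat.of k) := IsLocalRing.closedPoint k
  obtain ⟨W', hW', hzW', -⟩ := exists_isAffineOpen_mem_and_subset (x := j z) (U := ⊤) trivial
  let W : Y.affineOpens := ⟨W', hW'⟩
  have hz : j z ∈ W.1 := hzW'
  obtain ⟨hmax, hprime⟩ := ker_eq j W hz
  let _ := Y.presheaf.algebra_section_stalk (U := W.1) ⟨j z, hz⟩
  have hloc : IsLocalization.AtPrime (Y.presheaf.stalk (j z)) (j.ker.ideal W) := by
    have h1 := W.2.isLocalization_stalk ⟨j z, hz⟩
    rw! [hprime] at h1
    exact h1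
  have hle : (⊤ : E.Opens) ≤ ψ ⁻¹ᵁ (j ⁻¹ᵁ W.1) := ψ.preimage_mono (le_preimage j hz)
  let θ : Γ(Y, W.1) →+* Γ(E, ⊤) := (ores hle).comp ((ψ.app (j ⁻¹ᵁ W.1)).hom.comp (j.app W.1).hom)
  have hψb : Function.Bijective (ψ.app (j ⁻¹ᵁ W.1)) := (ConcreteCategory.isIso_iff_bijective _).1 (hψ _)
  have hθ : Function.Surjective θ := (ores_bijective_of_eq hle le_top).2.comp (hψb.2.comp (surj_app j W))
  have hin : ∀ x : ↥(j.ker.ideal W ^ n), x.1 ∈ (j.ker ^ n).ideal W := fun x => by
    rw [ideal_pow]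
    exact x.2
  let sec : ↥(j.ker.ideal W ^ n) → Γ(ClSub.idealMod (j.ker ^ n), W.1) := fun x =>
    (sectionsEquiv (j.ker ^ n) W).symm ⟨x.1, hin x⟩
  have hsec : ∀ x, val (j.ker ^ n) (sec x) = x.1 := fun x =>
    congrArg Subtype.val ((sectionsEquiv (j.ker ^ n) W).apply_symm_apply ⟨x.1, hin x⟩)
  have sec_add : ∀ x y, sec (x + y) = sec x + sec y := fun x y => by
    apply val_injective
    have h1 : val (j.ker ^ n) (sec x + sec y) = val (j.ker ^ n) (sec x) + val (j.ker ^ n) (sec y) := map_add _ _ _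
    rw [h1, hsec, hsec, hsec]
    rfl
  have sec_smul : ∀ (b : Γ(Y, W.1)) x, sec (b • x) = b • sec x := fun b x => by
    apply val_injective
    rw [hsec, val_smul, hsec]
    rfl
  let κ0 : Γ(ClSub.idealMod (j.ker ^ n), W.1) →+ Γ(C, ⊤) := AddMonoidHom.mk'
    (fun x => res C hle (show Γ(C, ψ ⁻¹ᵁ (j ⁻¹ᵁ W.1)) from e.hom.app (j ⁻¹ᵁ W.1) (pullSec j x))) (fun x y => by
      rw [pullSec_add, map_add]
      exact map_add _ _ _)
  have hebij : Function.Bijective (e.hom.app (j ⁻¹ᵁ W.1)) :=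
    (Ega3B.TensorIso.isIso_iff_app_bijective e.hom).1 inferInstance _
  have hres : Function.Bijective (res C hle) := by
    constructor
    · intro a b hab
      have h1 := congrArg (res C (le_top : ψ ⁻¹ᵁ (j ⁻¹ᵁ W.1) ≤ ⊤)) hab
      rwa [res_res, res_res, res_refl, res_refl] at h1
    · intro a
      exact ⟨res C le_top a, by rw [res_res, res_refl]⟩
  have haux := Groth.Agent.Pic13.H958.AffLift.pullSec_aux j W.2 (ClSub.idealMod (j.ker ^ n)) (isQCoh_idealMod _)
  have hκ0s : Function.Surjective κ0 := hres.2.comp (hebij.2.comp haux.1)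
  have hκ0sm : ∀ b x, κ0 (b • x) = θ b • κ0 x := by
    intro b x
    change res C hle (e.hom.app (j ⁻¹ᵁ W.1) (pullSec j (b • x))) = _
    rw [pullSec_smul, Scheme.Modules.Hom.app_smul]
    exact res_smul _ _ _ _
  have hκ0k : ∀ x, κ0 x = 0 ↔ val (j.ker ^ n) x ∈ j.ker.ideal W ^ (n + 1) := by
    intro x
    have h1 : κ0 x = 0 ↔ pullSec j x = 0 := by
      constructor
      · intro h
        exact (injective_iff_map_eq_zero' _).1 hebij.1 _ |>.1 ((injective_iff_map_eq_zero' _).1 hres.1 _ |>.1 h)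
      · intro h
        change res C hle (e.hom.app (j ⁻¹ᵁ W.1) (pullSec j x)) = 0
        rw [h, map_zero]
        exact map_zero _
    rw [h1]
    have h2 : j.ker.ideal W ^ (n + 1) = j.ker.ideal W * (j.ker ^ n).ideal W := by
      rw [ideal_pow, _root_.pow_succ, mul_comm]
    rw [h2]
    constructor
    · intro h
      exact val_mem_of_mem_smul j _ W (haux.2 x h)
    · intro h
      obtain ⟨x', hx', h0⟩ := Gr.exists_mul (j := j) (j.ker ^ n) W h
      have h3 : x' = x := val_injective _ _ hx'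
      rwa [← h3]
  have hA : IsField Γ(E, ⊤) := by
    have h1 := hψ ⊤
    exact MulEquiv.isField (Field.toIsField k)
      ((asIso ((Scheme.ΓSpecIso (CommRingCat.of k)).inv ≫ ψ.app ⊤)).commRingCatIsoToRingEquiv.symm.toMulEquiv)
  rw [← AlgLen.length_eq_finrank hA (Coh.HH E C 0)]
  refine AlgLen.length_eq (j.ker.ideal W) θ hθ n ((HZero.equivAdd C).symm.toAddMonoidHom.comp
    (AddMonoidHom.mk' (fun x => κ0 (sec x)) fun x y => by rw [sec_add, map_add])) ?_ ?_ ?_
  · intro b x
    change (HZero.equivAdd C).symm (κ0 (sec (b • x))) = θ b • ((HZero.equivAdd C).symm (κ0 (sec x)))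
    rw [sec_smul, hκ0sm, AddEquiv.symm_apply_eq]
    refine Eq.trans ?_ (HZero.equivAdd_smul C (θ b) ((HZero.equivAdd C).symm (κ0 (sec x)))).symm
    rw [AddEquiv.apply_symm_apply]
  · intro h
    obtain ⟨x, hx⟩ := hκ0s (HZero.equivAdd C h)
    have h1 : val (j.ker ^ n) x ∈ j.ker.ideal W ^ n := by
      rw [← ideal_pow]
      exact val_mem _ W x
    refine ⟨⟨_, h1⟩, ?_⟩
    change (HZero.equivAdd C).symm (κ0 (sec ⟨_, h1⟩)) = h
    rw [AddEquiv.symm_apply_eq, ← hx]
    congr 1
    apply val_injective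
    exact hsec _
  · intro x
    change (HZero.equivAdd C).symm (κ0 (sec x)) = 0 ↔ _
    rw [AddEquiv.symm_apply_eq, map_zero, hκ0k, hsec]

end main

end K946.PointLen
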