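import Groth.Agent.BSB.K946.PartOne
import Groth.Agent.BSB.K946.PartTwo
import Groth.Agent.BSB.K946.PointLen
import Groth.Agent.Flat2H.ThickFibre
import Groth.Agent.CalgB.ProjImm2
import Groth.Agent.Surf.K455.ExcInt
import Groth.Agent.S0002

/-!
# The contraction of a divisor to a point
-/

set_option autoImplicit false
universe u
open CategoryTheory CategoryTheory.Limits AlgebraicGeometry Opposite TopologicalSpace
open Groth.Agent.Fdesc.LocGen Groth.Agent Groth.Agent.Grpsch.PicGrp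

namespace K946.PointCase

open K946.NormGen K946.IdPow K946.Comap K946.Setup

theorem isIso_residue (K : Type u) [Field K] (τ : Spec (CommRingCat.of K)) :
    IsIso ((Spec (CommRingCat.of K)).fromSpecResidueField τ) := by
  have h1 : IsClosedImmersion ((Spec (CommRingCat.of K)).fromSpecResidueField τ) := by
    rw [← isClosed_singleton_iff_isClosedImmersion]
    have : ({τ} : Set (Spec (CommRingCat.of K))) = Set.univ := by
      ext y
      rw [Set.mem_singleton_iff]
      exact iff_of_true (Subsingleton.elim (α := PrimeSpectrum K) y τ) trivial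
    rw [this]
    exact isClosed_univ
  have h2 : Surjective ((Spec (CommRingCat.of K)).fromSpecResidueField τ) := by
    constructor
    intro y
    have h3 : y ∈ Set.range ((Spec (CommRingCat.of K)).fromSpecResidueField τ) := by
      rw [Scheme.range_fromSpecResidueField]
      exact Subsingleton.elim (α := PrimeSpectrum K) y τ
    exact h3
  exact isIso_of_isClosedImmersion_of_surjective _

variable {k : Type u} [Field k] {E : Scheme.{u}}

theorem isIso_fiberι (ψ : E ⟶ Spec (CommRingCat.of k)) (y : Spec (CommRingCat.of k)) : IsIso (ψ.fiberι y) := by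
  have := isIso_residue k y
  exact inferInstanceAs (IsIso (pullback.fst ψ ((Spec (CommRingCat.of k)).fromSpecResidueField y)))

theorem isIso_app (ψ : E ⟶ Spec (CommRingCat.of k)) (h : IsIso (ψ.app ⊤)) (V : (Spec (CommRingCat.of k)).Opens) :
    IsIso (ψ.app V) := by
  by_cases hV : V = ⊤
  · rw [hV]; exact h
  · have hV' : V = ⊥ := by
      rw [eq_bot_iff]
      intro x hx
      refine hV (top_le_iff.1 fun y _ => ?_)
      rwa [Subsingleton.elim (α := PrimeSpectrum k) y x]
    subst hV'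
    rw [ConcreteCategory.isIso_iff_bijective]
    have h1 : Subsingleton Γ(Spec (CommRingCat.of k), ⊥) := inferInstance
    have h2 : Subsingleton Γ(E, ψ ⁻¹ᵁ ⊥) := inferInstanceAs (Subsingleton Γ(E, ⊥))
    exact ⟨fun a b _ => Subsingleton.elim _ _, fun b => ⟨0, Subsingleton.elim _ _⟩⟩

theorem prods_pullback {Z E : Scheme.{u}} (i : Z ⟶ E) [IsIso i] {M N : E.Modules} (hM : PicF.IsInvertible M)
    (hN : PicF.IsInvertible N) (h : prods M N ⊤ = ⊤) :
    prods ((Scheme.Modules.pullback i).obj M) ((Scheme.Modules.pullback i).obj N) ⊤ = ⊤ := by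
  have h1 := PushUnit.isIso_unit i (fun U => inferInstance) (isInvertible_tensorMod hM hN)
  rw [Ega3B.TensorIso.isIso_iff_app_bijective] at h1
  have h2 := isIso_pullTensor i hM hN
  rw [Ega3B.TensorIso.isIso_iff_app_bijective] at h2
  let G : Γ(CohB1.tensorMod M N, ⊤) →+ Γ(CohB1.tensorMod ((Scheme.Modules.pullback i).obj M)
      ((Scheme.Modules.pullback i).obj N), ⊤) :=
    AddMonoidHom.mk' (fun t => (pullTensor i M N).app (i ⁻¹ᵁ ⊤) (pullSec i t)) fun a b => by
      rw [pullSec_add]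
      exact map_add _ _ _
  have hG : ∀ a b, G (tmul a b) = tmul (pullSec i a) (pullSec i b) := fun a b => pullTensor_app i a b
  refine top_le_iff.1 ?_
  rintro t -
  obtain ⟨t', rfl⟩ := (h2 ⊤).2 t
  obtain ⟨t, rfl⟩ := (h1 ⊤).2 t'
  have ht : t ∈ prods M N ⊤ := h ▸ trivial
  change G t ∈ _
  induction ht using AddSubgroup.closure_induction with
  | mem t ht =>
    obtain ⟨a, b, rfl⟩ := ht
    rw [hG]
    exact tmul_mem_prods _ _
  | zero =>
    rw [map_zero]
    exact zero_mem _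
  | add x y _ _ hx hy =>
    rw [map_add]
    exact add_mem hx hy
  | neg x _ hx =>
    rw [map_neg]
    exact neg_mem hx

/-- Normal generation on the fibres. -/
theorem prods_fiber (ψ : E ⟶ Spec (CommRingCat.of k)) {C : E.Modules} (hC : PicF.IsInvertible C) {n : ℕ}
    (h : prods (CohB1.tensorPow C n) C ⊤ = ⊤) (y : Spec (CommRingCat.of k)) :
    prods (CohB1.tensorPow (CohIII.fiberMod ψ C y) n) (CohIII.fiberMod ψ C y) ⊤ = ⊤ := by
  have := isIso_fiberι ψ y
  obtain ⟨e⟩ := Ega3B.PullTensor.nonempty_pullPowIso (ψ.fiberι y) hC n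
  exact Transfer.prods_of_iso e (Iso.refl _) (prods_pullback (ψ.fiberι y) (isInvertible_tensorPow hC n) hC h)

theorem subsingleton_fiberH (ψ : E ⟶ Spec (CommRingCat.of k)) {M : E.Modules} (hM : Coh.IsQCoh M) {p : ℕ}
    (h : Subsingleton (Coh.HH E M p)) (y : Spec (CommRingCat.of k)) : Subsingleton (CohIII.fiberH ψ M y p) := by
  have := isIso_fiberι ψ y
  exact (Flat2H.ThickFibre.subsingleton_HH_pullback_iff (ψ.fiberι y) M hM p).2 h

theorem gg_restrict_top {X : Scheme.{u}} {M : X.Modules} (hM : PicF.IsInvertible M) :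
    Curv2.IsGloballyGenerated (M.restrict (⊤ : X.Opens).ι) ↔ Curv2.IsGloballyGenerated M := by
  rw [PartOne.gg_restrict_iff hM ⊤]
  constructor
  · intro h
    refine K660.Semi.gg_of_sections fun x => ?_
    obtain ⟨σ, hσ⟩ := h x trivial
    exact ⟨homOf σ, by rwa [← Ega2.Ample.nv_eq_genLocus]⟩
  · intro h x _
    obtain ⟨s, hs⟩ := Ega1.GlobGenPt.exists_mem_genLocus hM h x
    exact ⟨sec s ⊤, by rwa [← Ega2.Ample.genLocus_eq_nv]⟩

theorem gg_structure {X : Scheme.{u}} : Curv2.IsGloballyGenerated (Coh.structureModule X) :=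
  ⟨PUnit, Limits.Sigma.desc fun _ => 𝟙 (Coh.structureModule X),
    @epi_of_epi_fac X.Modules _ _ _ _ (Limits.Sigma.ι (fun _ : PUnit => Coh.structureModule X) PUnit.unit) _
      (𝟙 (Coh.structureModule X)) inferInstance (Limits.Sigma.ι_desc _ _)⟩

theorem flat_spec (ψ : E ⟶ Spec (CommRingCat.of k)) : Flat ψ := by
  have : Subsingleton (Spec (CommRingCat.of k)) := inferInstanceAs (Subsingleton (PrimeSpectrum k))
  infer_instance

theorem pic_one (c : Pic (Spec (CommRingCat.of k))) : c = 1 := by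
  induction c using ind with
  | _ N hN =>
    have : Subsingleton (Spec (CommRingCat.of k)) := inferInstanceAs (Subsingleton (PrimeSpectrum k))
    exact (mk_eq_one_iff hN).2 (K455.ExcInt.pic_trivial N hN)

theorem finite_h0 (ψ : E ⟶ Spec (CommRingCat.of k)) [IsProper ψ] {M : E.Modules} (hM : Coh.IsCoh M) :
    Module.Finite Γ(E, ⊤) (Coh.HH E M 0) := by
  let _ : E.Over (Spec (CommRingCat.of k)) := ⟨ψ⟩
  have _ : IsProper (E ↘ Spec (CommRingCat.of k)) := inferInstanceAs (IsProper ψ)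
  have h1 : Module.Finite k (Coh.HH E M 0) := S0002.result k E M hM 0
  let _ : Algebra k Γ(E, ⊤) := (Coh.toGlobal (E ↘ Spec (CommRingCat.of k))).toAlgebra
  have _ : IsScalarTower k Γ(E, ⊤) (Coh.HH E M 0) := ⟨fun a b h =>
    mul_smul (Coh.toGlobal (E ↘ Spec (CommRingCat.of k)) a : Γ(E, ⊤)) b h⟩
  exact Module.Finite.of_restrictScalars_finite k Γ(E, ⊤) (Coh.HH E M 0)

section main

variable {X : Scheme.{u}} {f : X ⟶ Spec (CommRingCat.of k)} [IsProper f]
  {L0 : X.Modules} (hL0i : PicF.IsInvertible L0) (hL0a : CohB1.IsAmple L0)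
  {I : X.IdealSheafData} (hIE : BlowUp.IsEffCartierIdeal I)
  (hE : IsIso ((I.subschemeι ≫ f).app ⊤))
  {OE : X.Modules} (hOEi : PicF.IsInvertible OE) (hOE : ClSub.IsInverseOf OE (ClSub.idealMod I))
  {m : ℕ} (hm : 0 < m) {r : ℕ} (hr : 0 < r)
  (htors : Nonempty (CohB1.tensorPow (LEm I.subschemeι L0 OE m) r ≅ Coh.structureModule _))
  (hord : ∀ r' : ℕ, 0 < r' → r' < r → ¬ Nonempty (CohB1.tensorPow (LEm I.subschemeι L0 OE m) r' ≅ Coh.structureModule _))
  (hng : ∀ n : ℕ, 1 ≤ n → prods (CohB1.tensorPow ((Scheme.Modules.pullback I.subschemeι).obj (ClSub.idealMod I)) n)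
    ((Scheme.Modules.pullback I.subschemeι).obj (ClSub.idealMod I)) ⊤ = ⊤)
  (h1 : ∀ n : ℕ, 1 ≤ n → Subsingleton (Coh.HH _ (CohB1.tensorPow ((Scheme.Modules.pullback I.subschemeι).obj (ClSub.idealMod I)) n) 1))

include hr htors hord in
theorem dvd_iff (hL : PicF.IsInvertible (LEm I.subschemeι L0 OE m)) (s : ℕ) : mk _ hL ^ s = 1 ↔ r ∣ s := by
  have ho : orderOf (mk _ hL) = r := by
    rw [orderOf_eq_iff hr]
    constructor
    · rw [← mk_tensorPow hL, mk_eq_one_iff]
      exact htors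
    · intro r' hr'r hr' h
      rw [← mk_tensorPow hL, mk_eq_one_iff] at h
      exact hord r' hr' hr'r h
  rw [← ho, orderOf_dvd_iff_pow_eq_one]

include hIE hE hOEi hOE hm hr htors hord h1 hL0i hL0a in
theorem point_one : ∃ s0 : ℕ, ∀ s : ℕ, s0 ≤ s →
    (Curv2.IsGloballyGenerated (CohB1.tensorPow (Lm L0 OE m) s) ↔ r ∣ s) := by
  let ψ := I.subschemeι ≫ f
  have hψ := isIso_app ψ hE
  have hIi := Groth.Agent.Dix.IdealModCartier.isInvertible_idealMod hIE
  have hCi := isInvertible_pullback I.subschemeι hIi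
  have hLi := inv_Lm hL0i hOEi m
  have hLEi := inv_LEm hL0i hOEi m I.subschemeι
  have hO : PicF.IsInvertible (Coh.structureModule (Spec (CommRingCat.of k))) := isInvertible_structureModule
  have hO1 : mk _ hO = 1 := (mk_eq_one_iff hO).2 ⟨Iso.refl _⟩
  have hf : Flat ψ := flat_spec ψ
  have hpow : ∀ s, mk _ hLEi ^ s = 1 ↔ r ∣ s := dvd_iff hr htors hord hLEi
  obtain ⟨eG⟩ := (mk_eq_iff (isInvertible_pullback ψ hO) (isInvertible_tensorPow hLEi r)).1 (by
    rw [← pull_mk ψ hO, hO1, map_one, mk_tensorPow hLEi, (hpow r).2 dvd_rfl])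
  obtain ⟨d, hd, s0, hs0⟩ := PartOne.part_one hL0i (CalgB.ProjImm.isRelAmple_of_isAmple hL0a) hIi hOEi hOE hm
    (g := 𝟙 _) (ψ := ψ) (Category.comp_id _) hψ hO (S4427.result _ _ hO) hr ⟨eG⟩ (fun n hn =>
      RZ.of_fiber (Models.TrivGeom.isCoh_of_isInvertible (isInvertible_tensorPow hCi n))
        (Ega3B.NearFibre.isFlatOver_of_isInvertible ψ (isInvertible_tensorPow hCi n)) fun y =>
          subsingleton_fiberH ψ (Models.TrivGeom.isCoh_of_isInvertible (isInvertible_tensorPow hCi n)).1 (h1 n hn) y)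
      ⟨⊤, isAffineOpen_top _⟩
  refine ⟨s0, fun s hs => ?_⟩
  obtain ⟨hX, hEE⟩ := hs0 s hs
  have hX' : Curv2.IsGloballyGenerated (CohB1.tensorPow (Lm L0 OE m) s) ↔ d ∣ s :=
    (gg_restrict_top (isInvertible_tensorPow hLi s)).symm.trans hX
  have hE' : Curv2.IsGloballyGenerated (CohB1.tensorPow (LEm I.subschemeι L0 OE m) s) ↔ d ∣ s :=
    (gg_restrict_top (isInvertible_tensorPow hLEi s)).symm.trans hEE
  rw [hX', ← hE', ← hpow]
  constructor
  · intro h
    obtain ⟨c, hc⟩ := GGRange.mem_range_of_gg ψ hψ (isInvertible_tensorPow hLEi s) hO hr (by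
      rw [hO1, map_one, mk_tensorPow hLEi, ← pow_mul, mul_comm, pow_mul, (hpow r).2 dvd_rfl, one_pow]) h
    rw [mk_tensorPow hLEi] at hc
    rw [← hc, pic_one c, map_one]
  · intro h
    rw [← mk_tensorPow hLEi, mk_eq_one_iff] at h
    obtain ⟨e⟩ := h
    exact K660.Semi.gg_of_iso e.symm gg_structure

include hIE hE hOEi hOE hm hr htors hord h1 hL0i hL0a hng in
theorem point_two {Y : Scheme.{u}} {q : Y ⟶ Spec (CommRingCat.of k)} [IsProper q] {π : X ⟶ Y} (hπq : π ≫ q = f)
    (hπ : ∀ U : Y.Opens, IsIso (π.app U)) {M : Y.Modules} (hMi : PicF.IsInvertible M) (hMa : CohB1.IsAmple M)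
    {s : ℕ} (hs : 0 < s)
    (e : Nonempty ((Scheme.Modules.pullback π).obj M ≅ CohB1.tensorPow (Lm L0 OE m) s)) :
    ∃ pt : Spec (CommRingCat.of k) ⟶ Y, pt ≫ q = 𝟙 _ ∧ pt.ker.comap π = I ∧ BlowUp.IsBlowUp π pt.ker ∧
      ∀ n : ℕ, Module.length (Y.presheaf.stalk (pt (IsLocalRing.closedPoint k))) (AlgLen.Qn
        (Y.presheaf.stalk (pt (IsLocalRing.closedPoint k))) n) =
          (Module.finrank Γ(↑(I.subscheme), ⊤) (Coh.HH _ (CohB1.tensorPow
            ((Scheme.Modules.pullback I.subschemeι).obj (ClSub.idealMod I)) n) 0) : ℕ∞) := by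
  let ψ := I.subschemeι ≫ f
  have hψ := isIso_app ψ hE
  have hIi := Groth.Agent.Dix.IdealModCartier.isInvertible_idealMod hIE
  have hCi := isInvertible_pullback I.subschemeι hIi
  have hLi := inv_Lm hL0i hOEi m
  have hLEi := inv_LEm hL0i hOEi m I.subschemeι
  have hO : PicF.IsInvertible (Coh.structureModule (Spec (CommRingCat.of k))) := isInvertible_structureModule
  have hO1 : mk _ hO = 1 := (mk_eq_one_iff hO).2 ⟨Iso.refl _⟩
  have hf : Flat ψ := flat_spec ψ
  have hpow : ∀ s, mk _ hLEi ^ s = 1 ↔ r ∣ s := dvd_iff hr htors hord hLEi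
  obtain ⟨eG⟩ := (mk_eq_iff (isInvertible_pullback ψ hO) (isInvertible_tensorPow hLEi r)).1 (by
    rw [← pull_mk ψ hO, hO1, map_one, mk_tensorPow hLEi, (hpow r).2 dvd_rfl])
  obtain ⟨j, hjc, hjq, hj, hcomap, hbl, hn⟩ := PartTwo.part_two hL0i (CalgB.ProjImm.isRelAmple_of_isAmple hL0a) hIE
    hOEi hOE hm (g := 𝟙 _) (ψ := ψ) (Category.comp_id _) hψ hO (S4427.result _ _ hO) hr ⟨eG⟩
    (fun y n hn => prods_fiber ψ hCi (hng n hn) y)
    (fun y n hn => subsingleton_fiberH ψ (Models.TrivGeom.isCoh_of_isInvertible (isInvertible_tensorPow hCi n)).1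
      (h1 n hn) y) hπq hπ hMi (CalgB.ProjImm.isRelAmple_of_isAmple hMa) hs e
  refine ⟨j, hjq, hcomap, hbl, fun n => ?_⟩
  obtain ⟨-, ⟨e1⟩⟩ := hn n
  exact PointLen.length_stalk j ψ hψ e1 (finite_h0 ψ (Models.TrivGeom.isCoh_of_isInvertible (isInvertible_tensorPow hCi n)))

end main

end K946.PointCase
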