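import Groth.Agent.BSB.K946.NormGen
import Groth.Agent.Ega3B.TensRestrict
import Groth.Agent.Ega2.TensPow
import Groth.Agent.Ega1.QcqsPush

/-!
# Transfer of the surjectivity of multiplication of sections
-/

set_option autoImplicit false
universe u
open CategoryTheory CategoryTheory.Limits AlgebraicGeometry Opposite TopologicalSpace
open Groth.Agent.Fdesc.LocGen Groth.Agent

namespace K946.Transfer

open K946.NormGen

variable {X Y : Scheme.{u}} {L L' M M' : X.Modules}

theorem app_mem_prods (e : L ⟶ L') (e' : M ⟶ M') {U : X.Opens} {t : Γ(CohB1.tensorMod L M, U)}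
    (ht : t ∈ prods L M U) : (Ega2.Tens.mapT e e').app U t ∈ prods L' M' U := by
  induction ht using AddSubgroup.closure_induction with
  | mem t h =>
    obtain ⟨a, b, rfl⟩ := h
    have := Ega2.TensPow.mapT_tmul e e' a b
    exact this ▸ tmul_mem_prods _ _
  | zero =>
    rw [map_zero]
    exact zero_mem _
  | add t t' _ _ h h' =>
    rw [map_add]
    exact add_mem h h'
  | neg t _ h =>
    rw [map_neg]
    exact neg_mem h

theorem prods_of_iso (e : L ≅ L') (e' : M ≅ M') {U : X.Opens} (h : prods L M U = ⊤) : prods L' M' U = ⊤ := by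
  refine top_le_iff.1 fun t _ => ?_
  have h1 : (Ega2.Tens.mapT e.hom e'.hom).app U ((Ega2.Tens.mapTIso e e').inv.app U t) = t := by
    have h2 : ((Ega2.Tens.mapTIso e e').inv ≫ (Ega2.Tens.mapTIso e e').hom).app U t = t := by
      rw [Iso.inv_hom_id]
      rfl
    exact h2
  rw [← h1]
  refine app_mem_prods _ _ ?_
  rw [h]
  trivial

theorem res_mem_prods {U V : X.Opens} (hVU : V ≤ U) {t : Γ(CohB1.tensorMod L M, U)}
    (ht : t ∈ prods L M U) : res _ hVU t ∈ prods L M V := by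
  induction ht using AddSubgroup.closure_induction with
  | mem t h =>
    obtain ⟨a, b, rfl⟩ := h
    rw [res_tmul]
    exact tmul_mem_prods _ _
  | zero =>
    rw [map_zero]
    exact zero_mem _
  | add t t' _ _ h h' =>
    rw [map_add]
    exact add_mem h h'
  | neg t _ h =>
    rw [map_neg]
    exact neg_mem h

section Open

variable (U : X.Opens)

theorem fwd_mem_prods {t : Γ(CohB1.tensorMod (L.restrict U.ι) (M.restrict U.ι), ⊤)}
    (ht : t ∈ prods (L.restrict U.ι) (M.restrict U.ι) ⊤) :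
    (show Γ(CohB1.tensorMod L M, U.ι ''ᵁ ⊤) from (Ega3B.TensRestrict.fwd U.ι L M).app ⊤ t) ∈
      prods L M (U.ι ''ᵁ ⊤) := by
  induction ht using AddSubgroup.closure_induction with
  | mem t h =>
    obtain ⟨a, b, rfl⟩ := h
    have := Ega3B.TensRestrict.fwd_tmul U.ι L M ⊤ a b
    exact this ▸ tmul_mem_prods _ _
  | zero =>
    rw [map_zero]
    exact zero_mem _
  | add t t' _ _ h h' =>
    rw [map_add]
    exact add_mem h h'
  | neg t _ h =>
    rw [map_neg]
    exact neg_mem h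

theorem prods_of_restrict (h : prods (L.restrict U.ι) (M.restrict U.ι) ⊤ = ⊤) : prods L M U = ⊤ := by
  have h0 : U.ι ''ᵁ ⊤ ≤ U := by rw [Scheme.Opens.ι_image_top]
  have h0' : U ≤ U.ι ''ᵁ ⊤ := by rw [Scheme.Opens.ι_image_top]
  refine top_le_iff.1 fun t _ => ?_
  let t1 : Γ((CohB1.tensorMod L M).restrict U.ι, ⊤) := show Γ(CohB1.tensorMod L M, U.ι ''ᵁ ⊤) from res _ h0 t
  have h1 : (Ega3B.TensRestrict.fwd U.ι L M).app ⊤ ((Ega3B.TensRestrict.bwd U.ι L M).app ⊤ t1) = t1 := by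
    have h2 : (Ega3B.TensRestrict.bwd U.ι L M ≫ Ega3B.TensRestrict.fwd U.ι L M).app ⊤ t1 = t1 := by
      rw [Ega3B.TensRestrict.bwd_fwd]
      rfl
    exact h2
  have h2 := fwd_mem_prods (L := L) (M := M) U (t := (Ega3B.TensRestrict.bwd U.ι L M).app ⊤ t1) (by
    rw [h]
    trivial)
  have h3 := res_mem_prods h0' h2
  rw [h1] at h3
  have h4 : res (CohB1.tensorMod L M) h0' (show Γ(CohB1.tensorMod L M, U.ι ''ᵁ ⊤) from t1) = t := by
    change res (CohB1.tensorMod L M) h0' (res _ h0 t) = t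
    rw [res_res, res_refl]
  rwa [h4] at h3

end Open

/-- Passing to a basic open of the base. -/
theorem prods_basicOpen (f : X ⟶ Y) [QuasiCompact f] [QuasiSeparated f] (hLM : Coh.IsQCoh (CohB1.tensorMod L M))
    {W : Y.Opens} (hW : IsAffineOpen W) (a : Γ(Y, W))
    (h : ∀ t : Γ(CohB1.tensorMod L M, f ⁻¹ᵁ W), ∃ k : ℕ, (f.app W a) ^ k • t ∈ prods L M (f ⁻¹ᵁ W)) :
    prods L M (f ⁻¹ᵁ Y.basicOpen a) = ⊤ := by
  refine top_le_iff.1 fun t _ => ?_
  have hle : f ⁻¹ᵁ Y.basicOpen a ≤ f ⁻¹ᵁ W := f.preimage_mono (Y.basicOpen_le a)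
  have hQ : Coh.IsQCoh ((Scheme.Modules.pushforward f).obj (CohB1.tensorMod L M)) :=
    Groth.Agent.Ega1.QcqsPush.isQCoh_pushforward f _ hLM
  obtain ⟨n, m, hm'⟩ : ∃ (n : ℕ) (m : Γ(CohB1.tensorMod L M, f ⁻¹ᵁ W)), res (CohB1.tensorMod L M) hle m =
      (f.app (Y.basicOpen a) (ores (Y.basicOpen_le a) a ^ n) : Γ(X, f ⁻¹ᵁ Y.basicOpen a)) • t :=
    Groth.Agent.Fdesc.QCohStalk.exists_map_eq_pow_smul _ hW hQ a
    (show Γ((Scheme.Modules.pushforward f).obj (CohB1.tensorMod L M), Y.basicOpen a) from t)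
  obtain ⟨k, hk⟩ := h m
  have h1 := res_mem_prods hle hk
  have hnat : (ores hle (f.app W a) : Γ(X, f ⁻¹ᵁ Y.basicOpen a)) = f.app (Y.basicOpen a) (ores (Y.basicOpen_le a) a) :=
    (congr(($(f.naturality (homOfLE (Y.basicOpen_le a)).op)).hom a)).symm
  rw [res_smul, hm', map_pow, hnat, map_pow, smul_smul, ← pow_add] at h1
  have hu : IsUnit (ores (Y.basicOpen_le a) a : Γ(Y, Y.basicOpen a)) := RingedSpace.isUnit_res_basicOpen _ a
  obtain ⟨b, hb⟩ := ((hu.map (f.app (Y.basicOpen a)).hom).pow (k + n)).exists_left_inv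
  have h2 := smul_mem_prods b h1
  rw [smul_smul, hb, one_smul] at h2
  exact h2

end K946.Transfer
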