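import Groth.Agent.BSB.K946.IdPow
import Groth.Agent.BSB.K946.Transfer

/-!
# Powers of the ideal of global sections
-/

set_option autoImplicit false
universe u
open CategoryTheory CategoryTheory.Limits AlgebraicGeometry Opposite TopologicalSpace
open Groth.Agent.Fdesc.LocGen Groth.Agent

namespace K946.Pow

open K946.NormGen K946.IdPow PerfA.IdealModule VarietyB.RestrSeq CohqB.FiniteType2

variable {X : Scheme.{u}} {I : X.IdealSheafData}

theorem pv_powAdd_mem (m n : ℕ) {U : X.Opens} {t : Γ(CohB1.tensorMod (P I m) (P I n), U)}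
    (ht : t ∈ prods (P I m) (P I n) U) :
    pv I (m + n) ((Ega2.TensPow.powAdd (ClSub.idealMod I) m n).hom.app U t) ∈ AP I m U * AP I n U := by
  induction ht using AddSubgroup.closure_induction with
  | mem t h =>
    obtain ⟨a, b, rfl⟩ := h
    rw [pv_powAdd]
    exact Ideal.mul_mem_mul (pv_mem I m a) (pv_mem I n b)
  | zero =>
    rw [map_zero, pv_zero']
    exact zero_mem _
  | add t t' _ _ h h' =>
    rw [map_add, pv_add]
    exact add_mem h h'
  | neg t _ h =>
    rw [map_neg, pv_neg]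
    exact neg_mem h

theorem AP_add_le (m n : ℕ) {U : X.Opens} (h : prods (P I m) (P I n) U = ⊤) :
    AP I (m + n) U ≤ AP I m U * AP I n U := by
  rintro _ ⟨x, rfl⟩
  have h1 : (Ega2.TensPow.powAdd (ClSub.idealMod I) m n).hom.app U
      ((Ega2.TensPow.powAdd (ClSub.idealMod I) m n).inv.app U x) = x := by
    have h2 : ((Ega2.TensPow.powAdd (ClSub.idealMod I) m n).inv ≫
      (Ega2.TensPow.powAdd (ClSub.idealMod I) m n).hom).app U x = x := by
      rw [Iso.inv_hom_id]
      rfl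
    exact h2
  have h3 := pv_powAdd_mem m n (t := (Ega2.TensPow.powAdd (ClSub.idealMod I) m n).inv.app U x) (h ▸ trivial)
  rw [h1] at h3
  exact h3

theorem exists_AP_le (U : X.Opens) {A : Type u} [CommRing A] [IsNoetherianRing A]
    (g : U.toScheme ⟶ Spec (CommRingCat.of A)) [IsProper g]
    (ha : CohB1.IsAmple ((ClSub.idealMod I).restrict U.ι)) :
    ∃ d : ℕ, 1 ≤ d ∧ Curv2.IsGloballyGenerated (CohB1.tensorPow ((ClSub.idealMod I).restrict U.ι) d) ∧
      ∃ n₀ : ℕ, ∀ n, n₀ ≤ n → AP I (n + d) U ≤ AP I n U * AP I d U := by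
  have hN : IsLocallyNoetherian U.toScheme := LocallyOfFiniteType.isLocallyNoetherian g
  have hq : QuasiSeparatedSpace U.toScheme := quasiSeparatedSpace_of_quasiSeparated g
  obtain ⟨d, hd, hgg⟩ := UnifTwo.exists_gg ha
  refine ⟨d, hd, hgg, ?_⟩
  obtain ⟨n₀, hn₀⟩ := MulSurj.exists_mul_surj g (isInvertible_tensorPow ha.1 d) hgg ha
  refine ⟨n₀, fun n hn => AP_add_le n d (Transfer.prods_of_restrict _ ?_)⟩
  obtain ⟨e⟩ := Ega3B.TensRestrict.restrictPowIso U.ι (ClSub.idealMod I) n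
  obtain ⟨e'⟩ := Ega3B.TensRestrict.restrictPowIso U.ι (ClSub.idealMod I) d
  exact Transfer.prods_of_iso e.symm e'.symm (hn₀ n hn)

theorem AP_eq_pow (hI : PicF.IsInvertible (ClSub.idealMod I)) (U : X.Opens) {A : Type u} [CommRing A]
    [IsNoetherianRing A] (g : U.toScheme ⟶ Spec (CommRingCat.of A)) [IsProper g]
    (ha : CohB1.IsAmple ((ClSub.idealMod I).restrict U.ι))
    (h1 : ∀ n, 1 ≤ n → Subsingleton (Coh.HHon X (P I n) U 1))
    (hng : ∀ n, 1 ≤ n → prods ((Scheme.Modules.pullback I.subschemeι).obj (P I n))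
      ((Scheme.Modules.pullback I.subschemeι).obj (ClSub.idealMod I)) (I.subschemeι ⁻¹ᵁ U) = ⊤) (n : ℕ) :
    AP I n U = AP I 1 U ^ n := by
  obtain ⟨d, hd, -, n₀, hn₀⟩ := exists_AP_le U g ha
  have h2 : Subsingleton (Coh.HHon X (CohB1.tensorMod (ClSub.idealMod I) (ClSub.idealMod I)) U 1) :=
    CohqA.UnifVan.subsingleton_of_iso ((Scheme.Modules.restrictFunctor U.ι).mapIso
      (Ega2.Tens.mapTIso (Ega2.TensPow.powOne (ClSub.idealMod I)) (Iso.refl _))) 1 (h1 2 (by norm_num))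
  exact eq_pow (fun n => AP I n U) (AP_zero I U) (fun m n => AP_mul_le I m n U) (fun n => AP_succ_le I n U)
    (fun n hn => ng_step hI n (h1 (n + 1) (by omega)) h2 (hng n hn)) hd hn₀ n

end K946.Pow
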