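import Groth.Agent.Ega2.TensPow
import Groth.Agent.CohqA.UnifVanAmple

/-!
# The graded system `F ⊗ P^n` with the operators "multiplication by a global section of `P`"
-/

set_option autoImplicit false
universe u
open CategoryTheory CategoryTheory.Limits AlgebraicGeometry Opposite TopologicalSpace
open Groth.Agent.Fdesc.LocGen Groth.Agent

namespace K946.SecGr

variable {X : Scheme.{u}}

/-- Multiplication by a global section, `P^n ⟶ P^n ⊗ P`. -/
noncomputable def mulS {N P : X.Modules} (s : Coh.structureModule X ⟶ P) : N ⟶ CohB1.tensorMod N P :=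
  (Ega2.Tens.runit N).inv ≫ Ega2.Tens.mapT (𝟙 N) s

theorem mulS_app {N P : X.Modules} (s : Coh.structureModule X ⟶ P) {U : X.Opens} (n : Γ(N, U)) :
    (mulS (N := N) s).app U n = tmul n (sec s U) := by
  have h1 : (Ega2.Tens.runit N).inv.app U n = tmul n (one U) := by
    have h2 := Ega2.TensPow.symm_app_app (Ega2.Tens.runit N) (tmul n (one U))
    rw [Ega2.TensPow.runit_tmul] at h2
    exact h2
  change (Ega2.Tens.mapT (𝟙 N) s).app U ((Ega2.Tens.runit N).inv.app U n) = _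
  rw [h1, Ega2.TensPow.mapT_tmul]
  rfl

/-- sections of a tensor product which agree locally. -/
theorem ext_loc {M : X.Modules} {U : X.Opens} (s t : Γ(M, U))
    (h : ∀ x ∈ U, ∃ (V : X.Opens) (hV : V ≤ U), x ∈ V ∧ res M hV s = res M hV t) : s = t := by
  refine Ega2.Tens.eq_of_locally_eq M s t fun x hx => ?_
  obtain ⟨V, hV, hxV, h⟩ := h x hx
  exact ⟨V, homOfLE hV, hxV, h⟩

theorem res_tmul' {M N : X.Modules} {U V : X.Opens} (h : V ≤ U) (m : Γ(M, U)) (n : Γ(N, U)) :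
    res _ h (tmul m n) = tmul (res M h m) (res N h n) :=
  Ega2.Tens.tmul_res (homOfLE h) m n

theorem tmul_comm₂ {N P : X.Modules} (hP : PicF.IsInvertible P) {U : X.Opens} (p : Γ(N, U)) (a b : Γ(P, U)) :
    tmul (tmul p a) b = tmul (tmul p b) a := by
  refine ext_loc _ _ fun x hx => ?_
  obtain ⟨V, e, hxV, he⟩ := (isInvertible_iff P).1 hP x
  have hVU : V ⊓ U ≤ U := inf_le_right
  have he' := he.res (inf_le_left : V ⊓ U ≤ V)
  obtain ⟨α, hα⟩ := he'.exists_eq (res P hVU a)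
  obtain ⟨β, hβ⟩ := he'.exists_eq (res P hVU b)
  refine ⟨V ⊓ U, hVU, ⟨hxV, hx⟩, ?_⟩
  rw [res_tmul', res_tmul', res_tmul', res_tmul', hα, hβ]
  simp only [tmul_smul, smul_tmul, smul_smul]
  rw [mul_comm]

variable (F : X.Modules) {P : X.Modules} (hP : PicF.IsInvertible P) {ι : Type}
  (s : ι → (Coh.structureModule X ⟶ P))

open FormalB.GrAbs

/-- The graded system. -/
noncomputable def gr : Gr X.Modules ι where
  obj n := CohB1.tensorMod F (CohB1.tensorPow P n)
  x i n := Ega2.Tens.mapT (𝟙 F) (mulS (N := CohB1.tensorPow P n) (s i))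
  comm i j n := by
    refine Ega2.Tens.hom_ext _ _ fun U f p => ?_
    change (Ega2.Tens.mapT (𝟙 F) (mulS (s j))).app U ((Ega2.Tens.mapT (𝟙 F) (mulS (s i))).app U (tmul f p)) =
      (Ega2.Tens.mapT (𝟙 F) (mulS (s i))).app U ((Ega2.Tens.mapT (𝟙 F) (mulS (s j))).app U (tmul f p))
    rw [Ega2.TensPow.mapT_tmul, Ega2.TensPow.mapT_tmul, Ega2.TensPow.mapT_tmul, Ega2.TensPow.mapT_tmul,
      mulS_app, mulS_app]
    erw [mulS_app, mulS_app]
    congr 1
    exact tmul_comm₂ hP _ _ _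

omit hP in
theorem eq_zero_of_mulS {ι : Type} {F N P Z : X.Modules} (s : ι → (Coh.structureModule X ⟶ P))
    (hs : ∀ x : X, ∃ i, x ∈ CohB1.genLocus P (s i)) (f : CohB1.tensorMod F (CohB1.tensorMod N P) ⟶ Z)
    (hf : ∀ i, Ega2.Tens.mapT (𝟙 F) (mulS (N := N) (s i)) ≫ f = 0) : f = 0 := by
  have key : ∀ (i : ι) (W : X.Opens) (t' : Γ(F, W)) (p' : Γ(N, W)),
      f.app W (tmul t' (tmul p' (sec (s i) W))) = 0 := by
    intro i W t' p'
    have h1 : (Ega2.Tens.mapT (𝟙 F) (mulS (N := N) (s i)) ≫ f).app W (tmul t' p') = 0 := by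
      rw [hf i]
      rfl
    change f.app W ((Ega2.Tens.mapT (𝟙 F) (mulS (s i))).app W (tmul t' p')) = 0 at h1
    rw [Ega2.TensPow.mapT_tmul, mulS_app] at h1
    exact h1
  refine Ega2.Tens.hom_ext₃' _ _ fun U t p q => ?_
  refine ext_loc _ _ fun x hx => ?_
  obtain ⟨i, hi⟩ := hs x
  let V := CohB1.genLocus P (s i) ⊓ U
  have hVU : V ≤ U := inf_le_right
  have he := (isGen_sec_genLocus (s i)).res (inf_le_left : V ≤ _)
  rw [res_sec] at he
  obtain ⟨α, hα⟩ := he.exists_eq (res P hVU q)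
  refine ⟨V, hVU, ⟨hi, hx⟩, ?_⟩
  have h2 : res Z hVU (f.app U (tmul t (tmul p q))) = 0 := by
    rw [← Fdesc.LocGen.app_res, res_tmul', res_tmul', hα, tmul_smul, tmul_smul,
      Scheme.Modules.Hom.app_smul, key, smul_zero]
  exact h2.trans (map_zero _).symm

theorem gen_gr (hs : ∀ x : X, ∃ i, x ∈ CohB1.genLocus P (s i)) : (gr F hP s).Gen :=
  ⟨0, fun _ _ _ f hf => eq_zero_of_mulS s hs f hf⟩

end K946.SecGr
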